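import Cfsg.Agent.Lib.Known.SpinMult.Cover

/-!
# Frames of the standard split forms and elements inducing minus one
-/

set_option autoImplicit false
set_option linter.unusedSectionVars false

namespace CfsgLib.Known.SpinMult

open QuadraticMap CfsgLib.Classical.Quad

noncomputable section

section Standard

variable (F : Type*) [Field F] (m : ℕ)

/-- the frame of `Σ xᵢ yᵢ` -/
def framePlus : Frame (qPlus m F) m (Fin 0) where
  e := (Pi.basisFun F (Idx m)).reindex (Equiv.emptySum (Fin 0) (Idx m)).symm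
  sing a := by rcases a with i | i <;> simp [coe_qPlus, Cfsg.quadFormPlus, Pi.single_apply]
  pair a b := by
    rcases a with i | i <;> rcases b with j | j <;> simp [polar_qPlus, Pi.single_apply, eq_comm]
  cross s := s.elim0
  qs s := s.elim0
  sub s := s.elim0
  two s := s.elim0

/-- the frame of `x₀² + Σ xᵢ yᵢ` -/
def frameOdd (h2 : (2 : F) ≠ 0) : Frame (qOdd m F) m Unit where
  e := Pi.basisFun F (Unit ⊕ Idx m)
  sing a := by rcases a with i | i <;> simp [coe_qOdd, Cfsg.quadFormOdd, Pi.single_apply]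
  pair a b := by
    rcases a with i | i <;> rcases b with j | j <;>
      simp [polar_qOdd, polar_qPlus, Pi.single_apply, eq_comm, Function.comp_def]
  cross s a := by rcases a with i | i <;> simp [polar_qOdd, polar_qPlus, Pi.single_apply, Function.comp_def]
  qs s := by simp [coe_qOdd, Cfsg.quadFormOdd, Pi.single_apply]
  sub _ _ := rfl
  two _ := h2

end Standard

variable {F : Type*} [Field F] {V : Type*} [AddCommGroup V] [Module F V] {Q : QuadraticForm F V} {m : ℕ}
  {S : Type} [Fintype S] [DecidableEq S] {fr : Frame Q m S}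

/-- weights `-1` on the first coordinates -/
def dPre (S : Type) (m n : ℕ) : S ⊕ Idx m → F :=
  Sum.elim (fun _ => 1) fun x => if (und x).val < n then -1 else 1

theorem dPre_inl (x : Fin m) (n : ℕ) :
    dPre (F := F) S m n (Sum.inr (Sum.inl x)) = if x.val < n then -1 else 1 := rfl

theorem dPre_inr (x : Fin m) (n : ℕ) :
    dPre (F := F) S m n (Sum.inr (Sum.inr x)) = if x.val < n then -1 else 1 := rfl

variable (fr) in
theorem exists_pre (k : ℕ) (hk : 2 * k ≤ m) : ∃ T, IsTor fr T (dPre S m (2 * k)) ∧ T * T = 1 := by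
  induction k with
  | zero =>
    have h0 : dPre S m (2 * 0) = fun _ => (1 : F) := by
      funext j; rcases j with s | x <;> simp [dPre]
    refine ⟨1, ⟨?_, fun s => by rw [h0], fun g _ _ => Commute.one_right g⟩, one_mul _⟩
    rw [h0]; exact isMon_one (fr := fr)
  | succ k ih =>
    obtain ⟨T, hT, hT2⟩ := ih (by omega)
    obtain ⟨q, hq⟩ : ∃ q : Root S m, q.1 =
        (Sum.inl ⟨2 * k, by omega⟩, Sum.inr (Sum.inl ⟨2 * k + 1, by omega⟩)) :=
      ⟨⟨(Sum.inl ⟨2 * k, by omega⟩, Sum.inr (Sum.inl ⟨2 * k + 1, by omega⟩)), by simp, by simp⟩, rfl⟩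
    have hC := isTor_cor (fr := fr) q (neg_ne_zero.2 (one_ne_zero (α := F)))
    have hc : Commute T (cor fr q (-1)) := hC.comm T _ hT.mon
    refine ⟨T * cor fr q (-1), ?_, ?_⟩
    · convert hT.mul hC using 1
      funext j
      rcases j with s | (x | x)
      · simp [dPre, hD, hq]
      · simp only [dPre_inl, hD, hq, Sum.elim_inr, Sum.swap_inl, Sum.inl.injEq, reduceCtorEq, or_false, false_or,
          if_false, Fin.ext_iff]
        split_ifs <;> first | (exfalso; omega) | simp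
      · simp only [dPre_inr, hD, hq, Sum.elim_inr, Sum.swap_inl, Sum.inr.injEq, reduceCtorEq, or_false, false_or,
          if_false, Fin.ext_iff]
        split_ifs <;> first | (exfalso; omega) | simp
    · rw [hc.symm.mul_mul_mul_comm, hT2, one_mul, cor_mul fr q (neg_ne_zero.2 one_ne_zero) (neg_ne_zero.2 one_ne_zero),
        neg_mul_neg, one_mul, cor_one]

theorem ap_of_mon {g : Spin fr} {d : S ⊕ Idx m → F} (h : IsMon fr g 1 d) {c : F} (hd : ∀ j, d j = c) (z : V) :
    ap fr g z = c • z := by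
  have : (ap fr g : V →ₗ[F] V) = c • LinearMap.id := fr.e.ext fun j => by
    show ap fr g (fr.e j) = c • fr.e j
    rw [h.2 j, hd, show Sum.map id (⇑(1 : Equiv.Perm (Idx m))) j = j by cases j <;> rfl]
  exact LinearMap.congr_fun this z

variable (fr) [IsEmpty S]

theorem exists_omega_even (hm : Even m) : ∃ ω : Spin fr, (∀ z, ap fr ω z = (-1 : F) • z) ∧ ω * ω = 1 := by
  obtain ⟨k, hk⟩ := hm
  obtain ⟨T, hT, hT2⟩ := exists_pre fr k (by omega)
  refine ⟨T, ap_of_mon hT.mon fun j => ?_, hT2⟩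
  rcases j with s | x
  · exact isEmptyElim s
  · have := (und x).isLt
    rw [dPre, Sum.elim_inr, if_pos (by omega)]

theorem exists_omega_odd (hm : Odd m) (hm2 : 2 ≤ m) {i : F} (hi : i * i = -1) :
    ∃ ω : Spin fr, (∀ z, ap fr ω z = (-1 : F) • z) ∧ val fr (ω * ω) = -1 := by
  obtain ⟨k, hk⟩ := hm
  obtain ⟨T, hT, hT2⟩ := exists_pre fr k (by omega)
  have hi0 : i ≠ 0 := fun e => by rw [e, mul_zero] at hi; exact one_ne_zero (neg_eq_zero.1 hi.symm)
  obtain ⟨a, ha⟩ : ∃ a : Idx m, a = Sum.inl ⟨2 * k, by omega⟩ := ⟨_, rfl⟩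
  obtain ⟨b, hb⟩ : ∃ b : Idx m, b = Sum.inl ⟨0, by omega⟩ := ⟨_, rfl⟩
  obtain ⟨q, hq⟩ : ∃ q : Root S m, q.1 = (a, Sum.inr b) :=
    ⟨⟨(a, Sum.inr b), by simp [ha, hb, Fin.ext_iff]; omega, by simp [ha, hb]⟩, rfl⟩
  obtain ⟨r, hr⟩ : ∃ r : Root S m, r.1 = (a, Sum.inr b.swap) :=
    ⟨⟨(a, Sum.inr b.swap), by simp [ha, hb], by simp [ha, hb, Fin.ext_iff]; omega⟩, rfl⟩
  have hq' := isTor_cor (fr := fr) q hi0
  have hr' := isTor_cor (fr := fr) r hi0
  have hc1 : Commute (cor fr q i) (cor fr r i) := hr'.comm _ _ hq'.mon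
  have hW := hq'.mul hr'
  have hc2 : Commute T (cor fr q i * cor fr r i) := hW.comm T _ hT.mon
  refine ⟨T * (cor fr q i * cor fr r i), ap_of_mon (hT.mul hW).mon fun j => ?_, ?_⟩
  · have hinv : i⁻¹ * i⁻¹ = -1 := by rw [← mul_inv, hi, inv_neg, inv_one]
    rcases j with s | (x | x)
    · exact isEmptyElim s
    · have := x.isLt
      simp only [dPre_inl, hD, hq, hr, ha, hb, Sum.elim_inr, Sum.swap_inl, Sum.swap_inr, Sum.inl.injEq, reduceCtorEq,
        or_false, false_or, if_false, Fin.ext_iff]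
      split_ifs <;> first | (exfalso; omega) | simp [hi, hi0]
    · have := x.isLt
      simp only [dPre_inr, hD, hq, hr, ha, hb, Sum.elim_inr, Sum.swap_inl, Sum.swap_inr, Sum.inr.injEq, reduceCtorEq,
        or_false, false_or, if_false, Fin.ext_iff]
      split_ifs <;> first | (exfalso; omega) | simp [hinv, hi0]
  · rw [hc2.symm.mul_mul_mul_comm, hT2, one_mul, hc1.symm.mul_mul_mul_comm, cor_mul fr q hi0 hi0, cor_mul fr r hi0 hi0, hi]
    exact neg_one_long fr q r hq hr

theorem exists_neg_one_long (hm : 2 ≤ m) : ∃ z : Spin fr, val fr z = -1 := by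
  obtain ⟨q, hq⟩ : ∃ q : Root S m, q.1 = (Sum.inl ⟨0, by omega⟩, Sum.inr (Sum.inl ⟨1, by omega⟩)) :=
    ⟨⟨(Sum.inl ⟨0, by omega⟩, Sum.inr (Sum.inl ⟨1, by omega⟩)), by simp, by simp⟩, rfl⟩
  obtain ⟨r, hr⟩ : ∃ r : Root S m, r.1 = (Sum.inl ⟨0, by omega⟩, Sum.inr (Sum.inl (β := Fin m) ⟨1, by omega⟩).swap) :=
    ⟨⟨(Sum.inl ⟨0, by omega⟩, Sum.inr (Sum.inr ⟨1, by omega⟩)), by simp, by simp⟩, rfl⟩
  exact ⟨_, neg_one_long fr q r hq hr⟩

end

end CfsgLib.Known.SpinMult
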