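import Cfsg.Agent.Lib.Known.SpinMult.Torus
import Cfsg.Agent.Lib.Known.SympMult.Tools

/-!
# Lifts of root elements to central extensions by means of torus elements
-/

set_option autoImplicit false
set_option linter.unusedSectionVars false

namespace CfsgLib.Known.SpinMult

noncomputable section

open QuadraticMap CfsgLib.Classical.Quad CfsgLib.Known.SympMult
open scoped commutatorElement

variable {F : Type*} [Field F] {V : Type*} [AddCommGroup V] [Module F V] {Q : QuadraticForm F V} {m : ℕ}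
  {S : Type} [Fintype S] [DecidableEq S] {fr : Frame Q m S}

/-- torus elements -/
structure IsTor (fr : Frame Q m S) (T : Spin fr) (d : S ⊕ Idx m → F) : Prop where
  mon : IsMon fr T 1 d
  short : ∀ s, d (Sum.inl s) = 1
  comm : ∀ g d', IsMon fr g 1 d' → Commute g T

/-- weight of a root -/
def lam (d : S ⊕ Idx m → F) (q : Root S m) : F := d (Sum.inr q.1.1) * d q.1.2

theorem move_one (q : Root S m) (h : ∀ a : Idx m, (1 : Equiv.Perm (Idx m)) a.swap = ((1 : Equiv.Perm (Idx m)) a).swap) :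
    q.move 1 h = q := by
  refine Subtype.ext (Prod.ext rfl ?_)
  show Sum.map id (⇑(1 : Equiv.Perm (Idx m))) q.1.2 = q.1.2
  rcases q.1.2 with s | b <;> rfl

theorem mon_conj {g : Spin fr} {d : S ⊕ Idx m → F} (h : IsMon fr g 1 d) (q : Root S m) (t : F) :
    g * rt fr q t * g⁻¹ = rt fr q (lam d q * t) := by
  rw [h.conj_rt, move_one]; rfl

theorem weyl_inv (q : Root S m) (c : F) :
    (rt fr q c * nt fr q (-c⁻¹) * rt fr q c)⁻¹ = rt fr q (-c) * nt fr q (-(-c)⁻¹) * rt fr q (-c) := by
  simp only [nt, mul_inv_rev, ← rt_neg, inv_neg, neg_neg, mul_assoc]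

theorem cor_one (q : Root S m) : cor fr q 1 = 1 := by
  rw [cor, show rt fr q (-1) * nt fr q 1 * rt fr q (-1) = (rt fr q 1 * nt fr q (-1⁻¹) * rt fr q 1)⁻¹ by
    rw [weyl_inv, inv_neg, inv_one, neg_neg], mul_inv_cancel]

/-- coroot elements are torus elements -/
theorem isTor_cor (q : Root S m) {c : F} (hc : c ≠ 0) : IsTor fr (cor fr q c) (hD q c) := by
  refine ⟨isMon_cor fr q hc, fun s => ?_, fun g d' hg => ?_⟩
  · unfold hD; rcases q.1.2 with s' | b <;> simp
  obtain ⟨μ, hμd⟩ : ∃ μ, μ = lam d' q := ⟨_, rfl⟩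
  have hμ : μ ≠ 0 := hμd ▸ mul_ne_zero (hg.d_ne _) (hg.d_ne _)
  have hr : ∀ t, g * rt fr q t * g⁻¹ = rt fr q (μ * t) := fun t => hμd ▸ mon_conj hg q t
  have hn : ∀ t, g * nt fr q t * g⁻¹ = nt fr q (t / μ) := fun t => by
    rw [hg.conj_nt, move_one, hμd]; rfl
  obtain ⟨W, hWd⟩ : ∃ W : F → Spin fr, W = fun x => rt fr q x * nt fr q (-x⁻¹) * rt fr q x := ⟨_, rfl⟩
  have hWi : ∀ x, (W x)⁻¹ = W (-x) := fun x => by rw [hWd]; exact weyl_inv q x
  have hWc : ∀ x, cor fr q x = W x * W (-1) := fun x => by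
    rw [hWd]; simp only [cor, inv_neg, inv_one, neg_neg]
  have hW : ∀ x, g * W x * g⁻¹ = W (μ * x) := fun x => by
    rw [hWd]
    simp only
    rw [← conj_mul, ← conj_mul, hr, hn]
    congr 3
    rw [mul_inv, neg_div, div_eq_mul_inv, mul_comm]
  rw [commute_iff_eq, ← mul_inv_eq_iff_eq_mul]
  calc g * cor fr q c * g⁻¹ = W (μ * c) * W (μ * -1) := by rw [hWc, ← conj_mul, hW, hW]
    _ = cor fr q (μ * c) * (cor fr q μ)⁻¹ := by rw [hWc, hWc, mul_inv_rev, hWi μ, mul_neg_one]; group
    _ = cor fr q c := by rw [← cor_mul fr q hμ hc, mul_inv_eq_iff_eq_mul, cor_mul fr q hμ hc, cor_mul fr q hc hμ, mul_comm]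

theorem IsTor.mul {T T' : Spin fr} {d d' : S ⊕ Idx m → F} (h : IsTor fr T d) (h' : IsTor fr T' d') :
    IsTor fr (T * T') (fun j => d j * d' j) := by
  refine ⟨?_, fun s => by simp [h.short s, h'.short s], fun g e hg => (h.comm g e hg).mul_right (h'.comm g e hg)⟩
  have := h.mon.mul h'.mon
  rw [one_mul] at this
  convert this using 1
  funext j
  cases j <;> rfl

variable {Γ : Type*} [Group Γ] {π : Γ →* Spin fr} (C : CExt π)

/-- lifts of two root families commute -/
def Cmt (q r : Root S m) : Prop := ∀ t u, C.cm (rt fr q t) (rt fr r u) = 1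

theorem Cmt.symm {q r : Root S m} (h : Cmt C q r) : Cmt C r q := fun t u => by
  rw [← C.cm_inv, h u t, inv_one]

theorem Cmt.commute {q r : Root S m} (h : Cmt C q r) {x y : Γ} {t u : F} (hx : π x = rt fr q t)
    (hy : π y = rt fr r u) : Commute x y := C.commute_of_cm hx hy (h t u)

theorem Cmt.flip_right {q r : Root S m} (h : Cmt C q r) (b : Idx m) (hb : r.1.2 = Sum.inr b) :
    Cmt C q (r.flipPair b hb) := fun t u => by rw [rt_flipPair]; exact h t _

/-- a torus element separating two commuting families -/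
theorem cmt_of_scale {q r : Root S m} (hc : ∀ t u, Commute (rt fr q t) (rt fr r u)) {T : Spin fr}
    {d : S ⊕ Idx m → F} (hT : IsTor fr T d) (hr : lam d r = 1) (hq : lam d q ≠ 1) : Cmt C q r := by
  intro t u
  obtain ⟨v, rfl⟩ : ∃ v, t = (lam d q - 1) * v := ⟨t / (lam d q - 1), by
    rw [mul_div_cancel₀ _ (sub_ne_zero.2 hq)]⟩
  have h1 := C.cm_conj_eq (hc v u) T
  rw [mon_conj hT.mon, mon_conj hT.mon, hr, one_mul,
    show lam d q * v = (lam d q - 1) * v + v by ring, ← rt_add, C.cm_add_left (hc v u)] at h1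
  exact mul_eq_left.1 h1

/-- a family commuting with two others commutes with their brackets -/
theorem cm_bracket {g A B : Spin fr} (hA : Commute g A) (hB : Commute g B) : C.cm g ⁅A, B⁆ = 1 := by
  rw [← C.comm_eq (C.σ_lf g) (show π ⁅C.lf A, C.lf B⁆ = ⁅A, B⁆ by rw [map_commutatorElement, C.σ_lf, C.σ_lf]),
    commutatorElement_eq_one_iff_commute, commute_iff_eq, ← mul_inv_eq_iff_eq_mul]
  rw [show C.lf g * ⁅C.lf A, C.lf B⁆ * (C.lf g)⁻¹ =
      ⁅C.lf g * C.lf A * (C.lf g)⁻¹, C.lf g * C.lf B * (C.lf g)⁻¹⁆ by simp only [commutatorElement_def]; group]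
  rw [C.comm_eq (g := A) (h := B)
    (by rw [map_mul, map_mul, map_inv, C.σ_lf, C.σ_lf, hA.eq, mul_inv_cancel_right])
    (by rw [map_mul, map_mul, map_inv, C.σ_lf, C.σ_lf, hB.eq, mul_inv_cancel_right]),
    C.comm_eq (C.σ_lf A) (C.σ_lf B)]

/-- enough torus elements and trivial commutators -/
structure Seps : Prop where
  flat : ∀ q r : Root S m, r.1.1 ≠ q.1.1.swap → Sum.inr r.1.1 ≠ swapJ q.1.2 → r.1.2 ≠ Sum.inr q.1.1.swap →
    r.1.2 ≠ swapJ q.1.2 → Cmt C q r
  same : ∀ (q r : Root S m) (a b : Idx m), q.1 = (a, Sum.inr b) → r.1 = (a, Sum.inr b.swap) → Cmt C q r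
  self : ∀ (q : Root S m) (a : Idx m) (x : S), q.1 = (a, Sum.inl x) → Cmt C q q
  each : ∀ q : Root S m, ∃ T d, IsTor fr T d ∧ lam d q ≠ 1
  long : ∀ (q r k : Root S m) (a w b : Idx m), q.1 = (a, Sum.inr w.swap) → r.1 = (w, Sum.inr b) →
    k.1 = (a, Sum.inr b) → ∃ T d, IsTor fr T d ∧ lam d r = 1 ∧ lam d q ≠ 1
  mixed : ∀ (q r k l : Root S m) (a w : Idx m) (x : S), q.1 = (a, Sum.inr w.swap) → r.1 = (w, Sum.inl x) →
    k.1 = (a, Sum.inl x) → l.1 = (a, Sum.inr w) → ∃ T d, IsTor fr T d ∧ lam d r = 1 ∧ lam d q ≠ 1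
  short : ∀ (q r l : Root S m) (a w : Idx m) (x : S), q.1 = (a, Sum.inl x) → r.1 = (w, Sum.inl x) →
    l.1 = (w, Sum.inr a) → ∃ T d, IsTor fr T d ∧ lam d r = 1 ∧ lam d q ≠ 1

variable {C} (H : Seps C)
include H

theorem Seps.cmt_self (q : Root S m) : Cmt C q q := by
  rcases hj : q.1.2 with s | b
  · exact H.self q q.1.1 s (Prod.ext rfl hj)
  · have h1 : b ≠ q.1.1 := fun e => q.2.1 (by rw [hj, e])
    have h2 : b ≠ q.1.1.swap := fun e => q.2.2 (by rw [hj, e])
    exact H.flat q q (idx_swap_ne _).symm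
      (by rw [hj]; simp [swapJ]; exact fun e => h2 (by rw [e, Sum.swap_swap]))
      (by rw [hj]; simpa using h2) (by rw [hj]; simp [swapJ]; exact (idx_swap_ne _).symm)

/-- torus element chosen for a root -/
def Seps.T (H : Seps C) (q : Root S m) : Spin fr := (H.each q).choose

/-- its weights -/
def Seps.d (H : Seps C) (q : Root S m) : S ⊕ Idx m → F := (H.each q).choose_spec.choose

theorem Seps.T_spec (q : Root S m) : IsTor fr (H.T q) (H.d q) ∧ lam (H.d q) q ≠ 1 :=
  (H.each q).choose_spec.choose_spec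

/-- the lift of a root element -/
def Seps.f (H : Seps C) (q : Root S m) (t : F) : Γ := C.cm (H.T q) (rt fr q (t / (lam (H.d q) q - 1)))

theorem bracket_tor {T : Spin fr} {d : S ⊕ Idx m → F} (hT : IsTor fr T d) (q : Root S m) (v : F) :
    ⁅T, rt fr q v⁆ = rt fr q ((lam d q - 1) * v) := by
  rw [commutatorElement_def, mon_conj hT.mon, ← rt_neg, rt_add]
  congr 1; ring

theorem Seps.π_f (q : Root S m) (t : F) : π (H.f q t) = rt fr q t := by
  rw [Seps.f, C.σ_cm, bracket_tor H (H.T_spec q).1, mul_div_cancel₀ _ (sub_ne_zero.2 (H.T_spec q).2)]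

theorem Seps.f_add (q : Root S m) (t u : F) : H.f q t * H.f q u = H.f q (t + u) := by
  rw [Seps.f, Seps.f, Seps.f, add_div, ← rt_add, C.cm_mul_right]
  intro x y hx hy
  rw [bracket_tor H (H.T_spec q).1] at hy
  exact (H.cmt_self q).commute C hx hy

theorem Seps.f_zero (q : Root S m) : H.f q 0 = 1 := by
  have := H.f_add q 0 0
  rw [add_zero] at this
  exact mul_eq_left.1 this

theorem Seps.f_neg (q : Root S m) (t : F) : H.f q (-t) = (H.f q t)⁻¹ := by
  rw [eq_inv_iff_mul_eq_one, H.f_add, neg_add_cancel, H.f_zero]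

theorem Seps.equiv {T : Spin fr} {d : S ⊕ Idx m → F} (hT : IsTor fr T d) {γ : Γ} (hγ : π γ = T) (q : Root S m)
    (t : F) : γ * H.f q t * γ⁻¹ = H.f q (lam d q * t) := by
  rw [Seps.f, C.conj_cm hγ, mon_conj hT.mon,
    ((H.T_spec q).1.comm T d hT.mon).eq, mul_inv_cancel_right, Seps.f, mul_div_assoc]

theorem Seps.indep {T : Spin fr} {d : S ⊕ Idx m → F} (hT : IsTor fr T d) (q : Root S m) (hq : lam d q ≠ 1) (t : F) :
    C.cm T (rt fr q (t / (lam d q - 1))) = H.f q t := by
  rw [← C.comm_eq (C.σ_lf T) (H.π_f q _), commutatorElement_def, H.equiv hT (C.σ_lf T), ← H.f_neg, H.f_add]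
  congr 1
  have := sub_ne_zero.2 hq
  field_simp
  ring

theorem Seps.f_flip (q : Root S m) (b : Idx m) (h : q.1.2 = Sum.inr b) (t : F) :
    H.f (q.flipPair b h) t = H.f q (-t) := by
  have e : lam (H.d q) (q.flipPair b h) = lam (H.d q) q := by simp [lam, Root.flipPair, h, mul_comm]
  rw [← H.indep (H.T_spec q).1 (q.flipPair b h) (by rw [e]; exact (H.T_spec q).2), rt_flipPair, e, Seps.f, neg_div]

theorem Seps.rel {q r : Root S m} {T : Spin fr} {d : S ⊕ Idx m → F} (hT : IsTor fr T d) (hr : lam d r = 1)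
    (hq : lam d q ≠ 1) (u : F) (W : F → Γ) (hW : ∀ t, π (W t) = ⁅rt fr q t, rt fr r u⁆)
    (hadd : ∀ t t', W t * W t' = W (t + t')) (heq : ∀ γ, π γ = T → ∀ t, γ * W t * γ⁻¹ = W (lam d q * t))
    (hcm : ∀ t t', Commute (H.f q t) (W t')) (t : F) : ⁅H.f q t, H.f r u⁆ = W t := by
  obtain ⟨z, hz⟩ : ∃ z : F → Γ, z = fun t => ⁅H.f q t, H.f r u⁆ * (W t)⁻¹ := ⟨_, rfl⟩
  have hzW : ∀ t, ⁅H.f q t, H.f r u⁆ = z t * W t := fun t => by rw [hz, inv_mul_cancel_right]
  have hker : ∀ t, π (z t) = 1 := fun t => by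
    rw [hz, map_mul, map_inv, map_commutatorElement, H.π_f, H.π_f, hW, mul_inv_cancel]
  have hadd' : ∀ t t', z (t + t') = z t' * z t := by
    intro t t'
    refine mul_right_cancel (b := W (t + t')) ?_
    rw [← hzW, ← H.f_add, show ⁅H.f q t * H.f q t', H.f r u⁆ =
      H.f q t * ⁅H.f q t', H.f r u⁆ * (H.f q t)⁻¹ * ⁅H.f q t, H.f r u⁆ by simp only [commutatorElement_def]; group,
      hzW, hzW]
    have c1 : Commute (H.f q t) (z t' * W t') := (C.ker_comm (hker t') _).mul_right (hcm t t')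
    rw [c1.eq, mul_inv_cancel_right, add_comm t t', ← hadd]
    have c2 := (C.ker_comm (hker t) (W t')).eq
    rw [mul_assoc, ← mul_assoc (W t'), c2]
    group
  have heq' : ∀ t, z (lam d q * t) = z t := by
    intro t
    obtain ⟨γ, hγ⟩ : ∃ γ, π γ = T := C.surj T
    have h := hzW t
    have h' := congrArg (fun x => γ * x * γ⁻¹) h
    rw [show γ * ⁅H.f q t, H.f r u⁆ * γ⁻¹ = ⁅γ * H.f q t * γ⁻¹, γ * H.f r u * γ⁻¹⁆ by
      simp only [commutatorElement_def]; group, H.equiv hT hγ, H.equiv hT hγ, hr, one_mul, hzW,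
      ← conj_mul, heq γ hγ] at h'
    rw [show γ * z t * γ⁻¹ = z t by rw [(C.ker_comm (hker t) γ).eq, mul_inv_cancel_right]] at h'
    exact mul_right_cancel h'
  obtain ⟨v, rfl⟩ : ∃ v, t = (lam d q - 1) * v := ⟨t / (lam d q - 1), by
    rw [mul_div_cancel₀ _ (sub_ne_zero.2 hq)]⟩
  have h := heq' v
  rw [show lam d q * v = v + (lam d q - 1) * v by ring, hadd'] at h
  rw [hzW, mul_eq_right.1 h, one_mul]

/-- the family of lifts -/
theorem Seps.liftFam : LiftFam fr π H.f where
  lift q t _ := H.π_f q t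
  add q t u _ := H.f_add q t u
  flip q b h t _ := H.f_flip q b h t
  comm q r hq hr := by
    revert hq hr
    by_cases ho : Opp q r
    · intro hq hr; exact absurd ho (not_opp hq hr)
    revert ho
    refine pair_cases fr.sub (P := fun q r => Pos q → Pos r → ∀ t u : F,
      ⁅H.f q t, H.f r u⁆ ∈ MM H.f (max (deg q) (deg r) + 1)) ?_ ?_ ?_ ?_ ?_ ?_ ?_ ?_ q r
    · intro q r h hr hq t u
      rw [← commutatorElement_inv, max_comm]
      exact inv_mem (h hq hr u t)
    · intro q r b hb h hq hr t u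
      have := h (by unfold Pos at *; rwa [deg_flipPair]) hr (-t) u
      rwa [H.f_flip, neg_neg, deg_flipPair] at this
    · intro q r a1 a2 b1 b2 _ _ t u
      rw [commutatorElement_eq_one_iff_commute.2 ((H.flat q r a1 a2 b1 b2).commute C (H.π_f q t) (H.π_f r u))]
      exact one_mem _
    · intro q r a b h1 h2 _ _ t u
      rw [commutatorElement_eq_one_iff_commute.2 ((H.same q r a b h1 h2).commute C (H.π_f q t) (H.π_f r u))]
      exact one_mem _
    · intro q a x h _ _ t u
      rw [commutatorElement_eq_one_iff_commute.2 ((H.cmt_self q).commute C (H.π_f q t) (H.π_f q u))]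
      exact one_mem _
    · intro q r k a w b h1 h2 h3 hq hr t u
      obtain ⟨T, d, hT, hlr, hlq⟩ := H.long q r k a w b h1 h2 h3
      have hk : lam d k = lam d q * lam d r := by
        have e := hT.mon.d_mul (Sum.inr w)
        simp only [swapJ, Sum.map_inr] at e
        simp only [lam, h1, h2, h3]
        linear_combination (-(d (Sum.inr a) * d (Sum.inr b))) * e
      have hc : Cmt C q k := by
        have q1 : w.swap ≠ a := fun e => q.2.1 (by rw [h1, e])
        have q2 : w.swap ≠ a.swap := fun e => q.2.2 (by rw [h1, e])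
        have r1 : b ≠ w := fun e => r.2.1 (by rw [h2, e])
        have k2 : b ≠ a.swap := fun e => k.2.2 (by rw [h3, e])
        exact H.flat q k (by rw [h1, h3]; exact (idx_swap_ne a).symm)
          (by rw [h1, h3]; simp [swapJ]; exact fun e => q2 (by rw [e]))
          (by rw [h1, h3]; simpa using k2) (by rw [h1, h3]; simpa [swapJ] using r1)
      have e := H.rel hT hlr hlq u (fun t => H.f k (t * u))
        (fun t => by rw [H.π_f, bracket_long fr q r k h1 h2 h3]) (fun t t' => by rw [H.f_add, add_mul])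
        (fun γ hγ t => by rw [H.equiv hT hγ, hk, hlr, mul_one, mul_assoc])
        (fun t t' => hc.commute C (H.π_f q t) (H.π_f k _)) t
      rw [e]
      unfold Pos at *
      have : deg k = deg q + deg r := by simp only [deg, h1, h2, h3, hgtJ, Sum.elim_inr, hgt_swap]; ring
      exact Subgroup.subset_closure ⟨k, t * u, by unfold Pos; omega, by omega, rfl⟩
    · intro q r k l a w x h1 h2 h3 h4 hq hr t u
      obtain ⟨T, d, hT, hlr, hlq⟩ := H.mixed q r k l a w x h1 h2 h3 h4
      have ew := hT.mon.d_mul (Sum.inr w)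
      simp only [swapJ, Sum.map_inr] at ew
      have hk : lam d k = lam d q := by
        have e : lam d k = lam d q * lam d r := by
          simp only [lam, h1, h2, h3, hT.short]
          linear_combination (-d (Sum.inr a)) * ew
        rw [e, hlr, mul_one]
      have hl : lam d l = lam d q := by
        have e : lam d l = lam d q * lam d r * lam d r := by
          simp only [lam, h1, h2, h4, hT.short]
          linear_combination (-(d (Sum.inr a) * d (Sum.inr w))) * ew
        rw [e, hlr, mul_one, mul_one]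
      have q1 : w.swap ≠ a := fun e => q.2.1 (by rw [h1, e])
      have q2 : w.swap ≠ a.swap := fun e => q.2.2 (by rw [h1, e])
      have hqk : Cmt C q k := H.flat q k (by rw [h1, h3]; exact (idx_swap_ne a).symm)
        (by rw [h1, h3]; simp [swapJ]; exact fun e => q2 (by rw [e]))
        (by rw [h3]; simp) (by rw [h1, h3]; simp [swapJ])
      have hlk : Cmt C l k := H.flat l k (by rw [h4, h3]; exact (idx_swap_ne a).symm)
        (by rw [h4, h3]; simp [swapJ]; exact q1.symm)
        (by rw [h3]; simp) (by rw [h4, h3]; simp [swapJ])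
      have hql : Cmt C q l := H.same q l a w.swap h1 (by rw [Sum.swap_swap]; exact h4)
      have e := H.rel hT hlr hlq u (fun t => H.f l (t * u ^ 2) * H.f k (t * u))
        (fun t => by rw [map_mul, H.π_f, H.π_f, bracket_mixed fr q r k l h1 h2 h3 h4])
        (fun t t' => by
          rw [mul_assoc, ← mul_assoc (H.f k _) (H.f l _),
            ((hlk.symm).commute C (H.π_f k (t * u)) (H.π_f l (t' * u ^ 2))).eq, ← mul_assoc, ← mul_assoc,
            H.f_add, mul_assoc, H.f_add, add_mul, add_mul])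
        (fun γ hγ t => by rw [← conj_mul, H.equiv hT hγ, H.equiv hT hγ, hk, hl, mul_assoc, mul_assoc])
        (fun t t' => (hql.commute C (H.π_f q t) (H.π_f l _)).mul_right (hqk.commute C (H.π_f q t) (H.π_f k _))) t
      rw [e]
      unfold Pos at *
      have e1 : deg k = deg q + deg r := by
        simp only [deg, h1, h2, h3, hgtJ, Sum.elim_inr, Sum.elim_inl, hgt_swap]; ring
      have e2 : deg l = deg q + 2 * deg r := by
        simp only [deg, h1, h2, h4, hgtJ, Sum.elim_inr, Sum.elim_inl, hgt_swap]; ring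
      exact mul_mem (Subgroup.subset_closure ⟨l, t * u ^ 2, by unfold Pos; omega, by omega, rfl⟩)
        (Subgroup.subset_closure ⟨k, t * u, by unfold Pos; omega, by omega, rfl⟩)
    · intro q r l a w x h1 h2 h3 hq hr t u
      obtain ⟨T, d, hT, hlr, hlq⟩ := H.short q r l a w x h1 h2 h3
      have hl : lam d l = lam d q := by
        have e : lam d l = lam d q * lam d r := by
          simp only [lam, h1, h2, h3, hT.short]
          ring
        rw [e, hlr, mul_one]
      have l1 : a ≠ w := fun e => l.2.1 (by rw [h3, e])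
      have l2 : a ≠ w.swap := fun e => l.2.2 (by rw [h3, e])
      have hql : Cmt C q l := H.flat q l
        (by rw [h1, h3]; intro e; exact l2 (by rw [show w = a.swap from e, Sum.swap_swap]))
        (by rw [h1, h3]; simp [swapJ]) (by rw [h1, h3]; simp; exact (idx_swap_ne a).symm)
        (by rw [h1, h3]; simp [swapJ])
      have e := H.rel hT hlr hlq u (fun t => H.f l (2 * t * u))
        (fun t => by rw [H.π_f, bracket_short fr q r l h1 h2 h3])
        (fun t t' => by rw [H.f_add]; congr 1; ring)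
        (fun γ hγ t => by rw [H.equiv hT hγ, hl]; congr 1; ring)
        (fun t t' => hql.commute C (H.π_f q t) (H.π_f l _)) t
      rw [e]
      unfold Pos at *
      have e2 : deg l = deg q + deg r := by
        simp only [deg, h1, h2, h3, hgtJ, Sum.elim_inr, Sum.elim_inl]; ring
      exact Subgroup.subset_closure ⟨l, 2 * t * u, by unfold Pos; omega, by omega, rfl⟩

end

end CfsgLib.Known.SpinMult
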