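import Cfsg.Agent.Lib.Known.SpinMult.Main
import Cfsg.Agent.Lib.Classical.Quad.POmega
import Cfsg.Agent.Lib.Known.SLn.Multiplier

/-!
# The spin group as the universal cover of `PΩ`
-/

set_option autoImplicit false
set_option linter.unusedSectionVars false

namespace CfsgLib.Known.SpinMult

universe u w

open QuadraticMap CfsgLib.Classical.Quad

noncomputable section

variable {F : Type u} [Field F] [Finite F] {V : Type u} [AddCommGroup V] [Module F V] [FiniteDimensional F V]
  {Q : QuadraticForm F V} {m : ℕ}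
  {S : Type} [Fintype S] [DecidableEq S] (fr : Frame Q m S)

variable (hn : 5 ≤ Module.finrank F V)

/-- the spin group onto `Ω` -/
def toC : Spin fr →* commutator (OQ Q) :=
  (toO fr).codRestrict _ fun g => range_toO fr hn ▸ MonoidHom.mem_range.2 ⟨g, rfl⟩

/-- the spin group onto the central quotient of `Ω` -/
def theta : Spin fr →* commutator (OQ Q) ⧸ Subgroup.center (commutator (OQ Q)) :=
  (QuotientGroup.mk' _).comp (toC fr hn)

theorem toC_surjective : Function.Surjective (toC fr hn) := fun x => by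
  have h : (x : OQ Q) ∈ (toO fr).range := by rw [range_toO fr hn]; exact x.2
  obtain ⟨g, hg⟩ := h
  exact ⟨g, Subtype.ext hg⟩

theorem theta_surjective : Function.Surjective (theta fr hn) :=
  (QuotientGroup.mk'_surjective _).comp (toC_surjective fr hn)

theorem mem_ker_theta {g : Spin fr} :
    g ∈ (theta fr hn).ker ↔ ∃ c : F, c * c = 1 ∧ ∀ z, ap fr g z = c • z := by
  rw [MonoidHom.mem_ker, theta, MonoidHom.comp_apply, QuotientGroup.mk'_apply, QuotientGroup.eq_one_iff,
    center_Omega_iff (nondeg fr) hn]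
  rfl

theorem center_of_scalar {g : Spin fr} {c : F} (hc : c * c = 1) (h : ∀ z, ap fr g z = c • z) :
    g ∈ Subgroup.center (Spin fr) := by
  have hmon : IsMon fr g 1 (fun _ => c) := by
    refine ⟨fun _ => rfl, fun j => ?_⟩
    rw [h, show Sum.map id (⇑(1 : Equiv.Perm (Idx m))) j = j by cases j <;> rfl]
  have hgen : ∀ (q : Root S m) (t : F), rt fr q t * g = g * rt fr q t := fun q t => by
    rw [eq_comm, ← mul_inv_eq_iff_eq_mul, mon_conj hmon, lam, hc, one_mul]
  rw [Subgroup.mem_center_iff]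
  rintro ⟨x, hx⟩
  induction hx using Subgroup.closure_induction with
  | one =>
    show (1 : Spin fr) * g = g * 1
    rw [one_mul, mul_one]
  | mem a ha =>
    obtain ⟨q, t, rfl⟩ := ha
    exact hgen q t
  | mul a b ha hb iha ihb =>
    show ((⟨a, ha⟩ : Spin fr) * ⟨b, hb⟩) * g = g * ((⟨a, ha⟩ : Spin fr) * ⟨b, hb⟩)
    rw [mul_assoc, ihb, ← mul_assoc, iha, mul_assoc]
  | inv a ha iha =>
    show (⟨a, ha⟩ : Spin fr)⁻¹ * g = g * (⟨a, ha⟩ : Spin fr)⁻¹
    exact (Commute.inv_left iha).eq

theorem ker_theta_le : (theta fr hn).ker ≤ Subgroup.center (Spin fr) := fun g hg => by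
  obtain ⟨c, hc, h⟩ := (mem_ker_theta fr hn).1 hg
  exact center_of_scalar fr hc h

theorem card_ker_theta :
    Nat.card (theta fr hn).ker = Nat.card (toO fr).ker * Nat.card (Subgroup.center (commutator (OQ Q))) := by
  have hk : (theta fr hn).ker = (Subgroup.center (commutator (OQ Q))).comap (toC fr hn) := by
    rw [theta, ← MonoidHom.comap_ker, QuotientGroup.ker_mk']
  have hle : (toC fr hn).ker ≤ (Subgroup.center (commutator (OQ Q))).comap (toC fr hn) :=
    fun g hg => by rw [Subgroup.mem_comap, MonoidHom.mem_ker.1 hg]; exact one_mem _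
  have h := Subgroup.relIndex_mul_relIndex ⊥ _ _ bot_le hle
  have h1 : (toC fr hn).ker.relIndex ((Subgroup.center (commutator (OQ Q))).comap (toC fr hn)) =
      Nat.card (Subgroup.center (commutator (OQ Q))) := by
    rw [← MonoidHom.comap_bot, Subgroup.relIndex_comap,
      Subgroup.map_comap_eq_self_of_surjective (toC_surjective fr hn), Subgroup.relIndex_bot_left]
  rw [Subgroup.relIndex_bot_left, Subgroup.relIndex_bot_left, h1] at h
  rw [hk, ← h, show (toC fr hn).ker = (toO fr).ker from MonoidHom.ker_codRestrict _ _ _]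

theorem card_ker_toO_two {z : Spin fr} (hz : val fr z = -1) (h2 : (2 : F) ≠ 0) : Nat.card (toO fr).ker = 2 := by
  have hmem : z ∈ (toO fr).ker := (mem_ker_toO fr).2 (ap_neg_one fr hz)
  have hne : (⟨z, hmem⟩ : (toO fr).ker) ≠ 1 := fun e => neg_one_ne fr h2 (by
    rw [← hz, show z = 1 from congrArg Subtype.val e, val_one])
  refine (Nat.card_eq_two_iff' 1).2 ⟨_, hne, fun y hy => ?_⟩
  rcases val_of_ker fr ((mem_ker_toO fr).1 y.2) with h | h
  · exact absurd (Subtype.ext (ext_val fr (h.trans (val_one fr).symm))) hy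
  · exact Subtype.ext (ext_val fr (h.trans hz.symm))

theorem card_ker_toO_one (h2 : (2 : F) = 0) : Nat.card (toO fr).ker = 1 := by
  have : ∀ y : (toO fr).ker, y = 1 := fun y => by
    refine Subtype.ext (ext_val fr ?_)
    rcases val_of_ker fr ((mem_ker_toO fr).1 y.2) with h | h
    · exact h.trans (val_one fr).symm
    · rw [h, OneMemClass.coe_one, val_one]
      have : ((-1 : F)) = 1 := by linear_combination -h2
      rw [← map_one (algebraMap F (CliffordAlgebra Q)), ← map_neg, this]
  have : Subsingleton (toO fr).ker := ⟨fun a b => (this a).trans (this b).symm⟩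
  exact Nat.card_unique

/-- all kernel elements square to one as soon as one of them inducing `-1` does -/
theorem sq_ker_theta {ω : Spin fr} (hω : ∀ z, ap fr ω z = (-1 : F) • z) (hω2 : ω * ω = 1) {g : Spin fr}
    (hg : g ∈ (theta fr hn).ker) : g * g = 1 := by
  obtain ⟨c, hc, h⟩ := (mem_ker_theta fr hn).1 hg
  have key : ∀ x : Spin fr, (∀ z, ap fr x z = z) → x * x = 1 := fun x hx => ext_val fr (by
    rw [val_mul, val_one]
    rcases val_of_ker fr hx with e | e <;> rw [e] <;> simp)
  rcases mul_self_eq_one_iff.1 hc with rfl | rfl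
  · exact key g fun z => by rw [h, one_smul]
  · have hωc : ω ∈ Subgroup.center (Spin fr) := center_of_scalar fr (by ring) hω
    have h1 : (g * ω) * (g * ω) = 1 := key _ fun z => by
      rw [ap_mul, hω, map_smul, h, smul_smul, neg_mul_neg, one_mul, one_smul]
    have h3 : ω * g = g * ω := (Subgroup.mem_center_iff.1 hωc g).symm
    rwa [mul_assoc, ← mul_assoc ω g ω, h3, mul_assoc g ω ω, hω2, mul_one] at h1

end

section Matrix

variable {F : Type u} [Field F] [Finite F] {ι : Type} [Fintype ι] [DecidableEq ι]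
  {Q : QuadraticForm F (ι → F)} {m : ℕ} {S : Type} [Fintype S] [DecidableEq S] (fr : Frame Q m S)

/-- the multiplier of `PΩ` is the kernel of the spin cover -/
theorem hasSchurMultiplier (hn : 5 ≤ Module.finrank F (ι → F)) (hm : 3 ≤ m)
    (hcase : (∃ y : F, y ≠ 0 ∧ y ^ 2 ≠ 1) ∨ (4 ≤ m ∧ (2 : F) ≠ 0) ∨ (5 ≤ m ∧ IsEmpty S))
    {A : Type w} [CommGroup A] (e : (theta fr hn).ker ≃* A) :
    Cfsg.HasSchurMultiplier (Cfsg.POmega F (⇑Q)) A := by
  obtain ⟨θ, hθ⟩ : ∃ θ : Spin fr →* Cfsg.POmega F (⇑Q),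
      θ = (pOmegaEquiv Q).symm.toMonoidHom.comp (theta fr hn) := ⟨_, rfl⟩
  have hs : Function.Surjective θ := by
    rw [hθ]; exact (pOmegaEquiv Q).symm.surjective.comp (theta_surjective fr hn)
  have hk : θ.ker = (theta fr hn).ker := by ext g; simp [hθ, MonoidHom.mem_ker]
  have : Finite (Cfsg.POmega F (⇑Q)) := Finite.of_surjective θ hs
  exact SLn.hasSchurMultiplier_of_cover (perfect fr hm)
    (fun Γ _ _ σ hσ => ker_eq_bot_of_stem fr hm hcase σ hσ) θ hs (hk ▸ ker_theta_le fr hn)
    ((MulEquiv.subgroupCongr hk).trans e)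

end Matrix

end CfsgLib.Known.SpinMult
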