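import Cfsg.Agent.Lib.Known.SpinMult.Big

/-!
# Lifts of root elements over the field with two elements
-/

set_option autoImplicit false
set_option linter.unusedSectionVars false

namespace CfsgLib.Known.SpinMult

noncomputable section

open QuadraticMap CfsgLib.Classical.Quad CfsgLib.Known.SympMult
open scoped commutatorElement

variable {F : Type*} [Field F] {V : Type*} [AddCommGroup V] [Module F V] {Q : QuadraticForm F V} {m : ℕ}
  {S : Type} [Fintype S] [DecidableEq S]

theorem three_subgroup_two {G : Type*} [Group G] {B X Y : G} (hz : ∀ g, Commute g ⁅B, X⁆)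
    (hV : Commute ⁅B, Y⁆ ⁅X, Y⁆) : ⁅B, ⁅X, Y⁆⁆ = ⁅X, ⁅B, Y⁆⁆ := by
  obtain ⟨z, hzd⟩ : ∃ z, z = ⁅B, X⁆ := ⟨_, rfl⟩
  obtain ⟨V, hVd⟩ : ∃ V, V = ⁅B, Y⁆ := ⟨_, rfl⟩
  rw [← hzd] at hz
  rw [← hVd] at hV ⊢
  have hX : B * X * B⁻¹ = z * X := by rw [hzd, commutatorElement_def]; group
  have hY : B * Y * B⁻¹ = V * Y := by rw [hVd, commutatorElement_def]; group
  have h1 : ⁅z * X, V * Y⁆ = ⁅X, V * Y⁆ := by
    rw [commutatorElement_def, commutatorElement_def, mul_inv_rev,
      show z * X * (V * Y) * (X⁻¹ * z⁻¹) = z * (X * (V * Y) * X⁻¹) * z⁻¹ by group, ← (hz _).eq,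
      mul_inv_cancel_right]
  rw [show ⁅B, ⁅X, Y⁆⁆ = ⁅B * X * B⁻¹, B * Y * B⁻¹⁆ * ⁅X, Y⁆⁻¹ by simp only [commutatorElement_def]; group,
    hX, hY, h1, show ⁅X, V * Y⁆ = ⁅X, V⁆ * (V * ⁅X, Y⁆ * V⁻¹) by simp only [commutatorElement_def]; group,
    hV.eq, mul_inv_cancel_right, mul_inv_cancel_right]

theorem commute_two {G : Type*} [Group G] {U T X : G} (hz : ∀ g, Commute g ⁅U, T⁆)
    (h : ⁅U, ⁅T, X⁆⁆ = ⁅T, ⁅U, X⁆⁆) : Commute ⁅U, X⁆ ⁅T, X⁆ := by
  obtain ⟨A, hA⟩ : ∃ A, A = ⁅U, X⁆ := ⟨_, rfl⟩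
  obtain ⟨B, hB⟩ : ∃ B, B = ⁅T, X⁆ := ⟨_, rfl⟩
  rw [← hA, ← hB] at h ⊢
  have h1 : U * T * X * (U * T)⁻¹ = ⁅U, B⁆ * B * A * X := by
    rw [hA, hB]; simp only [commutatorElement_def]; group
  have h2 : T * U * X * (T * U)⁻¹ = ⁅T, A⁆ * A * B * X := by
    rw [hA, hB]; simp only [commutatorElement_def]; group
  have h3 : U * T * X * (U * T)⁻¹ = T * U * X * (T * U)⁻¹ := by
    rw [show U * T = ⁅U, T⁆ * (T * U) by simp only [commutatorElement_def]; group,
      show ⁅U, T⁆ * (T * U) * X * (⁅U, T⁆ * (T * U))⁻¹ = ⁅U, T⁆ * (T * U * X * (T * U)⁻¹) * ⁅U, T⁆⁻¹ by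
        simp only [commutatorElement_def]; group, ← (hz _).eq, mul_inv_cancel_right]
  rw [h1, h2, h] at h3
  have := mul_right_cancel h3
  rw [mul_assoc, mul_assoc] at this
  exact (mul_left_cancel this).symm

theorem exists_avoid (hm : 5 ≤ m) (a b c d : Idx m) :
    ∃ e : Idx m, und e ≠ und a ∧ und e ≠ und b ∧ und e ≠ und c ∧ und e ≠ und d := by
  have : ({und a, und b, und c, und d} : Finset (Fin m)).card < (Finset.univ : Finset (Fin m)).card :=
    lt_of_le_of_lt Finset.card_le_four (by simp; omega)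
  obtain ⟨j, -, hj⟩ := Finset.exists_mem_notMem_of_card_lt_card this
  simp at hj
  exact ⟨Sum.inl j, hj.1, hj.2.1, hj.2.2.1, hj.2.2.2⟩

variable (fr : Frame Q m S)

theorem root_ok {a b : Idx m} (h : und a ≠ und b) :
    (Sum.inr b : S ⊕ Idx m) ≠ Sum.inr a ∧ (Sum.inr b : S ⊕ Idx m) ≠ Sum.inr a.swap :=
  ⟨fun e => h (by rw [Sum.inr_injective e]), fun e => h (by rw [Sum.inr_injective e, und_swap])⟩

/-- the root element of two coordinates with parameter one -/
def rv (a b : Idx m) : Spin fr :=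
  if h : und a ≠ und b then rt fr ⟨(a, Sum.inr b), root_ok h⟩ 1 else 1

theorem rv_eq {a b : Idx m} (q : Root S m) (hq : q.1 = (a, Sum.inr b)) : rv fr a b = rt fr q 1 := by
  have h : und a ≠ und b := by have := root_und q (b := b) (by rw [hq]); rwa [hq] at this
  rw [rv, dif_pos h]
  rw [show q = ⟨(a, Sum.inr b), root_ok h⟩ from Subtype.ext hq]

theorem rv_commute {a b c d : Idx m} (hab : und a ≠ und b) (hcd : und c ≠ und d) (h1 : c ≠ a.swap)
    (h2 : c ≠ b.swap) (h3 : d ≠ a.swap) (h4 : d ≠ b.swap) : Commute (rv fr a b) (rv fr c d) := by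
  rw [rv, dif_pos hab, rv, dif_pos hcd]
  exact commute_rt fr _ _ h1 (by simpa [swapJ] using h2) (by simpa using h3) (by simpa [swapJ] using h4) _ _

theorem rv_same {a b : Idx m} (h : und a ≠ und b) : Commute (rv fr a b) (rv fr a b.swap) := by
  rw [rv, dif_pos h, rv, dif_pos (by rwa [und_swap])]
  exact commute_same fr _ _ rfl rfl _ _

theorem rv_bracket {a w b : Idx m} (h1 : und a ≠ und w) (h2 : und w ≠ und b) (h3 : und a ≠ und b) :
    ⁅rv fr a w.swap, rv fr w b⁆ = rv fr a b := by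
  rw [rv, dif_pos (by rwa [und_swap]), rv, dif_pos h2, rv, dif_pos h3]
  rw [bracket_long fr _ _ ⟨(a, Sum.inr b), root_ok h3⟩ rfl rfl rfl, one_mul]

variable {fr} {Γ : Type*} [Group Γ] {π : Γ →* Spin fr} (C : CExt π) (hF : ∀ r : F, r = 0 ∨ r = 1)
  [IsEmpty S]

include hF in
theorem two_neg_one : (-1 : F) = 1 := (hF (-1)).resolve_left (neg_ne_zero.2 one_ne_zero)

include hF in
theorem two_add_one : (1 : F) + 1 = 0 := by
  linear_combination -(two_neg_one hF)

include hF in
theorem rv_inv (a b : Idx m) : (rv fr a b)⁻¹ = rv fr a b := by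
  unfold rv
  split_ifs
  · rw [← rt_neg, two_neg_one hF]
  · exact inv_one

include hF in
theorem rv_comm (a b : Idx m) : rv fr b a = rv fr a b := by
  by_cases h : und a ≠ und b
  · rw [rv, dif_pos h.symm, rv, dif_pos h,
      show (⟨(b, Sum.inr a), root_ok h.symm⟩ : Root S m) =
        Root.flipPair ⟨(a, Sum.inr b), root_ok h⟩ b rfl from rfl,
      rt_flipPair, two_neg_one hF]
  · rw [rv, dif_neg fun e => h e.symm, rv, dif_neg h]

theorem kill (hm : 5 ≤ m) {a b c d : Idx m} (hab : und a ≠ und b) (hcd : und c ≠ und d) (h1 : c ≠ a.swap)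
    (h2 : c ≠ b.swap) (h3 : d ≠ a.swap) (h4 : d ≠ b.swap) : C.cm (rv fr c d) (rv fr a b) = 1 := by
  obtain ⟨e, e1, e2, e3, e4⟩ := exists_avoid hm a b c d
  rw [← rv_bracket fr e1.symm e2 hab]
  refine cm_bracket C (rv_commute fr hcd (by rwa [und_swap, ne_comm]) ?_ ?_ ?_ ?_)
    (rv_commute fr hcd e2 ?_ ?_ ?_ ?_)
  · exact fun e' => h1 (by rw [e', Sum.swap_swap])
  · exact fun e' => h3 (by rw [e', Sum.swap_swap])
  · exact fun e' => e3 (by rw [← und_swap e, e', und_swap])
  · exact fun e' => e4 (by rw [← und_swap e, e', und_swap])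
  · exact fun e' => e3 (by rw [e', und_swap])
  · exact fun e' => e4 (by rw [e', und_swap])
  · exact fun e' => h2 (by rw [e', Sum.swap_swap])
  · exact fun e' => h4 (by rw [e', Sum.swap_swap])

/-- lifted root element through an auxiliary coordinate -/
def gv (a b c : Idx m) : Γ := C.cm (rv fr a c.swap) (rv fr c b)

theorem π_gv {a b c : Idx m} (h1 : und c ≠ und a) (h2 : und c ≠ und b) (h3 : und a ≠ und b) :
    π (gv C a b c) = rv fr a b := by
  rw [gv, C.σ_cm, rv_bracket fr h1.symm h2 h3]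

include hF in
theorem gv_sq (hm : 5 ≤ m) {a b c : Idx m} (h1 : und c ≠ und a) (h2 : und c ≠ und b) (h3 : und a ≠ und b) :
    gv C a b c * gv C a b c = 1 := by
  obtain ⟨A, hA⟩ : ∃ A, π A = rv fr a c.swap := C.surj _
  obtain ⟨B, hB⟩ : ∃ B, π B = rv fr c b := C.surj _
  have hg : gv C a b c = ⁅A, B⁆ := (C.comm_eq hA hB).symm
  have h1' : und a ≠ und c.swap := by rwa [und_swap, ne_comm]
  have hAg : Commute A (gv C a b c) := C.commute_of_cm hA (π_gv C h1 h2 h3) (kill C hm h3 h1'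
    (idx_swap_ne a).symm (fun e => h3 (by rw [e, und_swap]))
    (fun e => h1 (by rw [← und_swap c, e, und_swap])) (fun e => h2 (by rw [← und_swap c, e, und_swap])))
  have hA2 : π (A * A) = 1 := by
    rw [map_mul, hA, mul_eq_one_iff_eq_inv, rv_inv hF]
  have := commutatorElement_eq_one_iff_commute.2 (C.ker_comm hA2 B).symm
  rw [show ⁅A * A, B⁆ = A * ⁅A, B⁆ * A⁻¹ * ⁅A, B⁆ by simp only [commutatorElement_def]; group, ← hg, hAg.eq,
    mul_inv_cancel_right] at this
  exact this

include hF in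
theorem gv_two (hm : 5 ≤ m) {a b c d : Idx m} (h1 : und c ≠ und a) (h2 : und c ≠ und b) (h3 : und a ≠ und b)
    (k1 : und d ≠ und a) (k2 : und d ≠ und b) (k3 : und d ≠ und c) : gv C a b c = gv C a b d := by
  obtain ⟨X, hX⟩ : ∃ X, π X = rv fr a d.swap := C.surj _
  obtain ⟨Y, hY⟩ : ∃ Y, π Y = rv fr d c.swap := C.surj _
  obtain ⟨B, hB⟩ : ∃ B, π B = rv fr c b := C.surj _
  have k3' : und d ≠ und c.swap := by rwa [und_swap]
  have h1' : und a ≠ und c.swap := by rwa [und_swap, ne_comm]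
  have hXY : π ⁅X, Y⁆ = rv fr a c.swap := by
    rw [map_commutatorElement, hX, hY, rv_bracket fr k1.symm k3' h1']
  have hBY : π ⁅B, Y⁆ = rv fr d b := by
    rw [map_commutatorElement, hB, hY, ← commutatorElement_inv,
      rv_bracket fr k3 h2 k2, rv_inv hF]
  have hBX : π ⁅B, X⁆ = 1 := by
    rw [map_commutatorElement, hB, hX, commutatorElement_eq_one_iff_commute]
    refine rv_commute fr h2 (by rwa [und_swap, ne_comm]) ?_ ?_ ?_ ?_
    · exact fun e => h1 (by rw [e, und_swap])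
    · exact fun e => h3 (by rw [e, und_swap])
    · exact fun e => k3 (Sum.swap_leftInverse.injective e ▸ rfl)
    · exact fun e => k2 (Sum.swap_leftInverse.injective e ▸ rfl)
  have hV : Commute ⁅B, Y⁆ ⁅X, Y⁆ := C.commute_of_cm hBY hXY (kill C hm h1' k2 ?_ ?_ ?_ ?_)
  · have e := three_subgroup_two (C.ker_comm hBX) hV
    rw [C.comm_eq hB hXY, C.comm_eq hX hBY, ← C.cm_inv] at e
    change (gv C a b c)⁻¹ = gv C a b d at e
    rw [← e, eq_inv_iff_mul_eq_one, gv_sq C hF hm h1 h2 h3]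
  · exact fun e => k1 (by rw [e, und_swap])
  · exact fun e => k3 (by rw [e, Sum.swap_swap])
  · exact fun e => h3 (by rw [e, und_swap])
  · exact fun e => h2 (by rw [e, Sum.swap_swap])

include hF in
theorem gv_indep (hm : 5 ≤ m) {a b c d : Idx m} (h1 : und c ≠ und a) (h2 : und c ≠ und b) (h3 : und a ≠ und b)
    (k1 : und d ≠ und a) (k2 : und d ≠ und b) : gv C a b c = gv C a b d := by
  obtain ⟨e, e1, e2, e3, e4⟩ := exists_avoid hm a b c d
  rw [gv_two C hF hm h1 h2 h3 e1 e2 e3, gv_two C hF hm k1 k2 h3 e1 e2 e4]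

include hF in
theorem kill_same (hm : 5 ≤ m) {a b : Idx m} (h : und a ≠ und b) :
    C.cm (rv fr a b) (rv fr a b.swap) = 1 := by
  obtain ⟨e, e1, e2, -, -⟩ := exists_avoid hm a b a b
  obtain ⟨X, hX⟩ : ∃ X, π X = rv fr a e.swap := C.surj _
  obtain ⟨U, hU⟩ : ∃ U, π U = rv fr e b := C.surj _
  obtain ⟨T, hT⟩ : ∃ T, π T = rv fr e b.swap := C.surj _
  have h' : und a ≠ und b.swap := by rwa [und_swap]
  have hA : π ⁅U, X⁆ = rv fr a b := by
    rw [map_commutatorElement, hU, hX, ← commutatorElement_inv, rv_bracket fr e1.symm e2 h, rv_inv hF]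
  have hB : π ⁅T, X⁆ = rv fr a b.swap := by
    rw [map_commutatorElement, hT, hX, ← commutatorElement_inv,
      rv_bracket fr e1.symm (by rwa [und_swap]) h', rv_inv hF]
  have hUT : π ⁅U, T⁆ = 1 := by
    rw [map_commutatorElement, hU, hT, commutatorElement_eq_one_iff_commute.2 (rv_same fr e2)]
  have hg : ⁅U, ⁅T, X⁆⁆ = ⁅T, ⁅U, X⁆⁆ := by
    rw [C.comm_eq hU hB, C.comm_eq hT hA, ← rv_comm hF a b, ← rv_comm hF a b.swap]
    have := gv_indep C hF hm (a := e) (b := a) (c := b.swap) (d := b) (by rwa [und_swap, ne_comm])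
      (by rwa [und_swap, ne_comm]) e1 e2.symm h.symm
    rwa [gv, gv, Sum.swap_swap] at this
  rw [← C.comm_eq hA hB]
  exact commutatorElement_eq_one_iff_commute.2 (commute_two (C.ker_comm hUT) hg)

/-- lifted root element -/
def Gv (a b : Idx m) : Γ :=
  open _root_.Classical in if h : ∃ c, und c ≠ und a ∧ und c ≠ und b then gv C a b h.choose else 1

include hF in
theorem Gv_eq (hm : 5 ≤ m) {a b c : Idx m} (h1 : und c ≠ und a) (h2 : und c ≠ und b) (h3 : und a ≠ und b) :
    Gv C a b = gv C a b c := by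
  have h : ∃ c, und c ≠ und a ∧ und c ≠ und b := ⟨c, h1, h2⟩
  rw [Gv, dif_pos h]
  exact gv_indep C hF hm h.choose_spec.1 h.choose_spec.2 h3 h1 h2

/-- lifts of root elements -/
def fv (q : Root S m) (t : F) : Γ :=
  open scoped _root_.Classical in if t = 0 then 1 else Sum.elim (fun s => isEmptyElim s) (fun b => Gv C q.1.1 b) q.1.2

theorem fv_zero (q : Root S m) : fv C q 0 = 1 := by rw [fv, if_pos rfl]

theorem fv_one {a b : Idx m} (q : Root S m) (h : q.1 = (a, Sum.inr b)) : fv C q 1 = Gv C a b := by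
  rw [fv, if_neg one_ne_zero, h]; rfl

theorem exists_inr (q : Root S m) : ∃ a b, q.1 = (a, Sum.inr b) ∧ und a ≠ und b := by
  rcases hb : q.1.2 with s | b
  · exact isEmptyElim s
  · exact ⟨q.1.1, b, Prod.ext rfl hb, root_und q hb⟩

include hF in
theorem π_fv (hm : 5 ≤ m) (q : Root S m) (t : F) : π (fv C q t) = rt fr q t := by
  rcases hF t with rfl | rfl
  · rw [fv_zero, map_one, rt_zero]
  · obtain ⟨a, b, hq, hab⟩ := exists_inr q
    obtain ⟨c, c1, c2, -, -⟩ := exists_avoid hm a b a b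
    rw [fv_one C q hq, Gv_eq C hF hm c1 c2 hab, π_gv C c1 c2 hab, rv_eq fr q hq]

include hF in
theorem liftFam_two (hm : 5 ≤ m) : LiftFam fr π (fv C) where
  lift q t _ := π_fv C hF hm q t
  add q t u _ := by
    rcases hF t with rfl | rfl
    · rw [fv_zero, one_mul, zero_add]
    rcases hF u with rfl | rfl
    · rw [fv_zero, mul_one, add_zero]
    obtain ⟨a, b, hq, hab⟩ := exists_inr q
    obtain ⟨c, c1, c2, -, -⟩ := exists_avoid hm a b a b
    rw [two_add_one hF, fv_zero, fv_one C q hq, Gv_eq C hF hm c1 c2 hab, gv_sq C hF hm c1 c2 hab]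
  flip q b h t _ := by
    rcases hF t with rfl | rfl
    · rw [neg_zero, fv_zero, fv_zero]
    rw [two_neg_one hF]
    have hab : und q.1.1 ≠ und b := root_und q h
    obtain ⟨c, c1, c2, -, -⟩ := exists_avoid hm q.1.1 b q.1.1 b
    rw [fv_one C q (Prod.ext rfl h), fv_one C (q.flipPair b h) (a := b) (b := q.1.1) rfl,
      Gv_eq C hF hm (c := c.swap) (by rwa [und_swap]) (by rwa [und_swap]) hab.symm,
      Gv_eq C hF hm c1 c2 hab]
    have hsq := gv_sq C hF hm c1 c2 hab
    rw [eq_comm, ← inv_eq_of_mul_eq_one_right hsq, gv, gv, C.cm_inv, Sum.swap_swap, rv_comm hF c b,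
      rv_comm hF q.1.1 c.swap]
  comm q r hq hr := by
    revert hq hr
    by_cases ho : Opp q r
    · intro hq hr; exact absurd ho (not_opp hq hr)
    revert ho
    have key : ∀ (q r : Root S m), C.cm (rt fr q 1) (rt fr r 1) = 1 → ∀ (n : ℤ) (t u : F),
        ⁅fv C q t, fv C r u⁆ ∈ MM (fv C) n := by
      intro q r h n t u
      rcases hF t with rfl | rfl
      · rw [fv_zero, commutatorElement_one_left]; exact one_mem _
      rcases hF u with rfl | rfl
      · rw [fv_zero, commutatorElement_one_right]; exact one_mem _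
      rw [C.comm_eq (π_fv C hF hm q 1) (π_fv C hF hm r 1), h]
      exact one_mem _
    refine pair_cases fr.sub (P := fun q r => Pos q → Pos r → ∀ t u : F,
      ⁅fv C q t, fv C r u⁆ ∈ MM (fv C) (max (deg q) (deg r) + 1)) ?_ ?_ ?_ ?_ ?_ ?_ ?_ ?_ q r
    · intro q r h hr hq t u
      rw [← commutatorElement_inv, max_comm]
      exact inv_mem (h hq hr u t)
    · intro q r b hb h hq hr t u
      have := h (by unfold Pos at *; rwa [deg_flipPair]) hr t u
      rcases hF t with rfl | rfl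
      · rw [fv_zero, commutatorElement_one_left]; exact one_mem _
      have hfl : fv C (q.flipPair b hb) 1 = fv C q 1 := by
        have hab : und q.1.1 ≠ und b := root_und q hb
        obtain ⟨c, c1, c2, -, -⟩ := exists_avoid hm q.1.1 b q.1.1 b
        rw [fv_one C q (Prod.ext rfl hb), fv_one C (q.flipPair b hb) (a := b) (b := q.1.1) rfl,
          Gv_eq C hF hm (c := c.swap) (by rwa [und_swap]) (by rwa [und_swap]) hab.symm,
          Gv_eq C hF hm c1 c2 hab]
        have hsq := gv_sq C hF hm c1 c2 hab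
        rw [eq_comm, ← inv_eq_of_mul_eq_one_right hsq, gv, gv, C.cm_inv, Sum.swap_swap, rv_comm hF c b,
          rv_comm hF q.1.1 c.swap]
      rwa [hfl, deg_flipPair] at this
    · intro q r a1 a2 b1 b2 _ _
      refine key q r ?_ _
      obtain ⟨a, b, h1, hab⟩ := exists_inr q
      obtain ⟨c, d, h2, hcd⟩ := exists_inr r
      rw [h1, h2] at a1 a2 b1 b2
      rw [← C.cm_inv, inv_eq_one, ← rv_eq fr q h1, ← rv_eq fr r h2]
      exact kill C hm hab hcd a1 (by simpa [swapJ] using a2) (by simpa using b1) (by simpa [swapJ] using b2)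
    · intro q r a b h1 h2 _ _
      refine key q r ?_ _
      rw [← rv_eq fr q h1, ← rv_eq fr r h2]
      exact kill_same C hF hm (by have := root_und q (b := b) (by rw [h1]); rwa [h1] at this)
    · intro q a x; exact isEmptyElim x
    · intro q r k a w b h1 h2 h3 hq hr t u
      rcases hF t with rfl | rfl
      · rw [fv_zero, commutatorElement_one_left]; exact one_mem _
      rcases hF u with rfl | rfl
      · rw [fv_zero, commutatorElement_one_right]; exact one_mem _
      have haw : und a ≠ und w := by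
        have := root_und q (b := w.swap) (by rw [h1]); rwa [h1, und_swap] at this
      have hwb : und w ≠ und b := by have := root_und r (b := b) (by rw [h2]); rwa [h2] at this
      have hab : und a ≠ und b := by have := root_und k (b := b) (by rw [h3]); rwa [h3] at this
      rw [C.comm_eq (π_fv C hF hm q 1) (π_fv C hF hm r 1), ← rv_eq fr q h1, ← rv_eq fr r h2]
      unfold Pos at *
      have : deg k = deg q + deg r := by simp only [deg, h1, h2, h3, hgtJ, Sum.elim_inr, hgt_swap]; ring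
      exact Subgroup.subset_closure ⟨k, 1, by unfold Pos; omega, by omega, by
        rw [fv_one C k h3, Gv_eq C hF hm haw.symm hwb hab]; rfl⟩
    · intro q r k l a w x; exact isEmptyElim x
    · intro q r l a w x; exact isEmptyElim x

end

end CfsgLib.Known.SpinMult
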