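import Cfsg.Agent.Lib.Known.SpinMult.Three
import Cfsg.Agent.Lib.Known.SpinMult.Two

/-!
# The spin groups of split forms have no proper stem extensions
-/

set_option autoImplicit false
set_option linter.unusedSectionVars false

namespace CfsgLib.Known.SpinMult

noncomputable section

open QuadraticMap CfsgLib.Classical.Quad CfsgLib.Known.SympMult

universe u w

variable {F : Type u} [Field F] [Finite F] {V : Type*} [AddCommGroup V] [Module F V] {Q : QuadraticForm F V} {m : ℕ}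
  {S : Type} [Fintype S] [DecidableEq S] (fr : Frame Q m S)

theorem exists_liftFam (hm : 3 ≤ m)
    (hcase : (∃ y : F, y ≠ 0 ∧ y ^ 2 ≠ 1) ∨ (4 ≤ m ∧ (2 : F) ≠ 0) ∨ (5 ≤ m ∧ IsEmpty S))
    (p : ℕ) [Fact p.Prime] [CharP F p]
    {Γ : Type w} [Group Γ] [Finite Γ] {π : Γ →* Spin fr} (C : CExt π) (hp : IsPGroup p π.ker) :
    ∃ f, LiftFam fr π f := by
  by_cases hy : ∃ y : F, y ≠ 0 ∧ y ^ 2 ≠ 1
  · obtain ⟨y, hy, hy1⟩ := hy
    exact ⟨_, (seps_big C hm hy hy1).liftFam⟩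
  have hF : ∀ r : F, r = 0 ∨ r = 1 ∨ r = -1 := fun r => by
    by_cases h : r = 0
    · exact Or.inl h
    refine Or.inr (sq_eq_one_iff.1 ?_)
    by_contra h1
    exact hy ⟨r, h, h1⟩
  by_cases h2 : (2 : F) = 0
  · obtain ⟨hm5, hS⟩ := (hcase.resolve_left hy).resolve_left fun h => h.2 h2
    have hneg : (-1 : F) = 1 := by linear_combination -h2
    exact ⟨_, liftFam_two C (fun r => (hF r).imp id fun h => h.elim id fun h => h.trans hneg) hm5⟩
  · have hm4 : 4 ≤ m := by rcases hcase.resolve_left hy with h | h <;> omega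
    have hp2 : p ≠ 2 := fun e => h2 (by subst e; exact_mod_cast CharP.cast_eq_zero F 2)
    exact ⟨_, (seps_three C hF h2 hm4 (odd_sqrt hp2 hp)).liftFam⟩

/-- no proper stem extensions -/
theorem ker_eq_bot_of_stem (hm : 3 ≤ m)
    (hcase : (∃ y : F, y ≠ 0 ∧ y ^ 2 ≠ 1) ∨ (4 ≤ m ∧ (2 : F) ≠ 0) ∨ (5 ≤ m ∧ IsEmpty S))
    {Γ : Type w} [Group Γ] [Finite Γ] (π : Γ →* Spin fr) (hσ : Cfsg.IsStemExtension π) : π.ker = ⊥ := by
  obtain ⟨p, hp⟩ := CharP.exists F
  have hpp : p.Prime := CharP.char_is_prime F p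
  have : Fact p.Prime := ⟨hpp⟩
  have hm2 : 2 ≤ m := by omega
  have hU : IsPGroup p (spinSys fr hm2 p).U := Up_isPGroup fr
  refine RootLift.ker_eq_bot_of_parts p ?_ ?_ π hσ
  · intro Γ' _ _ π' hσ' hcop
    exact (spinSys fr hm2 p).ker_eq_bot_of_coprime hU hpp (gen fr hm2 p) (torusFree fr hm2 p) hσ' hcop
  · intro Γ' _ _ π' hσ' hZ
    have C : CExt π' := ⟨hσ'.1, hσ'.2.1⟩
    obtain ⟨f, L⟩ := exists_liftFam fr hm hcase p C hZ
    refine RootLift.ker_eq_bot_of_complement hpp hσ' hZ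
      ((spinSys fr hm2 p).not_dvd_index hU hpp (gen fr hm2 p)) (M := MM f 1) ?_ (fun x hx h => inj_MM L hx h)
    rw [MM, MonoidHom.map_closure]
    show _ = Up fr 1
    rw [Up]
    congr 1
    ext g
    constructor
    · rintro ⟨_, ⟨q, t, h1, h2, rfl⟩, rfl⟩
      exact ⟨q, t, h1, h2, L.lift q t h1⟩
    · rintro ⟨q, t, h1, h2, rfl⟩
      exact ⟨_, ⟨q, t, h1, h2, rfl⟩, L.lift q t h1⟩

end

end CfsgLib.Known.SpinMult
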