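import Cfsg.Agent.Lib.Known.SpinMult.Forms

/-!
# The multipliers of the split orthogonal groups
-/

set_option autoImplicit false
set_option linter.unusedSectionVars false

namespace CfsgLib.Known.SpinMult

open QuadraticMap CfsgLib.Classical.Quad

noncomputable section

variable {F : Type*} [Field F] [Fintype F] {q : ℕ}

theorem exists_big (h : 4 ≤ Fintype.card F) : ∃ y : F, y ≠ 0 ∧ y ^ 2 ≠ 1 := by
  classical
  by_contra hne
  have hsub : (Finset.univ : Finset F) ⊆ {0, 1, -1} := fun r _ => by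
    by_cases hr : r = 0
    · simp [hr]
    · have h1 : r ^ 2 = 1 := by
        by_contra h1; exact hne ⟨r, hr, h1⟩
      rcases sq_eq_one_iff.1 h1 with rfl | rfl <;> simp
  have := Finset.card_le_card hsub
  have := Finset.card_le_three (a := (0 : F)) (b := 1) (c := -1)
  rw [Finset.card_univ] at *
  omega

theorem exists_sqrt_neg_one (hF : Fintype.card F = q) (h : q % 4 = 1) : ∃ i : F, i * i = -1 := by
  obtain ⟨i, hi⟩ := (FiniteField.isSquare_neg_one_iff (F := F)).2 (by omega)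
  exact ⟨i, hi.symm⟩

theorem two_eq_zero_of_even (hF : Fintype.card F = q) (hev : Even q) : (2 : F) = 0 := by
  by_contra h2
  have h1 := FiniteField.odd_card_of_char_ne_two (F := F) fun h => h2 (by
    have := ringChar.eq_iff.1 h
    exact CharTwo.two_eq_zero)
  rw [hF] at h1
  rw [Nat.even_iff] at hev
  omega

section Odd

variable (F) (m : ℕ)

theorem finrank_odd (hm : 3 ≤ m) : 5 ≤ Module.finrank F (Unit ⊕ (Fin m ⊕ Fin m) → F) := by
  rw [Module.finrank_pi, Fintype.card_sum, Fintype.card_sum, Fintype.card_fin]; omega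

theorem card_center_odd (h2 : (2 : F) ≠ 0) (hm : 3 ≤ m) :
    Nat.card (Subgroup.center (commutator (OQ (qOdd m F)))) = 1 := by
  classical
  have hQ := qOdd_nondeg (F := F) h2 m
  have hex := hex_of_two_ne_zero h2 (n := Fintype.card (Unit ⊕ (Fin m ⊕ Fin m)))
  have hno : ¬ ∃ g : ↥(Cfsg.isometryGroup F (⇑(qOdd m F))), g ∈ Cfsg.Omega F (⇑(qOdd m F)) ∧
      ((g : Matrix.GeneralLinearGroup (Unit ⊕ (Fin m ⊕ Fin m)) F) :
        Matrix (Unit ⊕ (Fin m ⊕ Fin m)) (Unit ⊕ (Fin m ⊕ Fin m)) F) = -1 := by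
    rintro ⟨g, hg, hval⟩
    have hle := Omega_le_squares hQ hex hg
    have hdet : g ∈ Cfsg.specialIsometryGroup F (⇑(qOdd m F)) :=
      (Subgroup.closure_le _).2 (by rintro _ ⟨x, hx, rfl⟩; exact mul_mem hx hx) hle
    have h3 := congrArg (fun u : Fˣ => (u : F)) (show Matrix.GeneralLinearGroup.det
      (g : Matrix.GeneralLinearGroup (Unit ⊕ (Fin m ⊕ Fin m)) F) = 1 from hdet)
    simp only [Matrix.GeneralLinearGroup.val_det_apply, hval, Matrix.det_neg, Matrix.det_one,
      Units.val_one, Fintype.card_sum, Fintype.card_unit, Fintype.card_fin, mul_one] at h3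
    rw [Odd.neg_one_pow ⟨m, by ring⟩] at h3
    exact h2 (by linear_combination -h3)
  rw [card_center_Omega hQ (finrank_odd F m hm) False
    ⟨False.elim, fun h => hno ((negIsom_mem_iff hQ).1 h.1)⟩, if_neg not_false]

theorem multiplier_odd (h2 : (2 : F) ≠ 0) (hm : 3 ≤ m) (hexc : 4 ≤ m ∨ 4 ≤ Fintype.card F) :
    Cfsg.HasSchurMultiplier (Cfsg.POmega F (Cfsg.quadFormOdd m F)) (Multiplicative (ZMod 2)) := by
  have hn := finrank_odd F m hm
  obtain ⟨fr, -⟩ : ∃ fr : Frame (qOdd m F) m Unit, fr = frameOdd F m h2 := ⟨_, rfl⟩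
  obtain ⟨r, hr⟩ : ∃ r : Root Unit m, r.1 = (Sum.inl ⟨0, by omega⟩, Sum.inl ()) :=
    ⟨⟨(Sum.inl ⟨0, by omega⟩, Sum.inl ()), by simp, by simp⟩, rfl⟩
  have hz : val fr (cor fr r (-1)) = -1 := neg_one_short fr r (s := ()) (by rw [hr])
  have hcard : Nat.card (theta fr hn).ker = 2 := by
    rw [card_ker_theta, card_ker_toO_two fr hz h2, card_center_odd F m h2 hm]
  have : IsCyclic (theta fr hn).ker := isCyclic_of_prime_card (p := 2) hcard
  rw [← coe_qOdd]
  refine hasSchurMultiplier fr hn hm ?_ (mulEquivOfCyclicCardEq ?_)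
  · rcases hexc with h | h
    · exact Or.inr (Or.inl ⟨h, h2⟩)
    · exact Or.inl (exists_big h)
  · rw [hcard]; simp

end Odd

section Plus

variable (F) (m : ℕ)

theorem finrank_plus (hm : 4 ≤ m) : 5 ≤ Module.finrank F (Fin m ⊕ Fin m → F) := by
  rw [Module.finrank_pi, Fintype.card_sum, Fintype.card_fin]; omega

variable {F} in
theorem card_center_plus (hF : Fintype.card F = q) (hm : 4 ≤ m) :
    Nat.card (Subgroup.center (commutator (OQ (qPlus m F)))) = if q ^ m % 4 = 1 then 2 else 1 := by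
  classical
  have hQ := qPlus_nondeg (F := F) m
  rcases Nat.even_or_odd q with hev | hodd
  · have h2 := two_eq_zero_of_even hF hev
    have h1 : ¬ q ^ m % 4 = 1 := fun h => by
      have := hev.pow_of_ne_zero (show m ≠ 0 by omega)
      rw [Nat.even_iff] at this; omega
    rw [card_center_Omega hQ (finrank_plus F m hm) False ⟨False.elim, fun h => h.2 h2⟩, if_neg not_false,
      if_neg h1]
  · exact card_center_Omega hQ (finrank_plus F m hm) (q ^ m % 4 = 1) (by
      rw [negIsom_mem_iff hQ, coe_qPlus, neg_one_mem_plus_iff hF hodd m (by omega)]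
      exact ⟨fun h => ⟨h, two_ne_zero_of_odd hF hodd⟩, fun h => h.1⟩)

theorem hcase_plus (hm : 4 ≤ m) (hexc : 5 ≤ m ∨ Fintype.card F ≠ 2) :
    (∃ y : F, y ≠ 0 ∧ y ^ 2 ≠ 1) ∨ (4 ≤ m ∧ (2 : F) ≠ 0) ∨ (5 ≤ m ∧ IsEmpty (Fin 0)) := by
  rcases hexc with h | h
  · exact Or.inr (Or.inr ⟨h, inferInstance⟩)
  by_cases h4 : 4 ≤ Fintype.card F
  · exact Or.inl (exists_big h4)
  · refine Or.inr (Or.inl ⟨hm, two_ne_zero_of_odd rfl ?_⟩)
    have := Fintype.one_lt_card (α := F)
    rw [Nat.odd_iff]; omega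

variable {F}

theorem multiplier_plus_even_char (hF : Fintype.card F = q) (hm : 4 ≤ m) (hexc : 5 ≤ m ∨ q ≠ 2) (hev : Even q)
    {A : Type*} [CommGroup A] (hA : Nat.card A = 1) :
    Cfsg.HasSchurMultiplier (Cfsg.POmega F (Cfsg.quadFormPlus m F)) A := by
  have hn := finrank_plus F m hm
  obtain ⟨fr, -⟩ : ∃ fr : Frame (qPlus m F) m (Fin 0), fr = framePlus F m := ⟨_, rfl⟩
  have h1 : ¬ q ^ m % 4 = 1 := fun h => by
    have := hev.pow_of_ne_zero (show m ≠ 0 by omega)
    rw [Nat.even_iff] at this; omega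
  have hcard : Nat.card (theta fr hn).ker = 1 := by
    rw [card_ker_theta, card_ker_toO_one fr (two_eq_zero_of_even hF hev), card_center_plus m hF hm, if_neg h1]
  have : Subsingleton (theta fr hn).ker := (Nat.card_eq_one_iff_unique.1 hcard).1
  have : Subsingleton A := (Nat.card_eq_one_iff_unique.1 hA).1
  rw [← coe_qPlus]
  exact hasSchurMultiplier fr hn (by omega) (hcase_plus F m hm (hF ▸ hexc))
    (mulEquivOfCyclicCardEq (hcard.trans hA.symm))

theorem multiplier_plus_odd_rank (hF : Fintype.card F = q) (hm : 5 ≤ m) (hodd : Odd m) :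
    Cfsg.HasSchurMultiplier (Cfsg.POmega F (Cfsg.quadFormPlus m F))
      (Multiplicative (ZMod (Nat.gcd 4 (q ^ m - 1)))) := by
  rcases Nat.even_or_odd q with hev | hq
  · refine multiplier_plus_even_char m hF (by omega) (Or.inl hm) hev ?_
    have he := hev.pow_of_ne_zero (show m ≠ 0 by omega)
    have hpos : 1 ≤ q ^ m := Nat.one_le_pow _ _ (hF ▸ Fintype.card_pos)
    have hg : Nat.gcd 4 (q ^ m - 1) = 1 := by
      rw [Nat.gcd_rec, Nat.gcd_comm]
      rw [Nat.even_iff] at he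
      have h4 : (q ^ m - 1) % 4 = 1 ∨ (q ^ m - 1) % 4 = 3 := by omega
      rcases h4 with h4 | h4 <;> rw [h4] <;> rfl
    rw [hg]; simp
  have h2 := two_ne_zero_of_odd hF hq
  have hn := finrank_plus F m (by omega)
  obtain ⟨fr, -⟩ : ∃ fr : Frame (qPlus m F) m (Fin 0), fr = framePlus F m := ⟨_, rfl⟩
  obtain ⟨z, hz⟩ := exists_neg_one_long fr (by omega)
  have hpos : 1 ≤ q ^ m := Nat.one_le_pow _ _ (hF ▸ Fintype.card_pos)
  have hmod : q ^ m % 4 = q % 4 := by
    obtain ⟨k, rfl⟩ := hodd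
    rw [pow_succ, pow_mul, Nat.mul_mod, Nat.pow_mod, Nat.pow_mod q 2]
    rcases (show q % 4 = 1 ∨ q % 4 = 3 by rw [Nat.odd_iff] at hq; omega) with h | h <;> simp [h]
  have hcard := card_ker_theta fr hn
  rw [card_ker_toO_two fr hz h2, card_center_plus m hF (by omega)] at hcard
  rw [← coe_qPlus]
  by_cases h4 : q % 4 = 1
  · rw [if_pos (hmod.trans h4)] at hcard
    obtain ⟨i, hi⟩ := exists_sqrt_neg_one hF h4
    obtain ⟨ω, hω, hω2⟩ := exists_omega_odd fr hodd (by omega) hi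
    obtain ⟨g, hg⟩ : ∃ g : (theta fr hn).ker, (g : Spin fr) = ω :=
      ⟨⟨ω, (mem_ker_theta fr hn).2 ⟨-1, by ring, hω⟩⟩, rfl⟩
    have hord : orderOf g = 2 ^ (1 + 1) := by
      refine orderOf_eq_prime_pow (fun h => neg_one_ne fr h2 ?_) ?_
      · rw [← hω2, ← hg, ← pow_two]
        have := congrArg (fun x : (theta fr hn).ker => val fr (x : Spin fr)) h
        simpa [val_one] using this
      · refine Subtype.ext (ext_val fr ?_)
        rw [SubgroupClass.coe_pow, hg, show 2 ^ (1 + 1) = 2 + 2 from rfl, pow_add, pow_two, val_mul, hω2,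
          OneMemClass.coe_one, val_one]
        simp
    have : IsCyclic (theta fr hn).ker := isCyclic_of_orderOf_eq_card g (by rw [hord, hcard]; rfl)
    have hgcd : Nat.gcd 4 (q ^ m - 1) = 4 := Nat.gcd_eq_left (by omega)
    rw [hgcd]
    exact hasSchurMultiplier fr hn (by omega) (hcase_plus F m (by omega) (Or.inl hm))
      (mulEquivOfCyclicCardEq (by rw [hcard]; simp))
  · rw [if_neg (fun h => h4 (hmod.symm.trans h))] at hcard
    have : IsCyclic (theta fr hn).ker := isCyclic_of_prime_card (p := 2) hcard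
    have hgcd : Nat.gcd 4 (q ^ m - 1) = 2 := by
      rw [Nat.gcd_rec, Nat.gcd_comm, show (q ^ m - 1) % 4 = 2 by rw [Nat.odd_iff] at hq; omega]; rfl
    rw [hgcd]
    exact hasSchurMultiplier fr hn (by omega) (hcase_plus F m (by omega) (Or.inl hm))
      (mulEquivOfCyclicCardEq (by rw [hcard]; simp))

theorem multiplier_plus_even_rank (hF : Fintype.card F = q) (hm : 4 ≤ m) (heven : Even m)
    (hexc : 5 ≤ m ∨ q ≠ 2) :
    Cfsg.HasSchurMultiplier (Cfsg.POmega F (Cfsg.quadFormPlus m F))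
      (Multiplicative (ZMod (Nat.gcd 2 (q ^ m - 1)) × ZMod (Nat.gcd 2 (q ^ m - 1)))) := by
  have hpos : 1 ≤ q ^ m := Nat.one_le_pow _ _ (hF ▸ Fintype.card_pos)
  rcases Nat.even_or_odd q with hev | hq
  · refine multiplier_plus_even_char m hF hm hexc hev ?_
    have he := hev.pow_of_ne_zero (show m ≠ 0 by omega)
    have hg : Nat.gcd 2 (q ^ m - 1) = 1 := by
      rw [Nat.gcd_rec, show (q ^ m - 1) % 2 = 1 by rw [Nat.even_iff] at he; omega]; rfl
    rw [hg]; simp
  have h2 := two_ne_zero_of_odd hF hq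
  have hn := finrank_plus F m hm
  obtain ⟨fr, -⟩ : ∃ fr : Frame (qPlus m F) m (Fin 0), fr = framePlus F m := ⟨_, rfl⟩
  obtain ⟨z, hz⟩ := exists_neg_one_long fr (by omega)
  have hmod : q ^ m % 4 = 1 := by
    obtain ⟨k, rfl⟩ := heven
    rw [← two_mul, pow_mul, Nat.pow_mod, Nat.pow_mod q 2]
    rcases (show q % 4 = 1 ∨ q % 4 = 3 by rw [Nat.odd_iff] at hq; omega) with h | h <;> simp [h]
  have hcard := card_ker_theta fr hn
  rw [card_ker_toO_two fr hz h2, card_center_plus m hF hm, if_pos hmod] at hcard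
  obtain ⟨ω, hω, hω2⟩ := exists_omega_even fr heven
  have : Nontrivial (theta fr hn).ker := Finite.one_lt_card_iff_nontrivial.1 (by rw [hcard]; norm_num)
  have : IsKleinFour (theta fr hn).ker :=
    ⟨hcard, (Monoid.exponent_eq_prime_iff Nat.prime_two).2 fun g hg =>
      orderOf_eq_prime (Subtype.ext (by
        rw [SubgroupClass.coe_pow, pow_two, sq_ker_theta fr hn hω hω2 g.2, OneMemClass.coe_one])) hg⟩
  have hgcd : Nat.gcd 2 (q ^ m - 1) = 2 := Nat.gcd_eq_left (by omega)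
  rw [hgcd, ← coe_qPlus]
  exact hasSchurMultiplier fr hn (by omega) (hcase_plus F m hm (hF ▸ hexc))
    (IsKleinFour.nonempty_mulEquiv).some

end Plus

end

end CfsgLib.Known.SpinMult
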