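import Cfsg.Agent.Lib.Known.SpinMult.Lifts

/-!
# Separating torus elements over fields with more than three elements
-/

set_option autoImplicit false
set_option linter.unusedSectionVars false

namespace CfsgLib.Known.SpinMult

noncomputable section

open QuadraticMap CfsgLib.Classical.Quad CfsgLib.Known.SympMult
open scoped commutatorElement

variable {F : Type*} [Field F] {V : Type*} [AddCommGroup V] [Module F V] {Q : QuadraticForm F V} {m : ℕ}
  {S : Type} [Fintype S] [DecidableEq S] {fr : Frame Q m S}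

/-- coordinate of an index -/
def und : Idx m → Fin m := Sum.elim id id

/-- the root involves a coordinate -/
def In (i : Fin m) (q : Root S m) : Prop := und q.1.1 = i ∨ ∃ b, q.1.2 = Sum.inr b ∧ und b = i

theorem und_eq {a b : Idx m} (h : und a = und b) : b = a ∨ b = a.swap := by
  rcases a with a | a <;> rcases b with b | b <;> simp_all [und]

theorem und_swap (a : Idx m) : und a.swap = und a := by cases a <;> rfl

theorem root_und (q : Root S m) {b : Idx m} (h : q.1.2 = Sum.inr b) : und q.1.1 ≠ und b := fun e => by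
  rcases und_eq e with e | e
  · exact q.2.1 (by rw [h, e])
  · exact q.2.2 (by rw [h, e])

/-- weights changing one coordinate -/
def dSingle (S : Type) {m : ℕ} (i : Fin m) (c : F) : S ⊕ Idx m → F :=
  Sum.elim (fun _ => 1) fun x => if x = Sum.inl i then c else if x = Sum.inr i then c⁻¹ else 1

theorem dSingle_in {i : Fin m} {c : F} {x : Idx m} (h : und x = i) :
    dSingle S i c (Sum.inr x) = c ∨ dSingle S i c (Sum.inr x) = c⁻¹ := by
  subst h
  rcases x with x | x <;> simp [dSingle, und]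

theorem dSingle_out {i : Fin m} {c : F} {x : Idx m} (h : und x ≠ i) : dSingle S i c (Sum.inr x) = 1 := by
  rcases x with x | x <;> simp_all [dSingle, und]

theorem lam_out {i : Fin m} {c : F} {q : Root S m} (h : ¬ In i q) : lam (dSingle S i c) q = 1 := by
  simp only [In, not_or, not_exists, not_and] at h
  rw [lam, dSingle_out h.1]
  rcases hb : q.1.2 with s | b
  · simp [dSingle]
  · rw [dSingle_out (h.2 b hb), one_mul]

theorem lam_in {i : Fin m} {c : F} (hc : c ≠ 1) {q : Root S m} (h : In i q) :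
    lam (dSingle S i c) q ≠ 1 := by
  have hc' : c⁻¹ ≠ 1 := fun e => hc (inv_eq_one.1 e)
  rcases h with h | ⟨b, hb, h⟩
  · rw [lam]
    rcases hb : q.1.2 with s | b
    · rcases dSingle_in (S := S) (c := c) h with e | e <;> rw [e] <;> simpa [dSingle]
    · rw [dSingle_out (x := b) (fun e => root_und q hb (h.trans e.symm)), mul_one]
      rcases dSingle_in (S := S) (c := c) h with e | e <;> rw [e] <;> assumption
  · rw [lam, hb, dSingle_out (x := q.1.1) (fun e => root_und q hb (e.trans h.symm)), one_mul]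
    rcases dSingle_in (S := S) (c := c) h with e | e <;> rw [e] <;> assumption

variable (fr) in
/-- a torus element changing one coordinate -/
theorem exists_single (hm : 2 ≤ m) (i : Fin m) {y : F} (hy : y ≠ 0) :
    ∃ T, IsTor fr T (dSingle S i (y ^ 2)) := by
  obtain ⟨j, hj⟩ : ∃ j : Fin m, j ≠ i := by
    have : Nontrivial (Fin m) := Fin.nontrivial_iff_two_le.2 hm
    exact exists_ne i
  obtain ⟨q1, h1⟩ : ∃ q : Root S m, q.1 = (Sum.inl i, Sum.inr (Sum.inl j)) :=
    ⟨⟨(Sum.inl i, Sum.inr (Sum.inl j)), by simp [hj], by simp⟩, rfl⟩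
  obtain ⟨q2, h2⟩ : ∃ q : Root S m, q.1 = (Sum.inl i, Sum.inr (Sum.inr j)) :=
    ⟨⟨(Sum.inl i, Sum.inr (Sum.inr j)), by simp, by simp [hj]⟩, rfl⟩
  refine ⟨cor fr q1 y * cor fr q2 y, ?_⟩
  convert (isTor_cor (fr := fr) q1 hy).mul (isTor_cor (fr := fr) q2 hy) using 1
  funext x
  rcases x with s | (x | x)
  · simp [dSingle, hD, h1, h2]
  · rcases eq_or_ne x i with rfl | hxi
    · simp [dSingle, hD, h1, h2, hj.symm, pow_two]
    rcases eq_or_ne x j with rfl | hxj
    · simp [dSingle, hD, h1, h2, hxi, hy]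
    · simp [dSingle, hD, h1, h2, hxi, hxj]
  · rcases eq_or_ne x i with rfl | hxi
    · simp [dSingle, hD, h1, h2, hj.symm, pow_two, mul_inv]
    rcases eq_or_ne x j with rfl | hxj
    · simp [dSingle, hD, h1, h2, hxi, hy]
    · simp [dSingle, hD, h1, h2, hxi, hxj]

variable {Γ : Type*} [Group Γ] {π : Γ →* Spin fr} (C : CExt π)

theorem cmt_of_in (hm : 2 ≤ m) {y : F} (hy : y ≠ 0) (hy1 : y ^ 2 ≠ 1) {q r : Root S m}
    (hc : ∀ t u, Commute (rt fr q t) (rt fr r u)) {i : Fin m} (hq : In i q) (hr : ¬ In i r) : Cmt C q r := by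
  obtain ⟨T, hT⟩ := exists_single fr hm i hy
  exact cmt_of_scale C hc hT (lam_out hr) (lam_in hy1 hq)

theorem big_self_long (hm : 3 ≤ m) {y : F} (hy : y ≠ 0) (hy1 : y ^ 2 ≠ 1) (q : Root S m) {b : Idx m}
    (hb : q.1.2 = Sum.inr b) : Cmt C q q := by
  obtain ⟨⟨a, j⟩, q1, q2⟩ := q
  obtain rfl : j = Sum.inr b := hb
  have hab : b ≠ a := fun e => q1 (by rw [e])
  have hab' : b ≠ a.swap := fun e => q2 (by rw [e])
  obtain ⟨c, c1, c2, c3, c4⟩ := exists_third hm a b
  obtain ⟨A, hA⟩ : ∃ A : Root S m, A.1 = (a, Sum.inr c.swap) :=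
    ⟨⟨(a, Sum.inr c.swap), by simp; exact fun e => c2 (by rw [← e, Sum.swap_swap]),
      by simp; exact fun e => c1 (Sum.swap_leftInverse.injective e)⟩, rfl⟩
  obtain ⟨B, hB⟩ : ∃ B : Root S m, B.1 = (c, Sum.inr b) :=
    ⟨⟨(c, Sum.inr b), by simp; exact c3.symm, by simp; exact fun e => c4 (by rw [e, Sum.swap_swap])⟩, rfl⟩
  have hq : ∀ u, rt fr ⟨(a, Sum.inr b), q1, q2⟩ u = ⁅rt fr A u, rt fr B 1⁆ := fun u => by
    rw [bracket_long fr A B ⟨(a, Sum.inr b), q1, q2⟩ hA hB rfl, mul_one]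
  intro t u
  rw [hq u]
  refine cm_bracket C (commute_rt fr _ A ?_ ?_ ?_ ?_ _ _) (commute_rt fr _ B ?_ ?_ ?_ ?_ _ _) <;>
    simp [hA, hB, swapJ]
  · exact (idx_swap_ne a).symm
  · exact fun e => hab' (by rw [e, Sum.swap_swap])
  · exact fun e => c1 (Sum.swap_leftInverse.injective e)
  · exact fun e => c3 (Sum.swap_leftInverse.injective e)
  · exact c2
  · exact c4
  · exact hab'
  · exact (idx_swap_ne b).symm

theorem big_same (hm : 2 ≤ m) {y : F} (hy : y ≠ 0) (hy1 : y ^ 2 ≠ 1) (q r : Root S m) (a b : Idx m)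
    (hq : q.1 = (a, Sum.inr b)) (hr : r.1 = (a, Sum.inr b.swap)) : Cmt C q r := by
  refine cmt_of_scale C (commute_same fr q r hq hr) (isTor_cor q hy) ?_ ?_
  · have hab : b ≠ a := fun e => q.2.1 (by rw [hq, e])
    have hab' : b ≠ a.swap := fun e => q.2.2 (by rw [hq, e])
    have hb'a : b.swap ≠ a := fun e => hab' (by rw [← e, Sum.swap_swap])
    simp [lam, hD, hq, hr, hb'a, idx_swap_ne, mul_inv_cancel₀ hy]
  · simpa [lam, hD, hq, pow_two] using hy1

theorem big_flat (hm : 3 ≤ m) {y : F} (hy : y ≠ 0) (hy1 : y ^ 2 ≠ 1) (q r : Root S m)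
    (a1 : r.1.1 ≠ q.1.1.swap) (a2 : Sum.inr r.1.1 ≠ swapJ q.1.2) (b1 : r.1.2 ≠ Sum.inr q.1.1.swap)
    (b2 : r.1.2 ≠ swapJ q.1.2) : Cmt C q r := by
  by_cases h : ∃ i, In i q ∧ ¬ In i r
  · obtain ⟨i, h1, h2⟩ := h
    exact cmt_of_in C (by omega) hy hy1 (commute_rt fr q r a1 a2 b1 b2) h1 h2
  by_cases h' : ∃ i, In i r ∧ ¬ In i q
  · obtain ⟨i, h1, h2⟩ := h'
    exact (cmt_of_in C (by omega) hy hy1 (fun t u => (commute_rt fr q r a1 a2 b1 b2 u t).symm) h1 h2).symm
  simp only [not_exists, not_and, not_not] at h h'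
  obtain ⟨⟨a, j⟩, q1, q2⟩ := q
  obtain ⟨⟨c, k⟩, r1, r2⟩ := r
  rcases j with s | b
  · rcases k with s' | d
    · exact absurd (by simp [swapJ, fr.sub s' s]) b2
    · have e1 := h' (und c) (Or.inl rfl)
      have e2 := h' (und d) (Or.inr ⟨d, rfl, rfl⟩)
      simp [In] at e1 e2
      exact absurd (e1.symm.trans e2) (root_und ⟨(c, Sum.inr d), r1, r2⟩ rfl)
  · rcases k with s' | d
    · have e1 := h (und a) (Or.inl rfl)
      have e2 := h (und b) (Or.inr ⟨b, rfl, rfl⟩)
      simp [In] at e1 e2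
      exact absurd (e1.symm.trans e2) (root_und ⟨(a, Sum.inr b), q1, q2⟩ rfl)
    · have hcd := root_und ⟨(c, Sum.inr d), r1, r2⟩ rfl
      have ec := h' (und c) (Or.inl rfl)
      have ed := h' (und d) (Or.inr ⟨d, rfl, rfl⟩)
      simp [In] at ec ed a1 a2 b1 b2
      simp [swapJ] at a2 b2
      have hca : und a = und c → c = a := fun e => (und_eq e).resolve_right a1
      have hcb : und b = und c → c = b := fun e => (und_eq e).resolve_right a2
      have hda : und a = und d → d = a := fun e => (und_eq e).resolve_right b1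
      have hdb : und b = und d → d = b := fun e => (und_eq e).resolve_right b2
      have self := big_self_long C hm hy hy1 ⟨(a, Sum.inr b), q1, q2⟩ rfl
      rcases ec with e | e
      · obtain rfl := hca e
        rcases ed with e' | e'
        · exact absurd (e.symm.trans e') hcd
        · obtain rfl := hdb e'
          exact self
      · obtain rfl := hcb e
        rcases ed with e' | e'
        · obtain rfl := hda e'
          exact self.flip_right C c rfl
        · exact absurd (e.symm.trans e') hcd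

theorem big_self_short (hm : 3 ≤ m) {y : F} (hy : y ≠ 0) (hy1 : y ^ 2 ≠ 1) (q : Root S m) (a : Idx m) (x : S)
    (hq : q.1 = (a, Sum.inl x)) : Cmt C q q := by
  obtain ⟨c, c1, c2, -, -⟩ := exists_third hm a a
  obtain ⟨A, hA⟩ : ∃ A : Root S m, A.1 = (a, Sum.inr c.swap) :=
    ⟨⟨(a, Sum.inr c.swap), by simp; exact fun e => c2 (by rw [← e, Sum.swap_swap]),
      by simp; exact fun e => c1 (Sum.swap_leftInverse.injective e)⟩, rfl⟩
  obtain ⟨B, hB⟩ : ∃ B : Root S m, B.1 = (c, Sum.inl x) := ⟨⟨(c, Sum.inl x), by simp, by simp⟩, rfl⟩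
  obtain ⟨L, hL⟩ : ∃ L : Root S m, L.1 = (a, Sum.inr c) := ⟨⟨(a, Sum.inr c), by simpa using c1, by simpa using c2⟩, rfl⟩
  obtain ⟨D, hD⟩ : ∃ D : Root S m, D.1 = (c, Sum.inr a) :=
    ⟨⟨(c, Sum.inr a), by simpa using c1.symm, by simp; exact fun e => c2 (by rw [e, Sum.swap_swap])⟩, rfl⟩
  have hna := idx_swap_ne a
  have hnc := idx_swap_ne c
  have cqA : ∀ t u, Commute (rt fr q t) (rt fr A u) := commute_rt fr q A (by rw [hq, hA]; exact hna.symm)
    (by rw [hq, hA]; simp [swapJ]) (by rw [hq, hA]; simp; exact fun e => c1 (Sum.swap_leftInverse.injective e))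
    (by rw [hq, hA]; simp [swapJ])
  intro t u
  have hl : rt fr L (-u) * ⁅rt fr A u, rt fr B 1⁆ = rt fr q u := by
    rw [bracket_mixed fr A B q L hA hB hq hL, one_pow, mul_one, ← mul_assoc, rt_add, neg_add_cancel, rt_zero, one_mul]
  obtain ⟨s, hs⟩ : ∃ s, π s = rt fr q t := C.surj _
  obtain ⟨l, hl'⟩ : ∃ l, π l = rt fr L (-u) := C.surj _
  obtain ⟨Ã, hÃ⟩ : ∃ s, π s = rt fr A u := C.surj _
  obtain ⟨B', hB'⟩ : ∃ s, π s = rt fr B 1 := C.surj _
  obtain ⟨E, hE⟩ : ∃ s, π s = rt fr D (2 * t * 1) := C.surj _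
  have hprod : π (l * ⁅Ã, B'⁆) = rt fr q u := by rw [map_mul, map_commutatorElement, hl', hÃ, hB', hl]
  rw [← C.comm_eq hs hprod, commutatorElement_eq_one_iff_commute]
  have kill_qL : Cmt C q L := big_flat C hm hy hy1 q L (by rw [hq, hL]; exact hna.symm)
    (by rw [hq, hL]; simp [swapJ]) (by rw [hq, hL]; simpa using c2) (by rw [hq, hL]; simp [swapJ])
  have kill_qD : Cmt C q D := big_flat C hm hy hy1 q D (by rw [hq, hD]; exact c2)
    (by rw [hq, hD]; simp [swapJ]) (by rw [hq, hD]; simp; exact hna.symm) (by rw [hq, hD]; simp [swapJ])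
  have kill_LD : Cmt C L D := by
    have := (big_self_long C hm hy hy1 L (b := c) (by rw [hL])).flip_right C c (by rw [hL])
    rwa [show L.flipPair c (by rw [hL]) = D from Subtype.ext (by simp [Root.flipPair, hL, hD])] at this
  have kill_AD : Cmt C A D := by
    have := (big_same C (by omega) hy hy1 A L a c.swap hA (by rw [Sum.swap_swap, hL])).flip_right C c (by rw [hL])
    rwa [show L.flipPair c (by rw [hL]) = D from Subtype.ext (by simp [Root.flipPair, hL, hD])] at this
  refine (kill_qL.commute C hs hl').mul_right ?_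
  rw [commute_iff_eq, ← mul_inv_eq_iff_eq_mul,
    show s * ⁅Ã, B'⁆ * s⁻¹ = ⁅s * Ã * s⁻¹, s * B' * s⁻¹⁆ by simp only [commutatorElement_def]; group]
  have eA : π (s * Ã * s⁻¹) = rt fr A u := by
    rw [map_mul, map_mul, map_inv, hs, hÃ, (cqA t u).eq, mul_inv_cancel_right]
  have eB : π (s * B' * s⁻¹) = π (E * B') := by
    rw [map_mul, map_mul, map_inv, map_mul, hs, hB', hE]
    have := bracket_short fr q B D hq hB hD t 1
    rw [commutatorElement_def, mul_inv_eq_iff_eq_mul] at this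
    exact this
  rw [C.comm_eq eA (h := π (E * B')) eB, ← C.comm_eq hÃ rfl,
    show ⁅Ã, E * B'⁆ = ⁅Ã, E⁆ * (E * ⁅Ã, B'⁆ * E⁻¹) by simp only [commutatorElement_def]; group,
    commutatorElement_eq_one_iff_commute.2 (kill_AD.commute C hÃ hE), one_mul, mul_inv_eq_iff_eq_mul]
  refine Commute.eq ?_
  have hprod' : π ⁅Ã, B'⁆ = rt fr L u * rt fr q u := by
    rw [map_commutatorElement, hÃ, hB', bracket_mixed fr A B q L hA hB hq hL, one_pow, mul_one]
  obtain ⟨g, hg⟩ : ∃ g, π g = rt fr L u := C.surj _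
  obtain ⟨g', hg'⟩ : ∃ g, π g = rt fr q u := C.surj _
  obtain ⟨z, hz, ez⟩ := C.diff (show π ⁅Ã, B'⁆ = π (g * g') by rw [hprod', map_mul, hg, hg'])
  rw [ez]
  exact (((kill_LD.symm).commute C hE hg).mul_right ((kill_qD.symm).commute C hE hg')).mul_right (C.ker_comm hz E)

/-- separating data over fields with more than three elements -/
theorem seps_big (hm : 3 ≤ m) {y : F} (hy : y ≠ 0) (hy1 : y ^ 2 ≠ 1) : Seps C := by
  have key : ∀ (q r : Root S m) (i : Fin m), In i q → ¬ In i r →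
      ∃ T d, IsTor fr T d ∧ lam d r = 1 ∧ lam d q ≠ 1 := fun q r i h1 h2 => by
    obtain ⟨T, hT⟩ := exists_single fr (by omega) i hy
    exact ⟨T, _, hT, lam_out h2, lam_in hy1 h1⟩
  refine ⟨big_flat C hm hy hy1, big_same C (by omega) hy hy1, big_self_short C hm hy hy1, fun q => ?_, ?_, ?_, ?_⟩
  · obtain ⟨T, hT⟩ := exists_single fr (by omega) (und q.1.1) hy
    exact ⟨T, _, hT, lam_in hy1 (Or.inl rfl)⟩
  · intro q r k a w b h1 h2 h3
    refine key q r (und a) (Or.inl (by rw [h1])) ?_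
    have e1 := root_und q (b := w.swap) (by rw [h1])
    have e2 := root_und k (b := b) (by rw [h3])
    rw [h1] at e1; rw [h3] at e2; rw [und_swap] at e1
    rintro (e | ⟨b', hb', e⟩)
    · rw [h2] at e; exact e1 e.symm
    · rw [h2] at hb'; simp at hb'; subst hb'; exact e2 e.symm
  · intro q r k l a w x h1 h2 h3 h4
    refine key q r (und a) (Or.inl (by rw [h1])) ?_
    have e1 := root_und q (b := w.swap) (by rw [h1])
    rw [h1, und_swap] at e1
    rintro (e | ⟨b', hb', e⟩)
    · rw [h2] at e; exact e1 e.symm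
    · rw [h2] at hb'; simp at hb'
  · intro q r l a w x h1 h2 h3
    refine key q r (und a) (Or.inl (by rw [h1])) ?_
    have e1 := root_und l (b := a) (by rw [h3])
    rw [h3] at e1
    rintro (e | ⟨b', hb', e⟩)
    · rw [h2] at e; exact e1 e
    · rw [h2] at hb'; simp at hb'

end

end CfsgLib.Known.SpinMult
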