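import Cfsg.Agent.Lib.Classical.Quad.Basic

/-!
# Units of a Clifford algebra normalising the space of vectors
-/

set_option autoImplicit false
set_option linter.unusedSectionVars false

namespace CfsgLib.Known.SpinMult

open CliffordAlgebra QuadraticMap CfsgLib.Classical.Quad

section Triple

variable {F : Type*} [Field F] {A : Type*} [Ring A] [Algebra F A]

/-- `1 + t P` for a square-zero `P` -/
def oneAdd (P : A) (h : P * P = 0) (t : F) : Aˣ where
  val := 1 + t • P
  inv := 1 + (-t) • P
  val_inv := by simp [add_mul, mul_add, h]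
  inv_val := by simp [add_mul, mul_add, h]

theorem oneAdd_val (P : A) (h : P * P = 0) (t : F) : (oneAdd P h t : A) = 1 + t • P := rfl

theorem oneAdd_inv_val (P : A) (h : P * P = 0) (t : F) : (((oneAdd P h t)⁻¹ : Aˣ) : A) = 1 + (-t) • P := rfl

theorem oneAdd_add (P : A) (h : P * P = 0) (t u : F) : oneAdd P h t * oneAdd P h u = oneAdd P h (t + u) := by
  ext
  simp only [Units.val_mul, oneAdd_val, add_mul, mul_add, one_mul, mul_one, smul_mul_smul_comm, h, smul_zero,
    add_zero, add_smul]
  abel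

variable {P P' : A} (hP : P * P = 0) (hP' : P' * P' = 0) (h1 : P * P' * P = P) (h2 : P' * P * P' = P')
include hP hP' h1 h2

theorem weyl_val {c : F} (hc : c ≠ 0) :
    ((oneAdd P hP c : A) * oneAdd P' hP' (-c⁻¹) * oneAdd P hP c) =
      1 - P * P' - P' * P + c • P - c⁻¹ • P' := by
  simp only [oneAdd_val, add_mul, mul_add, one_mul, mul_one, smul_mul_smul_comm, smul_mul_assoc, mul_smul_comm,
    smul_smul, hP, h1, smul_zero, add_zero]
  match_scalars <;> field_simp <;> ring

theorem torus_val {c : F} (hc : c ≠ 0) :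
    ((oneAdd P hP c * oneAdd P' hP' (-c⁻¹) * oneAdd P hP c) *
      (oneAdd P hP (-1 : F) * oneAdd P' hP' (1 : F) * oneAdd P hP (-1 : F)) : Aˣ).val =
      1 - P * P' - P' * P + c • (P * P') + c⁻¹ • (P' * P) := by
  have e := weyl_val hP hP' h1 h2 (neg_ne_zero.2 (one_ne_zero (α := F)))
  rw [inv_neg, inv_one, neg_neg] at e
  simp only [Units.val_mul]
  rw [weyl_val hP hP' h1 h2 hc, e]
  have a1 : P * P' * (P * P') = P * P' := by rw [← mul_assoc, h1]
  have a2 : P' * P * (P' * P) = P' * P := by rw [← mul_assoc, h2]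
  have b1 : P * P' * (P' * P) = 0 := by rw [mul_assoc, ← mul_assoc P', hP', zero_mul, mul_zero]
  have b2 : P' * P * (P * P') = 0 := by rw [mul_assoc, ← mul_assoc P, hP, zero_mul, mul_zero]
  have c1 : P * P' * P' = 0 := by rw [mul_assoc, hP', mul_zero]
  have c2 : P' * P * P = 0 := by rw [mul_assoc, hP, mul_zero]
  have c3 : P * (P * P') = 0 := by rw [← mul_assoc, hP, zero_mul]
  have c4 : P' * (P' * P) = 0 := by rw [← mul_assoc, hP', zero_mul]
  have c5 : P * (P' * P) = P := by rw [← mul_assoc, h1]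
  have c6 : P' * (P * P') = P' := by rw [← mul_assoc, h2]
  simp only [sub_mul, mul_sub, add_mul, mul_add, one_mul, mul_one, neg_mul, mul_neg, neg_smul, one_smul,
    smul_mul_assoc, mul_smul_comm, smul_sub, smul_add, smul_neg, sub_neg_eq_add, a1, a2, b1, b2, c1, c2, c3, c4,
    c5, c6, hP, hP', h1, h2, smul_zero]
  abel

theorem torus_mul_val (a b : F) :
    (1 - P * P' - P' * P + a • (P * P') + a⁻¹ • (P' * P)) * (1 - P * P' - P' * P + b • (P * P') + b⁻¹ • (P' * P)) =
      1 - P * P' - P' * P + (a * b) • (P * P') + (a * b)⁻¹ • (P' * P) := by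
  have a1 : P * P' * (P * P') = P * P' := by rw [← mul_assoc, h1]
  have a2 : P' * P * (P' * P) = P' * P := by rw [← mul_assoc, h2]
  have b1 : P * P' * (P' * P) = 0 := by rw [mul_assoc, ← mul_assoc P', hP', zero_mul, mul_zero]
  have b2 : P' * P * (P * P') = 0 := by rw [mul_assoc, ← mul_assoc P, hP, zero_mul, mul_zero]
  simp only [sub_mul, mul_sub, add_mul, mul_add, one_mul, mul_one, smul_mul_assoc, mul_smul_comm, smul_sub,
    smul_add, smul_smul, a1, a2, b1, b2, smul_zero]
  match_scalars <;> ring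

end Triple

variable {F : Type*} [Field F] {V : Type*} [AddCommGroup V] [Module F V] {Q : QuadraticForm F V}
  {n : Type*} [Fintype n] [LinearOrder n] (bm : Module.Basis n F V)

include bm in
theorem exists_change : ∃ B : LinearMap.BilinForm F V, B.toQuadraticMap = (0 : QuadraticForm F V) - Q :=
  ⟨(0 - Q).toBilin bm, toQuadraticMap_toBilin _ bm⟩

include bm in
theorem ι_eq_zero {v : V} (h : ι Q v = 0) : v = 0 := by
  obtain ⟨B, hB⟩ := exists_change (Q := Q) bm
  have := congrArg (changeForm hB) h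
  rw [changeForm_ι, map_zero] at this
  exact (ExteriorAlgebra.ι_eq_zero_iff v).1 this

include bm in
theorem algebraMap_inj : Function.Injective (algebraMap F (CliffordAlgebra Q)) := by
  obtain ⟨B, hB⟩ := exists_change (Q := Q) bm
  intro a b h
  have := congrArg (changeForm hB) h
  rw [changeForm_algebraMap, changeForm_algebraMap] at this
  exact (ExteriorAlgebra.algebraMap_leftInverse V).injective this

theorem ext_ι_mul_ι (m : V) (x : ExteriorAlgebra F V) :
    ExteriorAlgebra.ι F m * x * ExteriorAlgebra.ι F m = 0 := by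
  induction x using CliffordAlgebra.left_induction with
  | algebraMap r =>
    rw [← Algebra.commutes, mul_assoc, ExteriorAlgebra.ι_sq_zero, mul_zero]
  | add x y hx hy => rw [mul_add, add_mul, hx, hy, add_zero]
  | ι_mul x a hx =>
    show ExteriorAlgebra.ι F m * (ExteriorAlgebra.ι F a * x) * ExteriorAlgebra.ι F m = 0
    rw [← mul_assoc, eq_neg_of_add_eq_zero_left (ExteriorAlgebra.ι_add_mul_swap m a), neg_mul, neg_mul,
      mul_assoc (ExteriorAlgebra.ι F a), mul_assoc (ExteriorAlgebra.ι F a), hx, mul_zero, neg_zero]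

include bm in
theorem ext_scalar (z : ExteriorAlgebra F V) (hz : ∀ d : Module.Dual F V, contractLeft d z = 0) :
    ∃ c, z = algebraMap F _ c := by
  classical
  refine ⟨ExteriorAlgebra.algebraMapInv z, sub_eq_zero.1 ?_⟩
  obtain ⟨w, hw⟩ : ∃ w, w = z - algebraMap F _ (ExteriorAlgebra.algebraMapInv z) := ⟨_, rfl⟩
  rw [← hw]
  have hwd : ∀ i, contractLeft (bm.coord i) w = 0 := fun i => by
    rw [hw, map_sub, hz, contractLeft_algebraMap, sub_zero]
  obtain ⟨P, hP⟩ : ∃ P : List n → ExteriorAlgebra F V, P = fun l => (l.map fun i => ExteriorAlgebra.ι F (bm i)).prod :=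
    ⟨_, rfl⟩
  have hkill : ∀ l : List n, ∀ i, i ∈ l → P l * ExteriorAlgebra.ι F (bm i) = 0 := by
    intro l
    induction l with
    | nil => simp
    | cons j l ih =>
      intro i hi
      simp only [hP, List.map_cons, List.prod_cons] at ih ⊢
      by_cases h : i ∈ l
      · rw [mul_assoc, ih i h, mul_zero]
      · obtain rfl : i = j := (List.mem_cons.1 hi).resolve_right h
        exact ext_ι_mul_ι _ _
  have hcontr : ∀ l : List n, ∀ i, i ∉ l → ∀ x, contractLeft (bm.coord i) x = 0 →
      contractLeft (bm.coord i) (P l * x) = 0 := by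
    intro l
    induction l with
    | nil => intro i _ x hx; simpa [hP] using hx
    | cons j l ih =>
      intro i hi x hx
      rw [List.mem_cons, not_or] at hi
      simp only [hP, List.map_cons, List.prod_cons] at ih ⊢
      rw [mul_assoc, ExteriorAlgebra.ι, contractLeft_ι_mul]
      rw [Module.Basis.coord_apply, Module.Basis.repr_self, Finsupp.single_eq_of_ne (Ne.symm (Ne.symm hi.1))]
      rw [zero_smul, ih i hi.2 x hx, mul_zero, sub_zero]
  have htop : ∀ y : ExteriorAlgebra F V, P Finset.univ.toList * y =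
      P Finset.univ.toList * algebraMap F _ (ExteriorAlgebra.algebraMapInv y) := by
    intro y
    induction y using CliffordAlgebra.left_induction with
    | algebraMap r =>
      show _ = _ * algebraMap F _ (ExteriorAlgebra.algebraMapInv (algebraMap F (ExteriorAlgebra F V) r))
      rw [ExteriorAlgebra.algebraMap_leftInverse]
    | add x y hx hy => rw [mul_add, hx, hy, map_add, map_add, mul_add]
    | ι_mul x m _ =>
      show P _ * (ExteriorAlgebra.ι F m * x) = _
      have h0 : P Finset.univ.toList * ExteriorAlgebra.ι F m = 0 := by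
        rw [← bm.sum_repr m, map_sum, Finset.mul_sum]
        refine Finset.sum_eq_zero fun i _ => ?_
        rw [map_smul, mul_smul_comm, hkill _ i (Finset.mem_toList.2 (Finset.mem_univ i)), smul_zero]
      rw [← mul_assoc, h0, zero_mul, map_mul, show ExteriorAlgebra.algebraMapInv (ExteriorAlgebra.ι F m) = 0 by
        simp [ExteriorAlgebra.algebraMapInv]]
      rw [zero_mul, map_zero, mul_zero]
  have hend : P Finset.univ.toList * w = 0 := by
    rw [hw, mul_sub, htop z, sub_self]
  suffices ∀ l : List n, l.Nodup → P l * w = 0 → w = 0 from this _ (Finset.nodup_toList _) hend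
  intro l
  induction l with
  | nil => intro _ h; simpa [hP] using h
  | cons j l ih =>
    intro hl h
    rw [List.nodup_cons] at hl
    refine ih hl.2 ?_
    have h2 := congrArg (contractLeft (bm.coord j)) h
    have e := hcontr l j hl.1 w (hwd j)
    simp only [hP, List.map_cons, List.prod_cons, map_zero] at h2 e
    rw [mul_assoc, ExteriorAlgebra.ι, contractLeft_ι_mul, e, mul_zero, sub_zero, Module.Basis.coord_apply,
      Module.Basis.repr_self, Finsupp.single_eq_same, one_smul] at h2
    simpa [hP] using h2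

theorem graded_comm (v : V) (z : CliffordAlgebra Q) :
    ι Q v * z - involute z * ι Q v = contractLeft ((polarBilin Q) v) z := by
  induction z using CliffordAlgebra.left_induction with
  | algebraMap r => rw [AlgHom.commutes, ← Algebra.commutes, sub_self, contractLeft_algebraMap]
  | add x y hx hy => rw [mul_add, map_add, add_mul, map_add, ← hx, ← hy]; abel
  | ι_mul x a hx =>
    rw [contractLeft_ι_mul, ← hx, map_mul, involute_ι, ← mul_assoc, ι_mul_ι_comm v a, sub_mul,
      QuadraticMap.polarBilin_apply_apply, mul_sub, Algebra.smul_def]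
    noncomm_ring

include bm in
theorem scalar_of_commute (hQ : (polarBilin Q).Nondegenerate) {z : CliffordAlgebra Q} (h1 : involute z = z)
    (h2 : ∀ v, ι Q v * z = z * ι Q v) : ∃ c, z = algebraMap F _ c := by
  have : Module.Finite F V := Module.Finite.of_basis bm
  obtain ⟨B, hB⟩ := exists_change (Q := Q) bm
  obtain ⟨c, hc⟩ := ext_scalar bm (changeForm hB z) fun d => by
    obtain ⟨v, rfl⟩ : ∃ v, polarBilin Q v = d :=
      ⟨(LinearMap.BilinForm.toDual (polarBilin Q) hQ).symm d, LinearMap.ext fun x => by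
        exact (LinearMap.BilinForm.toDual_def (b := hQ)).symm.trans (by rw [LinearEquiv.apply_symm_apply])⟩
    rw [← changeForm_contractLeft, ← graded_comm, h1, h2, sub_self, map_zero]
  refine ⟨c, (changeFormEquiv hB).injective ?_⟩
  show changeForm hB z = changeForm hB _
  rw [hc, changeForm_algebraMap]

/-- units normalising the vectors -/
def Nrm (Q : QuadraticForm F V) : Subgroup (CliffordAlgebra Q)ˣ where
  carrier := {g | (∀ v, ∃ w, (g : CliffordAlgebra Q) * ι Q v * (g⁻¹ : (CliffordAlgebra Q)ˣ) = ι Q w) ∧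
    ∀ v, ∃ w, ((g⁻¹ : (CliffordAlgebra Q)ˣ) : CliffordAlgebra Q) * ι Q v * g = ι Q w}
  one_mem' := ⟨fun v => ⟨v, by simp⟩, fun v => ⟨v, by simp⟩⟩
  mul_mem' := by
    rintro a b ⟨ha, ha'⟩ ⟨hb, hb'⟩
    refine ⟨fun v => ?_, fun v => ?_⟩
    · obtain ⟨w, hw⟩ := hb v
      obtain ⟨x, hx⟩ := ha w
      exact ⟨x, by rw [← hx, ← hw, mul_inv_rev, Units.val_mul, Units.val_mul]; noncomm_ring⟩
    · obtain ⟨w, hw⟩ := ha' v
      obtain ⟨x, hx⟩ := hb' w
      exact ⟨x, by rw [← hx, ← hw, mul_inv_rev, Units.val_mul, Units.val_mul]; noncomm_ring⟩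
  inv_mem' := by
    rintro a ⟨ha, ha'⟩
    exact ⟨by simpa using ha', by simpa using ha⟩

/-- the image of a vector -/
noncomputable def actv (g : Nrm Q) (v : V) : V := Classical.choose (g.2.1 v)

theorem ι_actv (g : Nrm Q) (v : V) :
    ((g : (CliffordAlgebra Q)ˣ) : CliffordAlgebra Q) * ι Q v * ((g : (CliffordAlgebra Q)ˣ)⁻¹ : (CliffordAlgebra Q)ˣ) =
      ι Q (actv g v) := Classical.choose_spec (g.2.1 v)

include bm in
theorem ι_inj {u v : V} (h : ι Q u = ι Q v) : u = v :=
  sub_eq_zero.1 (ι_eq_zero bm (by rw [map_sub, h, sub_self]))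

include bm in
theorem actv_eq {g : Nrm Q} {v w : V} (h : ((g : (CliffordAlgebra Q)ˣ) : CliffordAlgebra Q) * ι Q v *
    ((g : (CliffordAlgebra Q)ˣ)⁻¹ : (CliffordAlgebra Q)ˣ) = ι Q w) : actv g v = w :=
  ι_inj bm ((ι_actv g v).symm.trans h)

include bm in
theorem actv_mul (g h : Nrm Q) (v : V) : actv (g * h) v = actv g (actv h v) := by
  refine actv_eq bm ?_
  rw [← ι_actv g (actv h v), ← ι_actv h v, Subgroup.coe_mul, mul_inv_rev, Units.val_mul, Units.val_mul]
  noncomm_ring

include bm in
theorem actv_one (v : V) : actv (1 : Nrm Q) v = v := actv_eq bm (by simp)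

/-- the orthogonal transformation of a normalising unit -/
noncomputable def act : Nrm Q →* OQ Q where
  toFun g := ⟨{
    toFun := actv g
    invFun := actv g⁻¹
    map_add' := fun u v => actv_eq bm (by rw [map_add, mul_add, add_mul, ι_actv, ι_actv, map_add])
    map_smul' := fun c u => actv_eq bm (by
      rw [map_smul, mul_smul_comm, smul_mul_assoc, ι_actv, RingHom.id_apply, map_smul])
    left_inv := fun v => by rw [← actv_mul bm, inv_mul_cancel, actv_one bm]
    right_inv := fun v => by rw [← actv_mul bm, mul_inv_cancel, actv_one bm] }, mem_OQ.2 fun v => by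
      refine algebraMap_inj (Q := Q) bm ?_
      show algebraMap F _ (Q (actv g v)) = _
      rw [← ι_sq_scalar, ← ι_actv]
      simp only [mul_assoc, Units.inv_mul_cancel_left]
      rw [← mul_assoc (ι Q v), ι_sq_scalar, Algebra.commutes, ← mul_assoc, Units.mul_inv, one_mul]⟩
  map_one' := Subtype.ext (LinearEquiv.ext fun v => actv_one bm v)
  map_mul' g h := Subtype.ext (LinearEquiv.ext fun v => actv_mul bm g h v)

theorem act_apply (g : Nrm Q) (v : V) : (act bm g : V ≃ₗ[F] V) v = actv g v := rfl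

theorem conj_pair (g : Nrm Q) (u v : V) :
    ((g : (CliffordAlgebra Q)ˣ) : CliffordAlgebra Q) * (ι Q u * ι Q v) *
      ((g : (CliffordAlgebra Q)ˣ)⁻¹ : (CliffordAlgebra Q)ˣ) = ι Q (actv g u) * ι Q (actv g v) := by
  rw [← ι_actv, ← ι_actv]
  simp only [mul_assoc, Units.inv_mul_cancel_left]

/-- square-zero products -/
theorem pair_sq {u v : V} (hu : Q u = 0) (hb : polar Q u v = 0) : ι Q u * ι Q v * (ι Q u * ι Q v) = 0 := by
  rw [mul_assoc, ← mul_assoc (ι Q v), ι_mul_ι_comm v u, polar_comm (⇑Q) v u, hb, map_zero, zero_sub, neg_mul,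
    mul_neg, ← mul_assoc, ← mul_assoc, ι_sq_scalar, hu, map_zero, zero_mul, zero_mul, neg_zero]

theorem pair_conj {u v : V} (hu : Q u = 0) (hb : polar Q u v = 0) (t : F) (w : V) :
    (1 + t • (ι Q u * ι Q v)) * ι Q w * (1 + (-t) • (ι Q u * ι Q v)) =
      ι Q (w + t • (polar Q v w • u - polar Q u w • v) - (t * t * polar Q u w * Q v) • u) := by
  have e1 : ι Q u * ι Q v * ι Q w = ι Q w * (ι Q u * ι Q v) + ι Q (polar Q v w • u - polar Q u w • v) := by
    rw [mul_assoc, ι_mul_ι_comm v w, mul_sub, ← mul_assoc, ι_mul_ι_comm u w, sub_mul, map_sub, map_smul,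
      map_smul, ← Algebra.commutes, ← Algebra.smul_def, ← Algebra.smul_def, mul_assoc]
    abel
  have e2 : ι Q w * (ι Q u * ι Q v) * (ι Q u * ι Q v) = 0 := by rw [mul_assoc, pair_sq hu hb, mul_zero]
  have e3 : ι Q (polar Q v w • u - polar Q u w • v) * (ι Q u * ι Q v) = (polar Q u w * Q v) • ι Q u := by
    rw [map_sub, map_smul, map_smul, sub_mul, smul_mul_assoc, smul_mul_assoc, ← mul_assoc, ι_sq_scalar, hu,
      map_zero, zero_mul, smul_zero, zero_sub, ← mul_assoc, ι_mul_ι_comm v u, polar_comm (⇑Q) v u, hb, map_zero,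
      zero_sub, neg_mul, mul_assoc, ι_sq_scalar, ← Algebra.commutes, ← Algebra.smul_def, smul_neg, neg_neg,
      smul_smul]
  have e4 : ι Q u * ι Q v * ι Q w * (ι Q u * ι Q v) = (polar Q u w * Q v) • ι Q u := by
    rw [e1, add_mul, e2, e3, zero_add]
  rw [show (1 + t • (ι Q u * ι Q v)) * ι Q w * (1 + (-t) • (ι Q u * ι Q v)) = ι Q w +
      t • (ι Q u * ι Q v * ι Q w - ι Q w * (ι Q u * ι Q v)) - (t * t) • (ι Q u * ι Q v * ι Q w * (ι Q u * ι Q v)) by
    simp only [add_mul, mul_add, one_mul, mul_one, smul_mul_assoc, mul_smul_comm, smul_sub]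
    match_scalars <;> ring,
    e4, e1, add_sub_cancel_left]
  simp only [map_sub, map_add, map_smul, smul_smul, mul_assoc]

/-- root unit of a singular vector and an orthogonal vector -/
def X {u v : V} (hu : Q u = 0) (hb : polar Q u v = 0) (t : F) : Nrm Q :=
  ⟨oneAdd (ι Q u * ι Q v) (pair_sq hu hb) t, fun w => ⟨_, pair_conj hu hb t w⟩, fun w => ⟨_, by
    rw [oneAdd_inv_val, oneAdd_val]
    conv_lhs => rw [show t = -(-t) from (neg_neg t).symm]
    rw [neg_neg (-t)]
    exact pair_conj hu hb (-t) w⟩⟩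

theorem X_val {u v : V} (hu : Q u = 0) (hb : polar Q u v = 0) (t : F) :
    ((X hu hb t : (CliffordAlgebra Q)ˣ) : CliffordAlgebra Q) = 1 + t • (ι Q u * ι Q v) := rfl

theorem X_add {u v : V} (hu : Q u = 0) (hb : polar Q u v = 0) (t s : F) : X hu hb t * X hu hb s = X hu hb (t + s) :=
  Subtype.ext (oneAdd_add (ι Q u * ι Q v) (pair_sq hu hb) t s)

include bm in
theorem actv_X {u v : V} (hu : Q u = 0) (hb : polar Q u v = 0) (t : F) (w : V) :
    actv (X hu hb t) w = w + t • (polar Q v w • u - polar Q u w • v) - (t * t * polar Q u w * Q v) • u :=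
  actv_eq bm (pair_conj hu hb t w)

theorem conj_X (g : Nrm Q) {u v : V} (hu : Q u = 0) (hb : polar Q u v = 0) (t : F) :
    (((g * X hu hb t * g⁻¹ : Nrm Q) : (CliffordAlgebra Q)ˣ) : CliffordAlgebra Q) =
      1 + t • (ι Q (actv g u) * ι Q (actv g v)) := by
  rw [← conj_pair, Subgroup.coe_mul, Subgroup.coe_mul, Subgroup.coe_inv, Units.val_mul, Units.val_mul, X_val,
    mul_add, mul_one, add_mul, Units.mul_inv, mul_smul_comm, smul_mul_assoc]

theorem X_involute {u v : V} (hu : Q u = 0) (hb : polar Q u v = 0) (t : F) :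
    involute ((X hu hb t : (CliffordAlgebra Q)ˣ) : CliffordAlgebra Q) = 1 + t • (ι Q u * ι Q v) := by
  rw [X_val, map_add, map_one, map_smul, map_mul, involute_ι, involute_ι, neg_mul_neg]

theorem X_reverse {u v : V} (hu : Q u = 0) (hb : polar Q u v = 0) (t : F) :
    reverse ((X hu hb t : (CliffordAlgebra Q)ˣ) : CliffordAlgebra Q) * (1 + t • (ι Q u * ι Q v)) = 1 := by
  rw [X_val, map_add, reverse.map_one, map_smul, reverse.map_mul, reverse_ι, reverse_ι, ι_mul_ι_comm v u,
    polar_comm (⇑Q) v u, hb, map_zero, zero_sub, smul_neg, ← neg_smul]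
  simp [add_mul, mul_add, pair_sq hu hb]

end CfsgLib.Known.SpinMult
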