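import Cfsg.Agent.Lib.Known.SpinMult.Clifford

/-!
# Root elements of spin groups of split forms
-/

set_option autoImplicit false
set_option linter.unusedSectionVars false

namespace CfsgLib.Known.SpinMult

noncomputable section

open CliffordAlgebra QuadraticMap CfsgLib.Classical.Quad

/-- indices of a hyperbolic frame -/
abbrev Idx (m : ℕ) := Fin m ⊕ Fin m

/-- opposite index -/
def swapJ {S : Type} {m : ℕ} : S ⊕ Idx m → S ⊕ Idx m := Sum.map id Sum.swap

theorem swapJ_swapJ {S : Type} {m : ℕ} (j : S ⊕ Idx m) : swapJ (swapJ j) = j := by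
  rcases j with s | a <;> simp [swapJ]

theorem idx_swap_ne {m : ℕ} (a : Idx m) : a.swap ≠ a := by cases a <;> simp

theorem swapJ_ne {S : Type} {m : ℕ} {a : Idx m} {b : S ⊕ Idx m} (h : b ≠ Sum.inr a.swap) :
    swapJ b ≠ Sum.inr a := fun e => h (by rw [← swapJ_swapJ b, e]; rfl)

variable {F : Type*} [Field F] {V : Type*} [AddCommGroup V] [Module F V]

/-- a basis adapted to a split quadratic form -/
structure Frame (Q : QuadraticForm F V) (m : ℕ) (S : Type) [Fintype S] where
  e : Module.Basis (S ⊕ Idx m) F V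
  sing : ∀ a, Q (e (Sum.inr a)) = 0
  pair : ∀ a b, polar Q (e (Sum.inr a)) (e (Sum.inr b)) = if b = a.swap then 1 else 0
  cross : ∀ s a, polar Q (e (Sum.inl s)) (e (Sum.inr a)) = 0
  qs : ∀ s, Q (e (Sum.inl s)) = 1
  sub : ∀ s s' : S, s = s'
  two : ∀ _ : S, (2 : F) ≠ 0

/-- roots, as ordered pairs of basis indices -/
abbrev Root (S : Type) (m : ℕ) := {q : Idx m × (S ⊕ Idx m) // q.2 ≠ Sum.inr q.1 ∧ q.2 ≠ Sum.inr q.1.swap}

/-- opposite root -/
def Root.neg {S : Type} {m : ℕ} (q : Root S m) : Root S m :=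
  ⟨(q.1.1.swap, swapJ q.1.2), swapJ_ne (by rw [Sum.swap_swap]; exact q.2.1), swapJ_ne (by
    rw [Sum.swap_swap]; exact q.2.2)⟩

theorem Root.neg_neg {S : Type} {m : ℕ} (q : Root S m) : q.neg.neg = q :=
  Subtype.ext (Prod.ext (Sum.swap_swap _) (swapJ_swapJ _))

variable {Q : QuadraticForm F V} {m : ℕ} {S : Type} [Fintype S] [DecidableEq S] (fr : Frame Q m S)

/-- value of the polar form on a pair of opposite basis vectors -/
def nu (S : Type) (m : ℕ) : S ⊕ Idx m → F := Sum.elim (fun _ => 2) (fun _ => 1)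

theorem polar_e (j k : S ⊕ Idx m) :
    polar Q (fr.e j) (fr.e k) = if k = swapJ j then nu S m j else 0 := by
  rcases j with s | a <;> rcases k with s' | b
  · obtain rfl := fr.sub s s'
    rw [polar_self', fr.qs, if_pos (show Sum.inl s = swapJ (Sum.inl s : S ⊕ Idx m) from rfl), mul_one]
    rfl
  · rw [fr.cross, if_neg (by simp [swapJ])]
  · rw [polar_comm, fr.cross, if_neg (by simp [swapJ])]
  · rw [fr.pair]
    by_cases h : b = a.swap <;> simp [h, swapJ, nu]

include fr in
theorem nu_ne (j : S ⊕ Idx m) : (nu S m j : F) ≠ 0 := by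
  rcases j with s | a
  · exact fr.two s
  · exact one_ne_zero

include fr in
theorem nondeg : (polarBilin Q).Nondegenerate := by
  have key : ∀ x : V, (∀ y, polar Q x y = 0) → x = 0 := fun x hx => by
    refine fr.e.ext_elem fun j => ?_
    have := hx (fr.e (swapJ j))
    rw [← fr.e.sum_repr x, ← QuadraticMap.polarBilin_apply_apply, map_sum, LinearMap.sum_apply,
      Finset.sum_eq_single j] at this
    · rw [map_smul, LinearMap.smul_apply, QuadraticMap.polarBilin_apply_apply, polar_e, if_pos rfl,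
        smul_eq_mul] at this
      rw [map_zero, Finsupp.zero_apply]
      exact (mul_eq_zero.1 this).resolve_right (nu_ne fr j)
    · intro k _ hk
      rw [map_smul, LinearMap.smul_apply, QuadraticMap.polarBilin_apply_apply, polar_e, if_neg, smul_zero]
      exact fun h => hk (by rw [← swapJ_swapJ k, ← h, swapJ_swapJ])
    · simp
  refine ⟨fun x hx => key x hx, fun y hy => key y fun x => ?_⟩
  rw [polar_comm]; exact hy x

/-- the frame as a basis indexed by an ordered type -/
noncomputable def Frame.bm (fr : Frame Q m S) : Module.Basis (Fin (Fintype.card (S ⊕ Idx m))) F V :=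
  fr.e.reindex (Fintype.equivFin _)

theorem perp_root (q : Root S m) : polar Q (fr.e (Sum.inr q.1.1)) (fr.e q.1.2) = 0 := by
  rw [polar_e, if_neg]; exact q.2.2

/-- root unit -/
def RX (q : Root S m) (t : F) : Nrm Q := X (fr.sing q.1.1) (perp_root fr q) t

/-- the spin group: generated by root units -/
def Spin : Subgroup (Nrm Q) := Subgroup.closure {g | ∃ q t, g = RX fr q t}

/-- root element -/
def rt (q : Root S m) (t : F) : Spin fr := ⟨RX fr q t, Subgroup.subset_closure ⟨q, t, rfl⟩⟩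

/-- opposite root element -/
def nt (q : Root S m) (t : F) : Spin fr := rt fr q.neg (-t)

/-- value in the algebra -/
def val (g : Spin fr) : CliffordAlgebra Q := (((g : Nrm Q) : (CliffordAlgebra Q)ˣ) : CliffordAlgebra Q)

theorem ext_val {g g' : Spin fr} (h : val fr g = val fr g') : g = g' :=
  Subtype.ext (Subtype.ext (Units.ext h))

theorem val_mul (g g' : Spin fr) : val fr (g * g') = val fr g * val fr g' := rfl

theorem val_one : val fr 1 = 1 := rfl

theorem val_rt (q : Root S m) (t : F) :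
    val fr (rt fr q t) = 1 + t • (ι Q (fr.e (Sum.inr q.1.1)) * ι Q (fr.e q.1.2)) := rfl

theorem rt_add (q : Root S m) (t u : F) : rt fr q t * rt fr q u = rt fr q (t + u) :=
  Subtype.ext (X_add (fr.sing q.1.1) (perp_root fr q) t u)

theorem rt_zero (q : Root S m) : rt fr q 0 = 1 := ext_val fr (by simp [val_rt, val_one])

theorem rt_neg (q : Root S m) (t : F) : rt fr q (-t) = (rt fr q t)⁻¹ := by
  rw [eq_inv_iff_mul_eq_one, rt_add, neg_add_cancel, rt_zero]

/-- the orthogonal map -/
noncomputable def toO : Spin fr →* OQ Q := (act fr.bm).comp (Spin fr).subtype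

/-- the linear map -/
noncomputable def ap (g : Spin fr) : V ≃ₗ[F] V := (toO fr g : V ≃ₗ[F] V)

theorem ap_mul (g g' : Spin fr) (z : V) : ap fr (g * g') z = ap fr g (ap fr g' z) := by
  rw [ap, map_mul]; rfl

theorem ap_one (z : V) : ap fr 1 z = z := by rw [ap, map_one]; rfl

theorem ap_def (g : Spin fr) (z : V) : ap fr g z = actv (g : Nrm Q) z := rfl

theorem ap_rt (q : Root S m) (t : F) (z : V) :
    ap fr (rt fr q t) z = z + t • (polar Q (fr.e q.1.2) z • fr.e (Sum.inr q.1.1) -
      polar Q (fr.e (Sum.inr q.1.1)) z • fr.e q.1.2) -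
        (t * t * polar Q (fr.e (Sum.inr q.1.1)) z * Q (fr.e q.1.2)) • fr.e (Sum.inr q.1.1) :=
  actv_X fr.bm (fr.sing q.1.1) (perp_root fr q) t z

theorem conj_val (g : Spin fr) (q : Root S m) (t : F) : val fr (g * rt fr q t * g⁻¹) =
    1 + t • (ι Q (ap fr g (fr.e (Sum.inr q.1.1))) * ι Q (ap fr g (fr.e q.1.2))) :=
  conj_X (g : Nrm Q) (fr.sing q.1.1) (perp_root fr q) t

theorem rt_swap {q q' : Root S m} (h1 : q'.1.2 = Sum.inr q.1.1) (h2 : q.1.2 = Sum.inr q'.1.1) (t : F) :
    rt fr q' t = rt fr q (-t) := by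
  refine ext_val fr ?_
  rw [val_rt, val_rt, h1, h2, ι_mul_ι_comm (fr.e (Sum.inr q'.1.1)), polar_comm, ← h2, perp_root fr q, map_zero,
    zero_sub, smul_neg, neg_smul]

/-! ### monomial elements -/

/-- monomial elements -/
def IsMon (g : Spin fr) (σ : Equiv.Perm (Idx m)) (d : S ⊕ Idx m → F) : Prop :=
  (∀ a, σ a.swap = (σ a).swap) ∧ ∀ j, ap fr g (fr.e j) = d j • fr.e (Sum.map id σ j)

variable {fr}

theorem IsMon.map_swapJ {g : Spin fr} {σ : Equiv.Perm (Idx m)} {d : S ⊕ Idx m → F} (h : IsMon fr g σ d)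
    (j : S ⊕ Idx m) : Sum.map id σ (swapJ j) = swapJ (Sum.map id σ j) := by
  rcases j with s | a
  · rfl
  · simp [swapJ, h.1]

theorem IsMon.d_ne {g : Spin fr} {σ : Equiv.Perm (Idx m)} {d : S ⊕ Idx m → F} (h : IsMon fr g σ d)
    (j : S ⊕ Idx m) : d j ≠ 0 := fun e => by
  have := h.2 j
  rw [e, zero_smul, ← map_zero (ap fr g)] at this
  exact fr.e.ne_zero j ((ap fr g).injective this)

theorem IsMon.d_mul {g : Spin fr} {σ : Equiv.Perm (Idx m)} {d : S ⊕ Idx m → F} (h : IsMon fr g σ d)
    (j : S ⊕ Idx m) : d j * d (swapJ j) = 1 := by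
  have := OQ.map_polar (toO fr g) (fr.e j) (fr.e (swapJ j))
  change polar Q (ap fr g (fr.e j)) (ap fr g (fr.e (swapJ j))) = _ at this
  rw [h.2, h.2, polar_smul_left', polar_smul_right', polar_e, polar_e, if_pos rfl,
    if_pos (h.map_swapJ j), show (nu S m (Sum.map id σ j) : F) = nu S m j by cases j <;> rfl] at this
  exact mul_right_cancel₀ (nu_ne fr j) (by linear_combination this)

theorem IsMon.mul {g g' : Spin fr} {σ σ' : Equiv.Perm (Idx m)} {d d' : S ⊕ Idx m → F}
    (h : IsMon fr g σ d) (h' : IsMon fr g' σ' d') :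
    IsMon fr (g * g') (σ * σ') (fun j => d (Sum.map id σ' j) * d' j) := by
  refine ⟨fun a => by rw [Equiv.Perm.mul_apply, h'.1, h.1]; rfl, fun j => ?_⟩
  rw [ap_mul, h'.2, map_smul, h.2, smul_smul, mul_comm]
  congr 2
  cases j <;> rfl

theorem isMon_one : IsMon fr (1 : Spin fr) 1 (fun _ => 1) :=
  ⟨fun _ => rfl, fun j => by rw [ap_one, one_smul]; cases j <;> rfl⟩

/-- image of a root under a signed permutation -/
def Root.move {S : Type} {m : ℕ} (σ : Equiv.Perm (Idx m)) (h : ∀ a, σ a.swap = (σ a).swap) (q : Root S m) :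
    Root S m :=
  ⟨(σ q.1.1, Sum.map id σ q.1.2), fun e => q.2.1 (Sum.map_injective.2 ⟨fun _ _ h => h, σ.injective⟩ e),
    fun e => q.2.2 (Sum.map_injective.2 ⟨fun _ _ h => h, σ.injective⟩ (e.trans (by rw [← h]; rfl)))⟩

theorem IsMon.conj_rt {g : Spin fr} {σ : Equiv.Perm (Idx m)} {d : S ⊕ Idx m → F} (h : IsMon fr g σ d)
    (q : Root S m) (t : F) :
    g * rt fr q t * g⁻¹ = rt fr (q.move σ h.1) (d (Sum.inr q.1.1) * d q.1.2 * t) := by
  refine ext_val fr ?_
  rw [conj_val, val_rt, h.2, h.2]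
  simp only [map_smul, smul_mul_smul_comm, smul_smul, Root.move, Sum.map_inr]
  ring_nf

theorem IsMon.conj_nt {g : Spin fr} {σ : Equiv.Perm (Idx m)} {d : S ⊕ Idx m → F} (h : IsMon fr g σ d)
    (q : Root S m) (t : F) :
    g * nt fr q t * g⁻¹ = nt fr (q.move σ h.1) (t / (d (Sum.inr q.1.1) * d q.1.2)) := by
  rw [nt, h.conj_rt, nt]
  have e : q.neg.move σ h.1 = (q.move σ h.1).neg :=
    Subtype.ext (Prod.ext (h.1 _) (h.map_swapJ _))
  rw [e]
  congr 1
  have h1 : d (Sum.inr q.1.1) * d q.neg.1.2 * (d q.1.2 * d (Sum.inr q.neg.1.1)) = 1 := by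
    have a := h.d_mul (Sum.inr q.1.1)
    have b := h.d_mul q.1.2
    calc _ = (d (Sum.inr q.1.1) * d (swapJ (Sum.inr q.1.1))) * (d q.1.2 * d (swapJ q.1.2)) := by
            show d _ * d (swapJ q.1.2) * (d _ * d (Sum.inr q.1.1.swap)) = _
            simp only [swapJ, Sum.map_inr]; ring
      _ = 1 := by rw [a, b, one_mul]
  have := h.d_ne (Sum.inr q.1.1)
  have := h.d_ne q.1.2
  field_simp
  linear_combination (-t) * h1

variable (fr)

/-- reflection of a root on indices -/
def rSwap (q : Root S m) : Equiv.Perm (Idx m) :=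
  match q.1.2 with
  | .inl _ => Equiv.swap q.1.1 q.1.1.swap
  | .inr b => Equiv.swap q.1.1 b.swap * Equiv.swap b q.1.1.swap

/-- coefficients of a reflection -/
def rD (q : Root S m) (c : F) : S ⊕ Idx m → F :=
  match q.1.2 with
  | .inl _ => Sum.elim (fun _ => -1) fun x => if x = q.1.1 then -(c ^ 2)⁻¹ else if x = q.1.1.swap then -c ^ 2 else 1
  | .inr b => Sum.elim (fun _ => 1) fun x => if x = q.1.1 then -c⁻¹ else if x = b then c⁻¹
      else if x = b.swap then c else if x = q.1.1.swap then -c else 1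

theorem weyl_short {a : Idx m} {s : S} (q : Root S m) (hq : q.1 = (a, Sum.inl s)) {c : F} (hc : c ≠ 0)
    (j : S ⊕ Idx m) : ap fr (rt fr q c * nt fr q (-c⁻¹) * rt fr q c) (fr.e j) =
      rD q c j • fr.e (Sum.map id (rSwap q) j) := by
  have hσ : rSwap q = Equiv.swap a a.swap := by simp [rSwap, hq]
  have hd : rD q c = Sum.elim (fun _ => -1) (fun x => if x = a then -(c ^ 2)⁻¹ else if x = a.swap then -c ^ 2 else 1) := by
    unfold rD; rw [hq]
  rw [hσ, hd, nt, neg_neg, ap_mul, ap_mul, ap_rt, ap_rt, ap_rt]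
  simp only [hq, Root.neg, swapJ, Sum.map_inl, id_eq, fr.qs, mul_one, polar_add_right', polar_smul_right',
    QuadraticMap.polar_sub_right, polar_e, Sum.map_inr]
  have hne := idx_swap_ne a
  rcases j with s' | x
  · obtain rfl := fr.sub s s'
    simp [nu, Ne.symm hne]
    match_scalars <;> field_simp <;> ring
  · rcases eq_or_ne x a with rfl | hxa
    · simp [nu, hne, hne.symm]
      match_scalars <;> field_simp <;> ring
    rcases eq_or_ne x a.swap with rfl | hxa'
    · simp [nu, hne, hne.symm]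
      match_scalars <;> field_simp <;> ring
    simp [nu, hne, hne.symm, hxa, hxa.symm, hxa', hxa'.symm, Equiv.swap_apply_of_ne_of_ne hxa hxa']

theorem weyl_long {a b : Idx m} (q : Root S m) (hq : q.1 = (a, Sum.inr b)) {c : F} (hc : c ≠ 0)
    (j : S ⊕ Idx m) : ap fr (rt fr q c * nt fr q (-c⁻¹) * rt fr q c) (fr.e j) =
      rD q c j • fr.e (Sum.map id (rSwap q) j) := by
  have hσ : rSwap q = Equiv.swap a b.swap * Equiv.swap b a.swap := by simp [rSwap, hq]
  have hd : rD q c = Sum.elim (fun _ => 1) (fun x => if x = a then -c⁻¹ else if x = b then c⁻¹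
      else if x = b.swap then c else if x = a.swap then -c else 1) := by
    unfold rD; rw [hq]
  have hab : b ≠ a := fun e => q.2.1 (by rw [hq, e])
  have hab' : b ≠ a.swap := fun e => q.2.2 (by rw [hq, e])
  have ha'b : b.swap ≠ a := fun e => hab' (by rw [← e, Sum.swap_swap])
  have h1 : b.swap ≠ a.swap := fun e => hab (by rw [← Sum.swap_swap b, e, Sum.swap_swap])
  have hna := idx_swap_ne a
  have hnb := idx_swap_ne b
  rw [hσ, hd, nt, neg_neg, ap_mul, ap_mul, ap_rt, ap_rt, ap_rt]
  simp only [hq, Root.neg, swapJ, Sum.map_inr, fr.sing, mul_zero, zero_smul, sub_zero, polar_add_right',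
    polar_smul_right', QuadraticMap.polar_sub_right, polar_e]
  rcases j with s | x
  · simp [nu]
  rcases eq_or_ne x a with rfl | x1
  · simp [nu, hab, hab.symm, hab', hab'.symm, ha'b, ha'b.symm, h1, h1.symm, hna, hna.symm, hnb, hnb.symm,
      Equiv.swap_apply_def]
    match_scalars <;> field_simp <;> ring
  rcases eq_or_ne x b with rfl | x2
  · simp [nu, hab, hab.symm, hab', hab'.symm, ha'b, ha'b.symm, h1, h1.symm, hna, hna.symm, hnb, hnb.symm,
      Equiv.swap_apply_def]
    match_scalars <;> field_simp <;> ring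
  rcases eq_or_ne x b.swap with rfl | x3
  · simp [nu, hab, hab.symm, hab', hab'.symm, ha'b, ha'b.symm, h1, h1.symm, hna, hna.symm, hnb, hnb.symm,
      Equiv.swap_apply_def]
    match_scalars <;> field_simp <;> ring
  rcases eq_or_ne x a.swap with rfl | x4
  · simp [nu, hab, hab.symm, hab', hab'.symm, ha'b, ha'b.symm, h1, h1.symm, hna, hna.symm, hnb, hnb.symm,
      Equiv.swap_apply_def]
    match_scalars <;> field_simp <;> ring
  simp [nu, x1, x2, x3, x4, Equiv.swap_apply_of_ne_of_ne x2 x4, Equiv.swap_apply_of_ne_of_ne x1 x3]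

theorem rSwap_swap (q : Root S m) (x : Idx m) : rSwap q x.swap = (rSwap q x).swap := by
  obtain ⟨⟨a, j⟩, h1, h2⟩ := q
  rcases j with s | b
  · simp only [rSwap, Equiv.swap_apply_def]
    split_ifs <;> grind [Sum.swap_swap, idx_swap_ne]
  · have hab : b ≠ a := fun e => h1 (by rw [e])
    have hab' : b ≠ a.swap := fun e => h2 (by rw [e])
    simp only [rSwap, Equiv.Perm.mul_apply, Equiv.swap_apply_def]
    split_ifs <;> grind [Sum.swap_swap, idx_swap_ne]

/-- rank one Weyl elements are monomial -/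
theorem isMon_weyl (q : Root S m) {c : F} (hc : c ≠ 0) :
    IsMon fr (rt fr q c * nt fr q (-c⁻¹) * rt fr q c) (rSwap q) (rD q c) := by
  refine ⟨rSwap_swap q, fun j => ?_⟩
  rcases hq : q.1.2 with s | b
  · exact weyl_short fr q (Prod.ext rfl hq) hc j
  · exact weyl_long fr q (Prod.ext rfl hq) hc j

theorem rSwap_invol (q : Root S m) (x : Idx m) : rSwap q (rSwap q x) = x := by
  obtain ⟨⟨a, j⟩, h1, h2⟩ := q
  rcases j with s | b
  · simp [rSwap]
  · have hab : b ≠ a := fun e => h1 (by rw [e])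
    have hab' : b ≠ a.swap := fun e => h2 (by rw [e])
    simp only [rSwap, Equiv.Perm.mul_apply, Equiv.swap_apply_def]
    split_ifs <;> grind [Sum.swap_swap, idx_swap_ne]

/-- coroot coefficients -/
def hD (q : Root S m) (c : F) : S ⊕ Idx m → F :=
  match q.1.2 with
  | .inl _ => Sum.elim (fun _ => 1) fun x => if x = q.1.1 then c ^ 2 else if x = q.1.1.swap then (c ^ 2)⁻¹ else 1
  | .inr b => Sum.elim (fun _ => 1) fun x => if x = q.1.1 ∨ x = b then c else
      if x = q.1.1.swap ∨ x = b.swap then c⁻¹ else 1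

/-- coroot elements -/
def cor (q : Root S m) (c : F) : Spin fr :=
  rt fr q c * nt fr q (-c⁻¹) * rt fr q c * (rt fr q (-1) * nt fr q 1 * rt fr q (-1))

theorem isMon_cor (q : Root S m) {c : F} (hc : c ≠ 0) : IsMon fr (cor fr q c) 1 (hD q c) := by
  have h := (isMon_weyl fr q hc).mul (isMon_weyl fr q (neg_ne_zero.2 (one_ne_zero (α := F))))
  rw [inv_neg, inv_one, neg_neg, show rSwap q * rSwap q = 1 from Equiv.ext (rSwap_invol q)] at h
  show IsMon fr (rt fr q c * nt fr q (-c⁻¹) * rt fr q c * (rt fr q (-1) * nt fr q 1 * rt fr q (-1))) 1 (hD q c)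
  convert h using 1
  funext j
  obtain ⟨⟨a, k⟩, h1, h2⟩ := q
  have hna := idx_swap_ne a
  rcases k with s | b
  · rcases j with s' | x
    · simp [hD, rD]
    · rcases eq_or_ne x a with rfl | x1
      · simp [hD, rD, rSwap, hna, hna.symm]
      rcases eq_or_ne x a.swap with rfl | x2
      · simp [hD, rD, rSwap, hna, hna.symm]
      simp [hD, rD, rSwap, x1, x2, Equiv.swap_apply_of_ne_of_ne x1 x2]
  · have hab : b ≠ a := fun e => h1 (by rw [e])
    have hab' : b ≠ a.swap := fun e => h2 (by rw [e])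
    have hnb := idx_swap_ne b
    have hb'a : b.swap ≠ a := fun e => hab' (by rw [← e, Sum.swap_swap])
    have hb'a' : b.swap ≠ a.swap := fun e => hab (by rw [← Sum.swap_swap b, e, Sum.swap_swap])
    rcases j with s' | x
    · simp [hD, rD]
    · rcases eq_or_ne x a with rfl | x1
      · simp [hD, rD, rSwap, Equiv.swap_apply_def, hna, hna.symm, hnb, hnb.symm, hab, hab.symm, hab', hab'.symm,
          hb'a, hb'a.symm, hb'a', hb'a'.symm]
      rcases eq_or_ne x b with rfl | x2
      · simp [hD, rD, rSwap, Equiv.swap_apply_def, hna, hna.symm, hnb, hnb.symm, hab, hab.symm, hab', hab'.symm,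
          hb'a, hb'a.symm, hb'a', hb'a'.symm]
      rcases eq_or_ne x b.swap with rfl | x3
      · simp [hD, rD, rSwap, Equiv.swap_apply_def, hna, hna.symm, hnb, hnb.symm, hab, hab.symm, hab', hab'.symm,
          hb'a, hb'a.symm, hb'a', hb'a'.symm]
      rcases eq_or_ne x a.swap with rfl | x4
      · simp [hD, rD, rSwap, Equiv.swap_apply_def, hna, hna.symm, hnb, hnb.symm, hab, hab.symm, hab', hab'.symm,
          hb'a, hb'a.symm, hb'a', hb'a'.symm]
      simp [hD, rD, rSwap, Equiv.swap_apply_of_ne_of_ne x2 x4, Equiv.swap_apply_of_ne_of_ne x1 x3, x1, x2, x3, x4]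

end

end CfsgLib.Known.SpinMult
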