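import Cfsg.Agent.Lib.Known.SpinMult.Struct

/-!
# Graded families of lifts of positive root elements
-/

set_option autoImplicit false
set_option linter.unusedSectionVars false

namespace CfsgLib.Known.SpinMult

noncomputable section

open CliffordAlgebra QuadraticMap CfsgLib.Classical.Quad
open scoped commutatorElement

variable {F : Type*} [Field F] {V : Type*} [AddCommGroup V] [Module F V] {Q : QuadraticForm F V} {m : ℕ}
  {S : Type} [Fintype S] [DecidableEq S] (fr : Frame Q m S) {Γ : Type*} [Group Γ] (π : Γ →* Spin fr)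
  (f : Root S m → F → Γ)

/-- lifts generated at degree at least `n` -/
def MM (f : Root S m → F → Γ) (n : ℤ) : Subgroup Γ :=
  Subgroup.closure {g | ∃ q t, Pos q ∧ n ≤ deg q ∧ g = f q t}

/-- a compatible family of lifts of root elements -/
structure LiftFam : Prop where
  lift : ∀ q t, Pos q → π (f q t) = rt fr q t
  add : ∀ q t u, Pos q → f q t * f q u = f q (t + u)
  flip : ∀ q b h t, Pos q → f (Root.flipPair q b h) t = f q (-t)
  comm : ∀ q r, Pos q → Pos r → ∀ t u, ⁅f q t, f r u⁆ ∈ MM f (max (deg q) (deg r) + 1)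

variable {fr π f} (L : LiftFam fr π f)
include L

/-- lifts of canonical roots in `T` and of all roots of higher degree -/
def KT (L : LiftFam fr π f) (n : ℕ) (T : Finset (Root S m)) : Subgroup Γ :=
  Subgroup.closure {g | ∃ q t, Pos q ∧ (((n : ℤ) + 1 ≤ deg q) ∨ (q ∈ T ∧ deg q = n)) ∧ g = f q t}

omit L in
theorem MM_anti {n n' : ℤ} (h : n ≤ n') : MM f n' ≤ MM f n :=
  Subgroup.closure_mono (by rintro _ ⟨q, t, h1, h2, rfl⟩; exact ⟨q, t, h1, h.trans h2, rfl⟩)

theorem MM_le_KT (n : ℕ) (T : Finset (Root S m)) : MM f ((n : ℤ) + 1) ≤ KT L n T :=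
  Subgroup.closure_mono (by rintro _ ⟨q, t, h1, h2, rfl⟩; exact ⟨q, t, h1, Or.inl h2, rfl⟩)

theorem f_zero {q : Root S m} (hq : Pos q) : f q 0 = 1 := by
  have := L.add q 0 0 hq
  rw [add_zero] at this
  exact mul_eq_left.1 this

theorem f_neg {q : Root S m} (hq : Pos q) (t : F) : f q (-t) = (f q t)⁻¹ := by
  rw [eq_inv_iff_mul_eq_one, L.add q _ _ hq, neg_add_cancel, f_zero L hq]

theorem KT_conj (n : ℕ) (T : Finset (Root S m)) {q : Root S m} (hq : Pos q) (hn : (n : ℤ) ≤ deg q) (t : F)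
    {x : Γ} (hx : x ∈ KT L n T) : f q t * x * (f q t)⁻¹ ∈ KT L n T := by
  have : KT L n T ≤ (KT L n T).comap (MulAut.conj (f q t)).toMonoidHom := by
    refine (Subgroup.closure_le _).2 ?_
    rintro _ ⟨r, u, hr, hrT, rfl⟩
    show f q t * f r u * (f q t)⁻¹ ∈ KT L n T
    rw [show f q t * f r u * (f q t)⁻¹ = ⁅f q t, f r u⁆ * f r u by rw [commutatorElement_def]; group]
    refine mul_mem (MM_le_KT L n T (MM_anti ?_ (L.comm q r hq hr t u))) (Subgroup.subset_closure ⟨r, u, hr, hrT, rfl⟩)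
    omega
  exact this hx

/-- the root subgroup of a lift -/
def rootSub (L : LiftFam fr π f) {q : Root S m} (hq : Pos q) : Subgroup Γ :=
  RootLift.Sys.rootGp (f q) fun t u => L.add q t u hq

theorem KT_insert (n : ℕ) (T : Finset (Root S m)) {q : Root S m} (hq : Pos q) (hn : deg q = n) :
    KT L n (insert q T) = rootSub L hq ⊔ KT L n T := by
  refine le_antisymm ((Subgroup.closure_le _).2 ?_) (sup_le ?_ ?_)
  · rintro _ ⟨r, u, hr, h, rfl⟩
    rcases h with h | ⟨h, h'⟩
    · exact Subgroup.mem_sup_right (Subgroup.subset_closure ⟨r, u, hr, Or.inl h, rfl⟩)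
    · rcases Finset.mem_insert.1 h with rfl | h
      · exact Subgroup.mem_sup_left ⟨u, rfl⟩
      · exact Subgroup.mem_sup_right (Subgroup.subset_closure ⟨r, u, hr, Or.inr ⟨h, h'⟩, rfl⟩)
  · rintro _ ⟨u, rfl⟩
    exact Subgroup.subset_closure ⟨q, u, hq, Or.inr ⟨Finset.mem_insert_self _ _, hn⟩, rfl⟩
  · exact Subgroup.closure_mono (by
      rintro _ ⟨r, u, hr, h, rfl⟩
      exact ⟨r, u, hr, h.imp id fun h => ⟨Finset.mem_insert_of_mem h.1, h.2⟩, rfl⟩)

theorem rootSub_le_normalizer (n : ℕ) (T : Finset (Root S m)) {q : Root S m} (hq : Pos q) (hn : deg q = n) :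
    rootSub L hq ≤ Subgroup.normalizer (KT L n T : Set Γ) := by
  rintro _ ⟨u, rfl⟩
  rw [Subgroup.mem_normalizer_iff]
  intro x
  refine ⟨fun h => KT_conj L n T hq hn.ge u h, fun h => ?_⟩
  have := KT_conj L n T hq hn.ge (-u) h
  rw [f_neg L hq] at this
  simpa [mul_assoc] using this

theorem KT_decomp (n : ℕ) (T : Finset (Root S m)) {q : Root S m} (hq : Pos q) (hn : deg q = n) {x : Γ}
    (hx : x ∈ KT L n (insert q T)) : ∃ t, ∃ k ∈ KT L n T, x = f q t * k := by
  rw [KT_insert L n T hq hn] at hx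
  have := Subgroup.coe_mul_of_left_le_normalizer_right _ _ (rootSub_le_normalizer L n T hq hn)
  rw [← SetLike.mem_coe, this] at hx
  obtain ⟨_, ⟨t, rfl⟩, k, hk, e⟩ := hx
  exact ⟨t, k, hk, e.symm⟩

theorem π_KT (n : ℕ) (T : Finset (Root S m)) {x : Γ} (hx : x ∈ KT L n T) : π x ∈ Lvl fr n := by
  have : KT L n T ≤ (Lvl fr n).comap π := (Subgroup.closure_le _).2 (by
    rintro _ ⟨r, u, hr, h, rfl⟩
    show π (f r u) ∈ Lvl fr n
    rw [L.lift r u hr]
    exact rt_mem_Lvl fr r hr u (by rcases h with h | ⟨-, h⟩ <;> omega))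
  exact this hx

theorem co_KT (n : ℕ) (T : Finset (Root S m)) (hT : ∀ r ∈ T, Can r) {q : Root S m} (hq : Pos q) (hc : Can q)
    (hn : deg q = n) (hqT : q ∉ T) {x : Γ} (hx : x ∈ KT L n T) : co fr q (π x) = 0 := by
  induction hx using Subgroup.closure_induction with
  | one => rw [map_one, co_one]
  | mem a ha =>
    obtain ⟨r, u, hr, h, rfl⟩ := ha
    rw [L.lift r u hr]
    rcases h with h | ⟨h, h'⟩
    · exact co_above fr q (n := n + 1) (by push_cast; omega) (rt_mem_Lvl fr r hr u (by push_cast; omega))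
    · rw [co_rt fr hc (hT r h), if_neg (fun e : q = r => hqT (e ▸ h))]
  | mul a b ha' hb' ha hb =>
    rw [map_mul, co_mul fr q hn.symm hq (π_KT L n T ha') (π_KT L n T hb'), ha, hb, add_zero]
  | inv a ha' ha =>
    have e := co_mul fr q hn.symm hq (π_KT L n T ha') (π_KT L n T (inv_mem ha'))
    rw [← map_mul, mul_inv_cancel, map_one, co_one, ha, zero_add] at e
    exact e.symm

omit L in
theorem deg_le (fr : Frame Q m S) (q : Root S m) : deg q ≤ 2 * ((m : ℤ) + 1) := by
  have hc := card_S_le fr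
  obtain ⟨⟨x, y⟩, -, -⟩ := q
  rcases x with i | i <;> rcases y with s | (j | j) <;> simp [deg, hgtJ, hgt] <;> have := i.2 <;>
    (try have := j.2) <;> omega

omit L in
/-- canonical positive roots of a given degree -/
def layer (S : Type) [Fintype S] [DecidableEq S] (m : ℕ) (n : ℤ) : Finset (Root S m) := by
  classical exact Finset.univ.filter fun q => Can q ∧ deg q = n

theorem MM_le_layer (n : ℕ) (hn : 1 ≤ n) : MM f (n : ℤ) ≤ KT L n (layer S m n) := by
  classical
  refine (Subgroup.closure_le _).2 ?_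
  rintro _ ⟨q, t, hq, h, rfl⟩
  by_cases h' : (n : ℤ) + 1 ≤ deg q
  · exact Subgroup.subset_closure ⟨q, t, hq, Or.inl h', rfl⟩
  rcases exists_can q with hc | ⟨b, hb, hc⟩
  · exact Subgroup.subset_closure ⟨q, t, hq, Or.inr ⟨by simp [layer, hc]; omega, by omega⟩, rfl⟩
  · refine Subgroup.subset_closure ⟨q.flipPair b hb, -t, ?_, Or.inr ⟨?_, ?_⟩, ?_⟩
    · unfold Pos; rw [deg_flipPair]; exact hq
    · simp [layer, hc, deg_flipPair]; omega
    · rw [deg_flipPair]; omega
    · rw [L.flip q b hb _ hq, neg_neg]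

/-- induction over the layers -/
theorem MM_induction (P : Subgroup Γ → Prop) (hbot : P ⊥)
    (hstep : ∀ (n : ℕ) (T : Finset (Root S m)) (q : Root S m) (hq : Pos q), Can q → deg q = n → q ∉ T →
      (∀ r ∈ T, Can r) → P (KT L n T) → P (rootSub L hq ⊔ KT L n T)) : P (MM f 1) := by
  classical
  suffices h : ∀ d n : ℕ, 1 ≤ n → 2 * (m + 1) + 1 ≤ n + d → P (MM f (n : ℤ)) by
    exact h (2 * (m + 1)) 1 le_rfl (by omega)
  intro d
  induction d with
  | zero =>
    intro n _ hd
    have : MM f (n : ℤ) = ⊥ := by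
      rw [MM, Subgroup.closure_eq_bot_iff]
      rintro _ ⟨q, t, -, h, rfl⟩
      have := deg_le fr q
      exfalso; omega
    rw [this]; exact hbot
  | succ d ih =>
    intro n hn hd
    have e : MM f (n : ℤ) = KT L n (layer S m n) := by
      refine le_antisymm (MM_le_layer L n hn) (Subgroup.closure_mono ?_)
      rintro _ ⟨q, t, h1, h2, rfl⟩
      exact ⟨q, t, h1, by rcases h2 with h2 | ⟨-, h2⟩ <;> omega, rfl⟩
    rw [e]
    suffices ∀ T : Finset (Root S m), (∀ r ∈ T, Can r ∧ deg r = n) → P (KT L n T) from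
      this _ fun r hr => by simpa [layer] using hr
    intro T
    induction T using Finset.induction with
    | empty =>
      intro _
      have : KT L n ∅ = MM f ((n + 1 : ℕ) : ℤ) := by
        refine le_antisymm (Subgroup.closure_mono ?_) ?_
        · rintro _ ⟨q, t, h1, h2, rfl⟩
          exact ⟨q, t, h1, by rcases h2 with h2 | ⟨h2, -⟩; (push_cast; omega); simp at h2, rfl⟩
        · push_cast; exact MM_le_KT L n ∅
      rw [this]
      exact ih (n + 1) (by omega) (by omega)
    | @insert q T hqT ihT =>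
      intro hT
      obtain ⟨hc, hd'⟩ := hT q (Finset.mem_insert_self _ _)
      have hq : Pos q := by unfold Pos; omega
      rw [KT_insert L n T hq hd']
      exact hstep n T q hq hc hd' hqT (fun r hr => (hT r (Finset.mem_insert_of_mem hr)).1)
        (ihT fun r hr => hT r (Finset.mem_insert_of_mem hr))

/-- the projection is injective on the lifts -/
theorem inj_MM {x : Γ} (hx : x ∈ MM f 1) (h : π x = 1) : x = 1 := by
  revert x
  refine MM_induction L (fun H => ∀ {x}, x ∈ H → π x = 1 → x = 1) (fun hx _ => Subgroup.mem_bot.1 hx) ?_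
  intro n T q hq hc hn hqT hT ih x hx h1
  rw [← KT_insert L n T hq hn] at hx
  obtain ⟨t, k, hk, rfl⟩ := KT_decomp L n T hq hn hx
  have e : co fr q (π (f q t * k)) = t := by
    rw [map_mul, L.lift q t hq, co_mul fr q hn.symm hq (rt_mem_Lvl fr q hq t hn.ge) (π_KT L n T hk),
      co_rt fr hc hc, if_pos rfl, co_KT L n T hT hq hc hn hqT hk, add_zero]
  rw [h1, co_one] at e
  subst e
  rw [f_zero L hq, one_mul] at h1 ⊢
  exact ih hk h1

/-- the lifts form a `p`-group -/
theorem isPGroup_MM {p : ℕ} [Fact p.Prime] [CharP F p] : IsPGroup p (MM f 1) := by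
  refine MM_induction L (fun H => IsPGroup p H) IsPGroup.of_bot ?_
  intro n T q hq _ hn _ _ ih
  exact (RootLift.Sys.rootGp_isPGroup fun t u => L.add q t u hq).to_sup_of_normal_right' ih
    (rootSub_le_normalizer L n T hq hn)

end

end CfsgLib.Known.SpinMult
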