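import Cfsg.Agent.Lib.Known.SpinMult.Frame

/-!
# Heights of roots and the filtration of triangular elements
-/

set_option autoImplicit false
set_option linter.unusedSectionVars false

namespace CfsgLib.Known.SpinMult

noncomputable section

open CliffordAlgebra QuadraticMap CfsgLib.Classical.Quad

section Comb

variable {m : ℕ} {S : Type} [Fintype S]

/-- height of an index -/
def hgt (S : Type) [Fintype S] {m : ℕ} : Idx m → ℤ :=
  Sum.elim (fun i => (m : ℤ) - 1 - i.1 + Fintype.card S) (fun i => -((m : ℤ) - 1 - i.1 + Fintype.card S))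

/-- height of a basis index -/
def hgtJ : S ⊕ Idx m → ℤ := Sum.elim (fun _ => 0) (hgt S)

/-- degree of a root -/
def deg (q : Root S m) : ℤ := hgt S q.1.1 + hgtJ q.1.2

theorem hgt_swap (a : Idx m) : hgt S a.swap = -hgt S a := by cases a <;> simp [hgt]

theorem hgtJ_swap (j : S ⊕ Idx m) : hgtJ (swapJ j) = -hgtJ j := by
  rcases j with s | a
  · simp [hgtJ, swapJ]
  · simp [hgtJ, swapJ, hgt_swap]

theorem hgt_eq {a b : Idx m} (h : hgt S a = hgt S b) : a = b ∨ (hgt S a = 0 ∧ b = a.swap) := by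
  rcases a with i | i <;> rcases b with j | j <;> simp only [hgt, Sum.elim_inl, Sum.elim_inr] at h <;>
    have := i.2 <;> have := j.2
  · exact Or.inl (congrArg Sum.inl (Fin.ext (by omega)))
  · refine Or.inr ⟨?_, ?_⟩
    · simp only [hgt, Sum.elim_inl]; omega
    · simp only [Sum.swap_inl, Sum.inr.injEq]; exact Fin.ext (by omega)
  · refine Or.inr ⟨?_, ?_⟩
    · simp only [hgt, Sum.elim_inr]; omega
    · simp only [Sum.swap_inr, Sum.inl.injEq]; exact Fin.ext (by omega)
  · exact Or.inl (congrArg Sum.inr (Fin.ext (by omega)))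

theorem hgt_ne_of_short (s : S) (a : Idx m) : hgt S a ≠ 0 := by
  have : 0 < Fintype.card S := Fintype.card_pos_iff.2 ⟨s⟩
  rcases a with i | i <;> simp only [hgt, Sum.elim_inl, Sum.elim_inr] <;> have := i.2 <;> omega

theorem deg_neg (q : Root S m) : deg q.neg = -deg q := by
  simp only [deg, Root.neg, hgt_swap, hgtJ_swap]; ring

theorem deg_ne (q : Root S m) : deg q ≠ 0 := by
  obtain ⟨⟨a, j⟩, h1, h2⟩ := q
  rcases j with s | b
  · simpa [deg, hgtJ] using hgt_ne_of_short s a
  · intro h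
    simp only [deg, hgtJ, Sum.elim_inr] at h
    rcases hgt_eq (a := a) (b := b.swap) (S := S) (by rw [hgt_swap]; omega) with e | ⟨-, e⟩
    · exact h2 (by rw [e, Sum.swap_swap])
    · exact h1 (by rw [← Sum.swap_swap b, e, Sum.swap_swap])

/-- positive roots -/
def Pos (q : Root S m) : Prop := 0 < deg q

/-- one representative for each unordered pair -/
def Can (q : Root S m) : Prop :=
  match q.1.2 with
  | .inl _ => True
  | .inr b => Fintype.equivFin (Idx m) q.1.1 < Fintype.equivFin (Idx m) b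

/-- the pair in the other order -/
def Root.flipPair (q : Root S m) (b : Idx m) (h : q.1.2 = Sum.inr b) : Root S m :=
  ⟨(b, Sum.inr q.1.1), fun e => q.2.1 (by rw [h]; exact congrArg Sum.inr (Sum.inr_injective e).symm),
    fun e => q.2.2 (by rw [h, Sum.inr_injective e, Sum.swap_swap])⟩

theorem exists_can (q : Root S m) : Can q ∨ ∃ b, ∃ h : q.1.2 = Sum.inr b, Can (q.flipPair b h) := by
  rcases (show (∃ s, q.1.2 = Sum.inl s) ∨ ∃ b, q.1.2 = Sum.inr b by cases q.1.2 <;> simp) with ⟨s, h⟩ | ⟨b, h⟩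
  · exact Or.inl (by unfold Can; rw [h]; trivial)
  rcases lt_trichotomy (Fintype.equivFin (Idx m) q.1.1) (Fintype.equivFin (Idx m) b) with h1 | h1 | h1
  · exact Or.inl (by unfold Can; rw [h]; exact h1)
  · exact absurd (by rw [h, (Fintype.equivFin (Idx m)).injective h1]) q.2.1
  · exact Or.inr ⟨b, h, h1⟩

theorem deg_flipPair (q : Root S m) (b : Idx m) (h : q.1.2 = Sum.inr b) : deg (q.flipPair b h) = deg q := by
  simp only [deg, Root.flipPair, h, hgtJ, Sum.elim_inr]; ring

end Comb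

variable {F : Type*} [Field F] {V : Type*} [AddCommGroup V] [Module F V] {Q : QuadraticForm F V} {m : ℕ}
  {S : Type} [Fintype S] [DecidableEq S] (fr : Frame Q m S)

theorem rt_flipPair (q : Root S m) (b : Idx m) (h : q.1.2 = Sum.inr b) (t : F) :
    rt fr (q.flipPair b h) t = rt fr q (-t) := rt_swap fr rfl h t

/-- vectors supported at height at least `M` -/
def Above (M : ℤ) (z : V) : Prop := ∀ k, hgtJ k < M → fr.e.repr z k = 0

theorem Above.apply {n M : ℤ} {g : Spin fr} (hg : ∀ j, Above fr (hgtJ j + n) (ap fr g (fr.e j) - fr.e j)) {z : V}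
    (hz : Above fr M z) : Above fr (M + n) (ap fr g z - z) := by
  intro k hk
  have e : ap fr g z - z = ∑ j, fr.e.repr z j • (ap fr g (fr.e j) - fr.e j) := by
    simp only [smul_sub, Finset.sum_sub_distrib, ← map_smul, ← map_sum, fr.e.sum_repr]
  rw [e, map_sum, Finsupp.finsetSum_apply]
  refine Finset.sum_eq_zero fun j _ => ?_
  rw [map_smul, Finsupp.smul_apply, smul_eq_mul]
  by_cases h : hgtJ j < M
  · rw [hz j h, zero_mul]
  · rw [hg j k (by omega), mul_zero]

theorem Above.mono {M M' : ℤ} {z : V} (h : M' ≤ M) (hz : Above fr M z) : Above fr M' z :=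
  fun k hk => hz k (lt_of_lt_of_le hk h)

/-- elements raising heights by at least `n` -/
def Lvl (n : ℕ) : Subgroup (Spin fr) where
  carrier := {g | (∀ j, Above fr (hgtJ j + n) (ap fr g (fr.e j) - fr.e j)) ∧
    ∀ j, Above fr (hgtJ j + n) (ap fr g⁻¹ (fr.e j) - fr.e j)}
  one_mem' := by simp [Above, ap_one]
  mul_mem' := by
    have key : ∀ a b : Spin fr, (∀ j, Above fr (hgtJ j + n) (ap fr a (fr.e j) - fr.e j)) →
        (∀ j, Above fr (hgtJ j + n) (ap fr b (fr.e j) - fr.e j)) →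
        ∀ j, Above fr (hgtJ j + n) (ap fr (a * b) (fr.e j) - fr.e j) := by
      intro a b ha hb j k hk
      have e : ap fr (a * b) (fr.e j) - fr.e j = (ap fr a (ap fr b (fr.e j) - fr.e j) - (ap fr b (fr.e j) - fr.e j)) +
          (ap fr b (fr.e j) - fr.e j) + (ap fr a (fr.e j) - fr.e j) := by
        rw [ap_mul, map_sub]; abel
      rw [e, map_add, map_add, Finsupp.add_apply, Finsupp.add_apply, ha j k hk, hb j k hk,
        Above.apply fr ha (hb j) k (by omega)]
      simp
    rintro a b ⟨ha, ha'⟩ ⟨hb, hb'⟩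
    exact ⟨key a b ha hb, by rw [mul_inv_rev]; exact key _ _ hb' ha'⟩
  inv_mem' := by rintro a ⟨ha, ha'⟩; exact ⟨ha', by rwa [inv_inv]⟩

theorem Lvl_anti {n n' : ℕ} (h : n ≤ n') : Lvl fr n' ≤ Lvl fr n := fun _ hg =>
  ⟨fun j => Above.mono fr (by omega) (hg.1 j), fun j => Above.mono fr (by omega) (hg.2 j)⟩

theorem rt_above (q : Root S m) (hq : Pos q) (t : F) (j : S ⊕ Idx m) :
    Above fr (hgtJ j + deg q) (ap fr (rt fr q t) (fr.e j) - fr.e j) := by
  intro k hk
  unfold Pos at hq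
  simp only [deg] at hk hq
  have hva : hgtJ (Sum.inr q.1.1 : S ⊕ Idx m) = hgt S q.1.1 := rfl
  have hsv := hgtJ_swap (q.1.2)
  have hsa := hgtJ_swap (Sum.inr q.1.1 : S ⊕ Idx m)
  rw [ap_rt, polar_e, polar_e, map_sub, map_sub, map_add, map_smul, map_smul, map_sub, map_smul, map_smul,
    Module.Basis.repr_self, Module.Basis.repr_self, Module.Basis.repr_self]
  simp only [Finsupp.add_apply, Finsupp.sub_apply, Finsupp.smul_apply, smul_eq_mul]
  have t1 : (if j = swapJ q.1.2 then (nu S m q.1.2 : F) else 0) * (Finsupp.single (Sum.inr q.1.1) 1 : S ⊕ Idx m →₀ F) k = 0 := by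
    by_cases h : j = swapJ q.1.2
    · rw [h, hsv] at hk
      rw [Finsupp.single_eq_of_ne (fun e => by rw [e] at hk; omega), mul_zero]
    · rw [if_neg h, zero_mul]
  have t2 : (if j = swapJ (Sum.inr q.1.1) then (nu S m (Sum.inr q.1.1) : F) else 0) *
      (Finsupp.single q.1.2 1 : S ⊕ Idx m →₀ F) k = 0 := by
    by_cases h : j = swapJ (Sum.inr q.1.1)
    · rw [h, hsa, hva] at hk
      rw [Finsupp.single_eq_of_ne (fun e => by rw [e] at hk; omega), mul_zero]
    · rw [if_neg h, zero_mul]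
  have t3 : (t * t * (if j = swapJ (Sum.inr q.1.1) then (nu S m (Sum.inr q.1.1) : F) else 0) * Q (fr.e q.1.2)) *
      (Finsupp.single (Sum.inr q.1.1) 1 : S ⊕ Idx m →₀ F) k = 0 := by
    by_cases h : j = swapJ (Sum.inr q.1.1)
    · rcases hj : q.1.2 with s | b
      · rw [hj] at hk hq
        have hz : hgtJ (Sum.inl s : S ⊕ Idx m) = 0 := rfl
        rw [h, hsa, hva, hz] at hk
        rw [hz] at hq
        rw [Finsupp.single_eq_of_ne (fun e => by rw [e, hva] at hk; omega), mul_zero]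
      · rw [fr.sing, mul_zero, zero_mul]
    · rw [if_neg h, mul_zero, zero_mul, zero_mul]
  rw [t1, t2, t3]
  ring

theorem rt_mem_Lvl (q : Root S m) (hq : Pos q) (t : F) {n : ℕ} (hn : (n : ℤ) ≤ deg q) : rt fr q t ∈ Lvl fr n :=
  ⟨fun j => Above.mono fr (by omega) (rt_above fr q hq t j),
    fun j => by rw [← rt_neg]; exact Above.mono fr (by omega) (rt_above fr q hq (-t) j)⟩

/-- root coordinate -/
def co (q : Root S m) (g : Spin fr) : F :=
  -fr.e.repr (ap fr g (fr.e (Sum.inr q.1.1.swap)) - fr.e (Sum.inr q.1.1.swap)) q.1.2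

theorem co_mul (q : Root S m) {n : ℕ} (hn : (n : ℤ) = deg q) (hq : Pos q) {a b : Spin fr}
    (ha : a ∈ Lvl fr n) (hb : b ∈ Lvl fr n) : co fr q (a * b) = co fr q a + co fr q b := by
  simp only [co, ap_mul]
  have e : ap fr a (ap fr b (fr.e (Sum.inr q.1.1.swap))) - fr.e (Sum.inr q.1.1.swap) =
      (ap fr a (fr.e (Sum.inr q.1.1.swap)) - fr.e (Sum.inr q.1.1.swap)) +
        (ap fr b (fr.e (Sum.inr q.1.1.swap)) - fr.e (Sum.inr q.1.1.swap)) +
      (ap fr a (ap fr b (fr.e (Sum.inr q.1.1.swap)) - fr.e (Sum.inr q.1.1.swap)) -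
        (ap fr b (fr.e (Sum.inr q.1.1.swap)) - fr.e (Sum.inr q.1.1.swap))) := by
    rw [map_sub]; abel
  rw [e, map_add, map_add, Finsupp.add_apply, Finsupp.add_apply,
    Above.apply fr ha.1 (hb.1 (Sum.inr q.1.1.swap)) q.1.2 ?_]
  · ring
  · show hgtJ q.1.2 < hgt S q.1.1.swap + n + n
    rw [hgt_swap, hn]; unfold Pos at hq; unfold deg at hq ⊢; omega

theorem co_above (q : Root S m) {n : ℕ} (hn : deg q < n) {g : Spin fr} (hg : g ∈ Lvl fr n) : co fr q g = 0 := by
  rw [co, hg.1 (Sum.inr q.1.1.swap) q.1.2, neg_zero]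
  show hgtJ q.1.2 < hgt S q.1.1.swap + n
  rw [hgt_swap]; unfold deg at hn; omega

theorem co_one (q : Root S m) : co fr q 1 = 0 := by simp [co, ap_one]

theorem co_rt {q r : Root S m} (hq : Can q) (hr : Can r) (t : F) :
    co fr q (rt fr r t) = if q = r then t else 0 := by
  simp only [co, ap_rt, polar_e, map_add, map_sub, map_smul, Finsupp.add_apply, Finsupp.sub_apply,
    Finsupp.smul_apply, Module.Basis.repr_self, Finsupp.single_apply, smul_eq_mul]
  by_cases h : q = r
  · subst h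
    have h1 : (Sum.inr q.1.1.swap : S ⊕ Idx m) ≠ swapJ q.1.2 := fun e =>
      q.2.1 (by rw [← swapJ_swapJ q.1.2, ← e]; simp [swapJ])
    simp [h1, swapJ, nu, q.2.1, Ne.symm q.2.1]
  · rw [if_neg h]
    obtain ⟨⟨a, j⟩, hq1, hq2⟩ := q
    obtain ⟨⟨c, k⟩, hr1, hr2⟩ := r
    have hne : ¬ (a = c ∧ j = k) := fun e => h (Subtype.ext (Prod.ext e.1 e.2))
    rcases k with s | d
    · simp [swapJ, nu] at *
      split_ifs <;> simp_all <;> grind [Sum.swap_swap, idx_swap_ne]
    · simp [swapJ, nu, fr.sing] at *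
      split_ifs with e1 e2 <;> simp_all [Can, Sum.swap_leftInverse.injective.eq_iff]
      all_goals grind

end

end CfsgLib.Known.SpinMult
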