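import Cfsg.Agent.Lib.Known.SpinMult.Level

/-!
# Commutator formulas for root elements
-/

set_option autoImplicit false
set_option linter.unusedSectionVars false

namespace CfsgLib.Known.SpinMult

noncomputable section

open CliffordAlgebra QuadraticMap CfsgLib.Classical.Quad
open scoped commutatorElement

variable {F : Type*} [Field F] {V : Type*} [AddCommGroup V] [Module F V] {Q : QuadraticForm F V} {m : ℕ}
  {S : Type} [Fintype S] [DecidableEq S] (fr : Frame Q m S)

theorem rt_fix (q : Root S m) (t : F) {j : S ⊕ Idx m} (h1 : j ≠ Sum.inr q.1.1.swap) (h2 : j ≠ swapJ q.1.2) :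
    ap fr (rt fr q t) (fr.e j) = fr.e j := by
  have e1 : j ≠ swapJ (Sum.inr q.1.1) := h1
  simp [ap_rt, polar_e, e1, h2]

theorem commute_rt (q r : Root S m) (a1 : r.1.1 ≠ q.1.1.swap) (a2 : Sum.inr r.1.1 ≠ swapJ q.1.2)
    (b1 : r.1.2 ≠ Sum.inr q.1.1.swap) (b2 : r.1.2 ≠ swapJ q.1.2) (t u : F) :
    Commute (rt fr q t) (rt fr r u) := by
  refine mul_inv_eq_iff_eq_mul.1 (ext_val fr ?_)
  rw [conj_val, rt_fix fr q t (fun e => a1 (Sum.inr_injective e)) a2, rt_fix fr q t b1 b2, val_rt]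

theorem commute_self (q : Root S m) (t u : F) : Commute (rt fr q t) (rt fr q u) := by
  rw [commute_iff_eq, rt_add, rt_add, add_comm]

theorem bracket_of_conj {G : Type*} [Group G] {g h k : G} (e : g * h * g⁻¹ = k * h) : ⁅g, h⁆ = k := by
  rw [commutatorElement_def, e, mul_inv_cancel_right]

/-- two long roots with a common index -/
theorem bracket_long {a w b : Idx m} (q r k : Root S m) (hq : q.1 = (a, Sum.inr w.swap)) (hr : r.1 = (w, Sum.inr b))
    (hk : k.1 = (a, Sum.inr b)) (t s : F) : ⁅rt fr q t, rt fr r s⁆ = rt fr k (t * s) := by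
  refine bracket_of_conj (ext_val fr ?_)
  have q1 : w.swap ≠ a := fun e => q.2.1 (by rw [hq, e])
  have q2 : w.swap ≠ a.swap := fun e => q.2.2 (by rw [hq, e])
  have wa : w ≠ a.swap := fun e => q1 (by rw [e, Sum.swap_swap])
  have r1 : b ≠ w := fun e => r.2.1 (by rw [hr, e])
  have k2 : b ≠ a.swap := fun e => k.2.2 (by rw [hk, e])
  have ew : ap fr (rt fr q t) (fr.e (Sum.inr w)) = fr.e (Sum.inr w) + t • fr.e (Sum.inr a) := by
    simp [ap_rt, hq, polar_e, swapJ, wa, nu, fr.sing]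
  have eb : ap fr (rt fr q t) (fr.e (Sum.inr b)) = fr.e (Sum.inr b) :=
    rt_fix fr q t (by rw [hq]; simpa using k2) (by rw [hq]; simpa [swapJ] using r1)
  rw [conj_val, val_mul, val_rt, val_rt, hr, hk, ew, eb, map_add, map_smul]
  have z : ι Q (fr.e (Sum.inr a)) * ι Q (fr.e (Sum.inr b)) * (ι Q (fr.e (Sum.inr w)) * ι Q (fr.e (Sum.inr b))) = 0 := by
    rw [mul_assoc, ← mul_assoc (ι Q (fr.e (Sum.inr b))), ι_mul_ι_comm (fr.e (Sum.inr b)) (fr.e (Sum.inr w)),
      polar_e, if_neg, map_zero, zero_sub, neg_mul, mul_assoc, ι_sq_scalar, fr.sing, map_zero, mul_zero, neg_zero,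
      mul_zero]
    have r2 : b ≠ w.swap := fun e => r.2.2 (by rw [hr, e])
    simp only [swapJ, Sum.map_inr, ne_eq, Sum.inr.injEq]
    exact fun e => r2 (by rw [e, Sum.swap_swap])
  simp only [mul_add, add_mul, mul_one, one_mul, smul_mul_assoc, mul_smul_comm, smul_smul, z, smul_zero, add_zero,
    smul_add]
  match_scalars <;> ring

/-- a long root and a short root -/
theorem bracket_mixed {a w : Idx m} {x : S} (q r k l : Root S m) (hq : q.1 = (a, Sum.inr w.swap))
    (hr : r.1 = (w, Sum.inl x)) (hk : k.1 = (a, Sum.inl x)) (hl : l.1 = (a, Sum.inr w)) (t s : F) :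
    ⁅rt fr q t, rt fr r s⁆ = rt fr l (t * s ^ 2) * rt fr k (t * s) := by
  refine bracket_of_conj (ext_val fr ?_)
  have q1 : w.swap ≠ a := fun e => q.2.1 (by rw [hq, e])
  have wa : w ≠ a.swap := fun e => q1 (by rw [e, Sum.swap_swap])
  have l1 : w ≠ a := fun e => l.2.1 (by rw [hl, e])
  have ew : ap fr (rt fr q t) (fr.e (Sum.inr w)) = fr.e (Sum.inr w) + t • fr.e (Sum.inr a) := by
    simp [ap_rt, hq, polar_e, swapJ, wa, nu, fr.sing]
  have eb : ap fr (rt fr q t) (fr.e (Sum.inl x)) = fr.e (Sum.inl x) :=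
    rt_fix fr q t (by simp) (by rw [hq]; simp [swapJ])
  rw [conj_val, val_mul, val_mul, val_rt, val_rt, val_rt, hr, hk, hl, ew, eb, map_add, map_smul]
  obtain ⟨u, hu⟩ : ∃ u, u = ι Q (fr.e (Sum.inr a)) := ⟨_, rfl⟩
  obtain ⟨v, hv⟩ : ∃ v, v = ι Q (fr.e (Sum.inr w)) := ⟨_, rfl⟩
  obtain ⟨y, hy⟩ : ∃ y, y = ι Q (fr.e (Sum.inl x)) := ⟨_, rfl⟩
  rw [← hu, ← hv, ← hy]
  have yy : y * y = 1 := by rw [hy, ι_sq_scalar, fr.qs, map_one]
  have uu : u * u = 0 := by rw [hu, ι_sq_scalar, fr.sing, map_zero]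
  have yv : y * v = -(v * y) := by
    rw [hy, hv, ι_mul_ι_comm, polar_e, if_neg (by simp [swapJ]), map_zero, zero_sub]
  have vu : v * u = -(u * v) := by
    rw [hu, hv, ι_mul_ι_comm, polar_e, if_neg, map_zero, zero_sub]
    simp only [swapJ, Sum.map_inr, ne_eq, Sum.inr.injEq]
    exact fun e => wa (by rw [e, Sum.swap_swap])
  have z1 : u * y * (v * y) = -(u * v) := by
    rw [mul_assoc, ← mul_assoc y, yv, neg_mul, mul_assoc v, yy, mul_one, mul_neg]
  have z2 : u * v * (u * y) = 0 := by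
    rw [mul_assoc, ← mul_assoc v, vu, neg_mul, mul_assoc, mul_neg, ← mul_assoc u u, uu, zero_mul, neg_zero]
  have z3 : u * v * (v * y) = 0 := by
    rw [mul_assoc, ← mul_assoc v, show v * v = 0 by rw [hv, ι_sq_scalar, fr.sing, map_zero], zero_mul, mul_zero]
  simp only [mul_add, add_mul, mul_one, one_mul, smul_mul_assoc, mul_smul_comm, smul_smul, z1, z2, z3, smul_zero,
    add_zero, smul_add, mul_neg, smul_neg, neg_zero]
  match_scalars <;> ring

/-- two short roots -/
theorem bracket_short {a w : Idx m} {x : S} (q r l : Root S m) (hq : q.1 = (a, Sum.inl x))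
    (hr : r.1 = (w, Sum.inl x)) (hl : l.1 = (w, Sum.inr a)) (t s : F) :
    ⁅rt fr q t, rt fr r s⁆ = rt fr l (2 * t * s) := by
  refine bracket_of_conj (ext_val fr ?_)
  have wa : w ≠ a.swap := fun e => l.2.2 (by rw [hl, e, Sum.swap_swap])
  have ew : ap fr (rt fr q t) (fr.e (Sum.inr w)) = fr.e (Sum.inr w) :=
    rt_fix fr q t (by rw [hq]; simpa using wa) (by rw [hq]; simp [swapJ])
  have eb : ap fr (rt fr q t) (fr.e (Sum.inl x)) = fr.e (Sum.inl x) + (2 * t) • fr.e (Sum.inr a) := by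
    simp [ap_rt, hq, polar_e, swapJ, nu, smul_smul, fr.qs, mul_comm]
  rw [conj_val, val_mul, val_rt, val_rt, hr, hl, ew, eb, map_add, map_smul]
  obtain ⟨u, hu⟩ : ∃ u, u = ι Q (fr.e (Sum.inr a)) := ⟨_, rfl⟩
  obtain ⟨v, hv⟩ : ∃ v, v = ι Q (fr.e (Sum.inr w)) := ⟨_, rfl⟩
  obtain ⟨y, hy⟩ : ∃ y, y = ι Q (fr.e (Sum.inl x)) := ⟨_, rfl⟩
  rw [← hu, ← hv, ← hy]
  have vu : v * u = -(u * v) := by
    rw [hu, hv, ι_mul_ι_comm, polar_e, if_neg, map_zero, zero_sub]
    simp only [swapJ, Sum.map_inr, ne_eq, Sum.inr.injEq]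
    exact fun e => wa (by rw [e, Sum.swap_swap])
  have z : v * u * (v * y) = 0 := by
    rw [vu, neg_mul, mul_assoc, ← mul_assoc v v, show v * v = 0 by rw [hv, ι_sq_scalar, fr.sing, map_zero], zero_mul,
      mul_zero, neg_zero]
  simp only [mul_add, add_mul, mul_one, one_mul, smul_mul_assoc, mul_smul_comm, smul_smul, z, smul_zero, add_zero,
    smul_add]
  match_scalars <;> ring

/-- two long roots with the same support -/
theorem commute_same {a b : Idx m} (q r : Root S m) (hq : q.1 = (a, Sum.inr b)) (hr : r.1 = (a, Sum.inr b.swap))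
    (t s : F) : Commute (rt fr q t) (rt fr r s) := by
  refine mul_inv_eq_iff_eq_mul.1 (ext_val fr ?_)
  have q1 : b ≠ a := fun e => q.2.1 (by rw [hq, e])
  have q2 : b ≠ a.swap := fun e => q.2.2 (by rw [hq, e])
  have ea : ap fr (rt fr q t) (fr.e (Sum.inr a)) = fr.e (Sum.inr a) :=
    rt_fix fr q t (by rw [hq]; simpa using (idx_swap_ne a).symm)
      (by rw [hq]; simp [swapJ]; exact fun e => q2 (by rw [e, Sum.swap_swap]))
  have eb : ap fr (rt fr q t) (fr.e (Sum.inr b.swap)) = fr.e (Sum.inr b.swap) + t • fr.e (Sum.inr a) := by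
    have h : b.swap ≠ a.swap := fun e => q1 (Sum.swap_leftInverse.injective e)
    simp [ap_rt, hq, polar_e, swapJ, h, nu, fr.sing]
  rw [conj_val, val_rt, hr, ea, eb, map_add, map_smul, mul_add, mul_smul_comm, ι_sq_scalar, fr.sing, map_zero,
    smul_zero, add_zero]

end

/-- one root is opposite to the other -/
def Opp {S : Type} {m : ℕ} (q r : Root S m) : Prop :=
  r.1 = q.neg.1 ∨ ∃ c d : Idx m, r.1 = (c, Sum.inr d) ∧ q.neg.1 = (d, Sum.inr c)

theorem Opp.symm {S : Type} {m : ℕ} {q r : Root S m} (h : Opp r q) : Opp q r := by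
  rcases h with h | ⟨c, d, h1, h2⟩
  · exact Or.inl (by rw [show q = r.neg from Subtype.ext h, Root.neg_neg])
  · refine Or.inr ⟨d.swap, c.swap, ?_, ?_⟩
    · have := congrArg (fun q : Root S m => q.neg.1) (show r.neg = ⟨(d, Sum.inr c), h2 ▸ r.neg.2⟩ from Subtype.ext h2)
      simpa [Root.neg_neg, Root.neg, swapJ] using this
    · simp [Root.neg, h1, swapJ]

/-- case distinction on pairs of roots that are not opposite -/
theorem pair_cases {S : Type} [Fintype S] {m : ℕ} (hsub : ∀ x y : S, x = y) {P : Root S m → Root S m → Prop}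
    (symm : ∀ q r, P q r → P r q) (flipl : ∀ q r b h, P (Root.flipPair q b h) r → P q r)
    (flat : ∀ q r : Root S m, r.1.1 ≠ q.1.1.swap → Sum.inr r.1.1 ≠ swapJ q.1.2 → r.1.2 ≠ Sum.inr q.1.1.swap →
      r.1.2 ≠ swapJ q.1.2 → P q r)
    (same : ∀ (q r : Root S m) (a b : Idx m), q.1 = (a, Sum.inr b) → r.1 = (a, Sum.inr b.swap) → P q r)
    (self : ∀ (q : Root S m) (a : Idx m) (x : S), q.1 = (a, Sum.inl x) → P q q)
    (long : ∀ (q r k : Root S m) (a w b : Idx m), q.1 = (a, Sum.inr w.swap) → r.1 = (w, Sum.inr b) →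
      k.1 = (a, Sum.inr b) → P q r)
    (mixed : ∀ (q r k l : Root S m) (a w : Idx m) (x : S), q.1 = (a, Sum.inr w.swap) → r.1 = (w, Sum.inl x) →
      k.1 = (a, Sum.inl x) → l.1 = (a, Sum.inr w) → P q r)
    (short : ∀ (q r l : Root S m) (a w : Idx m) (x : S), q.1 = (a, Sum.inl x) → r.1 = (w, Sum.inl x) →
      l.1 = (w, Sum.inr a) → P q r) :
    ∀ q r, ¬ Opp q r → P q r := by
  have flipr : ∀ q r b h, P q (Root.flipPair r b h) → P q r := fun q r b h hp =>
    symm _ _ (flipl r q b h (symm _ _ hp))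
  -- a long root and a short root
  have hmix : ∀ (q r : Root S m) (a b c : Idx m) (x : S), q.1 = (a, Sum.inr b) → r.1 = (c, Sum.inl x) → P q r := by
    intro q r a b c x hq hr
    have q1 : b ≠ a := fun e => q.2.1 (by rw [hq, e])
    have q2 : b ≠ a.swap := fun e => q.2.2 (by rw [hq, e])
    by_cases h1 : c = b.swap
    · exact mixed q r ⟨(a, Sum.inl x), by simp, by simp⟩ ⟨(a, Sum.inr c),
        by simp [h1]; exact fun e => q2 (by rw [← e, Sum.swap_swap]),
        by simp [h1]; exact fun e => q1 (Sum.swap_leftInverse.injective e)⟩ a c x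
        (by rw [hq, h1, Sum.swap_swap]) hr rfl rfl
    by_cases h2 : c = a.swap
    · refine flipl q r b (by rw [hq]) ?_
      exact mixed _ r ⟨(b, Sum.inl x), by simp, by simp⟩ ⟨(b, Sum.inr c),
        by simp [h2]; exact fun e => q2 e.symm,
        by simp [h2]; exact fun e => q1 (Sum.swap_leftInverse.injective e).symm⟩ b c x
        (by simp [Root.flipPair, hq, h2]) hr rfl rfl
    exact flat q r (by rw [hq, hr]; exact h2) (by rw [hq, hr]; simpa [swapJ] using h1)
      (by rw [hr]; simp) (by rw [hq, hr]; simp [swapJ])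
  -- two long roots, normalised
  have hll : ∀ (q r : Root S m) (a b d : Idx m), q.1 = (a, Sum.inr b) → r.1 = (b.swap, Sum.inr d) →
      ¬ Opp q r → P q r := by
    intro q r a b d hq hr hno
    by_cases h1 : d = a.swap
    · exact absurd (Or.inr ⟨b.swap, a.swap, by rw [hr, h1], by simp [Root.neg, hq, swapJ]⟩) hno
    by_cases h2 : d = a
    · refine flipr q r d (by rw [hr]) (same q _ a b hq ?_)
      simp [Root.flipPair, hr, h2]
    exact long q r ⟨(a, Sum.inr d), by simp [h2], by simp [h1]⟩ a b.swap d (by rw [hq, Sum.swap_swap]) hr rfl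
  intro q r hno
  rcases (show (∃ x, q.1.2 = Sum.inl x) ∨ ∃ b, q.1.2 = Sum.inr b by cases q.1.2 <;> simp) with ⟨x, hx⟩ | ⟨b, hb⟩ <;>
    rcases (show (∃ y, r.1.2 = Sum.inl y) ∨ ∃ d, r.1.2 = Sum.inr d by cases r.1.2 <;> simp) with ⟨y, hy⟩ | ⟨d, hd⟩
  · obtain rfl := hsub x y
    by_cases h1 : r.1.1 = q.1.1
    · obtain rfl : r = q := Subtype.ext (Prod.ext h1 (by rw [hx, hy]))
      exact self _ r.1.1 x (Prod.ext rfl hx)
    have h2 : r.1.1 ≠ q.1.1.swap := fun e =>
      hno (Or.inl (Prod.ext e (by simp [Root.neg, hx, hy, swapJ])))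
    exact short q r ⟨(r.1.1, Sum.inr q.1.1), fun e => h1 (Sum.inr_injective e).symm,
      fun e => h2 (by rw [← Sum.swap_swap r.1.1, ← Sum.inr_injective e])⟩ q.1.1 r.1.1 x (Prod.ext rfl hx)
      (Prod.ext rfl hy) rfl
  · exact symm _ _ (hmix r q r.1.1 d q.1.1 x (Prod.ext rfl hd) (Prod.ext rfl hx))
  · exact hmix q r q.1.1 b r.1.1 y (Prod.ext rfl hb) (Prod.ext rfl hy)
  have hno' : ¬ Opp (q.flipPair b hb) r := fun h => hno (by
    rcases h with h | ⟨c, e, h1, h2⟩
    · exact Or.inr ⟨b.swap, q.1.1.swap, h, by simp [Root.neg, hb, swapJ]⟩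
    · refine Or.inl ?_
      simp only [Root.neg, Root.flipPair, swapJ, Sum.map_inr, Prod.mk.injEq, Sum.inr.injEq] at h2
      rw [h1, ← h2.1, ← h2.2]
      simp [Root.neg, hb, swapJ])
  have hflip : ∀ q : Root S m, ∀ b' h', ¬ Opp q r → ¬ Opp q (Root.flipPair r b' h') := fun q b' h' hn h => hn (by
    rcases h with h | ⟨c, e, h1, h2⟩
    · simp only [Root.flipPair] at h
      exact Or.inr ⟨r.1.1, b', Prod.ext rfl h', h.symm⟩
    · simp only [Root.flipPair, Prod.mk.injEq, Sum.inr.injEq] at h1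
      exact Or.inl (by rw [h2, ← h1.1, ← h1.2]; exact Prod.ext rfl h'))
  by_cases c1 : r.1.1 = b.swap
  · exact hll q r q.1.1 b d (Prod.ext rfl hb) (Prod.ext c1 hd) hno
  by_cases c2 : d = b.swap
  · exact flipr q r d hd (hll q _ q.1.1 b r.1.1 (Prod.ext rfl hb) (by simp [Root.flipPair, c2]) (hflip q d hd hno))
  by_cases c3 : r.1.1 = q.1.1.swap
  · exact flipl q r b hb (hll _ r b q.1.1 d rfl (Prod.ext c3 hd) hno')
  by_cases c4 : d = q.1.1.swap
  · exact flipl q r b hb (flipr _ r d hd (hll _ _ b q.1.1 r.1.1 rfl (by simp [Root.flipPair, c4]) (hflip _ d hd hno')))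
  exact flat q r c3 (by rw [hb]; simpa [swapJ] using c1) (by rw [hd]; simpa using c4)
    (by rw [hd, hb]; simpa [swapJ] using c2)

end CfsgLib.Known.SpinMult
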