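import Cfsg.Agent.Lib.Known.SpinMult.Sys

/-!
# Finiteness, generation and the torus of a spin group
-/

set_option autoImplicit false
set_option linter.unusedSectionVars false

namespace CfsgLib.Known.SpinMult

noncomputable section

open CliffordAlgebra QuadraticMap CfsgLib.Classical.Quad
open scoped commutatorElement

variable {F : Type*} [Field F] {V : Type*} [AddCommGroup V] [Module F V] {Q : QuadraticForm F V} {m : ℕ}
  {S : Type} [Fintype S] [DecidableEq S] (fr : Frame Q m S)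

theorem val_props (g : Spin fr) : involute (val fr g) = val fr g ∧ reverse (val fr g) * val fr g = 1 := by
  obtain ⟨g, hg⟩ := g
  change involute ((g : (CliffordAlgebra Q)ˣ) : CliffordAlgebra Q) = _ ∧ _
  induction hg using Subgroup.closure_induction with
  | one => simp [val]
  | mem a ha =>
    obtain ⟨q, t, rfl⟩ := ha
    exact ⟨X_involute (fr.sing _) (perp_root fr q) t, X_reverse (fr.sing _) (perp_root fr q) t⟩
  | mul a b _ _ ha hb =>
    simp only [val, Subgroup.coe_mul, Units.val_mul, map_mul, reverse.map_mul] at ha hb ⊢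
    refine ⟨by rw [ha.1, hb.1], ?_⟩
    rw [mul_assoc, ← mul_assoc _ ((a : (CliffordAlgebra Q)ˣ) : CliffordAlgebra Q), ha.2, one_mul, hb.2]
  | inv a _ ha =>
    simp only [val, Subgroup.coe_inv] at ha ⊢
    obtain ⟨A, hA⟩ : ∃ A, A = (a : (CliffordAlgebra Q)ˣ) := ⟨_, rfl⟩
    rw [← hA] at ha ⊢
    have h1 : involute (A⁻¹ : (CliffordAlgebra Q)ˣ).val * (A : CliffordAlgebra Q) = 1 := by
      conv_lhs => arg 2; rw [← ha.1]
      rw [← map_mul, Units.inv_mul, map_one]
    refine ⟨(Units.mul_eq_one_iff_eq_inv).1 h1, ?_⟩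
    have h2 : (A : CliffordAlgebra Q) * reverse (A : CliffordAlgebra Q) = 1 := by
      have : reverse (A : CliffordAlgebra Q) = (A⁻¹ : (CliffordAlgebra Q)ˣ).val := (Units.mul_eq_one_iff_eq_inv).1 ha.2
      rw [this, Units.mul_inv]
    calc reverse ((A⁻¹ : (CliffordAlgebra Q)ˣ) : CliffordAlgebra Q) * (A⁻¹ : (CliffordAlgebra Q)ˣ).val
        = reverse ((A⁻¹ : (CliffordAlgebra Q)ˣ) : CliffordAlgebra Q) *
            ((A : CliffordAlgebra Q) * reverse (A : CliffordAlgebra Q)) * (A⁻¹ : (CliffordAlgebra Q)ˣ).val := by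
          rw [h2, mul_one]
      _ = reverse ((A⁻¹ : (CliffordAlgebra Q)ˣ) : CliffordAlgebra Q) * reverse (A : CliffordAlgebra Q) := by
          rw [show reverse (A : CliffordAlgebra Q) = (A⁻¹ : (CliffordAlgebra Q)ˣ).val from
            (Units.mul_eq_one_iff_eq_inv).1 ha.2, Units.mul_inv, mul_one]
      _ = 1 := by rw [← reverse.map_mul, Units.mul_inv, reverse.map_one]

/-- the kernel on vectors is `±1` -/
theorem val_of_ker {g : Spin fr} (h : ∀ z, ap fr g z = z) : val fr g = 1 ∨ val fr g = -1 := by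
  obtain ⟨h1, h2⟩ := val_props fr g
  obtain ⟨c, hc⟩ := scalar_of_commute fr.bm (nondeg fr) h1 fun v => by
    have e := ι_actv (g : Nrm Q) v
    rw [← ap_def fr, h] at e
    conv_lhs => rw [← e]
    show _ * val fr g = val fr g * _
    unfold val
    rw [mul_assoc, Units.inv_mul, mul_one]
  rw [hc, reverse.commutes, ← map_mul, ← map_one (algebraMap F (CliffordAlgebra Q))] at h2
  rcases mul_self_eq_one_iff.1 (algebraMap_inj fr.bm h2) with rfl | rfl
  · exact Or.inl (by rw [hc, map_one])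
  · exact Or.inr (by rw [hc, map_neg, map_one])

theorem mem_ker_toO {g : Spin fr} : g ∈ (toO fr).ker ↔ ∀ z, ap fr g z = z := by
  rw [MonoidHom.mem_ker]
  exact ⟨fun h z => by rw [ap, h]; rfl, fun h => Subtype.ext (LinearEquiv.ext h)⟩

instance finite_spin [Finite F] : Finite (Spin fr) := by
  have : Module.Finite F V := Module.Finite.of_basis fr.e
  have : Finite V := Module.finite_of_finite F
  have : Finite (V ≃ₗ[F] V) := Finite.of_injective (fun e => (e : V → V)) DFunLike.coe_injective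
  have : Finite (toO fr).ker := by
    refine Set.Finite.to_subtype (Set.Finite.of_finite_image (f := val fr) ?_ ?_)
    · refine ((Set.finite_singleton (-1)).insert 1).subset ?_
      rintro _ ⟨g, hg, rfl⟩
      exact val_of_ker fr ((mem_ker_toO fr).1 hg)
    · exact fun g _ g' _ h => ext_val fr h
  have : Finite (toO fr).range := Finite.of_injective _ Subtype.val_injective
  have : Finite (Spin fr ⧸ (toO fr).ker) := Finite.of_equiv _ (QuotientGroup.quotientKerEquivRange (toO fr)).symm.toEquiv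
  exact Finite.of_equiv _ (Subgroup.groupEquivQuotientProdSubgroup (s := (toO fr).ker)).symm

theorem ap_neg_one {g : Spin fr} (h : val fr g = -1) (z : V) : ap fr g z = z := by
  refine actv_eq fr.bm ?_
  obtain ⟨A, hA⟩ : ∃ A, A = ((g : Nrm Q) : (CliffordAlgebra Q)ˣ) := ⟨_, rfl⟩
  have hv : (A : CliffordAlgebra Q) = -1 := hA ▸ h
  show (((g : Nrm Q) : (CliffordAlgebra Q)ˣ) : CliffordAlgebra Q) * _ * _ = _
  have hinv : (A⁻¹).val = -1 := by
    have := Units.mul_inv A
    rw [hv, neg_one_mul] at this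
    rw [← this, neg_neg]
  rw [← hA, hv]
  show -1 * ι Q z * ((((g : Nrm Q) : (CliffordAlgebra Q)ˣ))⁻¹).val = _
  rw [← hA, hinv]
  simp

/-- the sum of the two idempotents of a root -/
def idem (q : Root S m) : CliffordAlgebra Q :=
  ι Q (fr.e (Sum.inr q.1.1)) * ι Q (fr.e q.1.2) * -(ι Q (fr.e (Sum.inr q.1.1.swap)) * ι Q (fr.e (swapJ q.1.2))) +
    -(ι Q (fr.e (Sum.inr q.1.1.swap)) * ι Q (fr.e (swapJ q.1.2))) * (ι Q (fr.e (Sum.inr q.1.1)) * ι Q (fr.e q.1.2))

theorem idem_sq (q : Root S m) : idem fr q * idem fr q = idem fr q := by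
  obtain ⟨P, hP⟩ : ∃ P, P = ι Q (fr.e (Sum.inr q.1.1)) * ι Q (fr.e q.1.2) := ⟨_, rfl⟩
  obtain ⟨P', hP'⟩ : ∃ P, P = -(ι Q (fr.e (Sum.inr q.1.1.swap)) * ι Q (fr.e (swapJ q.1.2))) := ⟨_, rfl⟩
  have h1 : P * P' * P = P := by rw [hP, hP']; exact triple fr q
  have h2 : P' * P * P' = P' := by rw [hP, hP']; exact triple' fr q
  have s1 : P * P = 0 := hP ▸ sq_zero fr q
  have s2 : P' * P' = 0 := by rw [hP', neg_mul_neg]; exact sq_zero fr q.neg
  rw [idem, ← hP, ← hP', add_mul, mul_add, mul_add, ← mul_assoc (P * P'), h1, ← mul_assoc (P' * P) P', h2,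
    mul_assoc P P' (P' * P), ← mul_assoc P' P', s2, zero_mul, mul_zero, mul_assoc P' P (P * P'), ← mul_assoc P P, s1,
    zero_mul, mul_zero, add_zero, zero_add]

theorem val_cor_neg_one (q : Root S m) : val fr (cor fr q (-1)) = 1 - (2 : F) • idem fr q := by
  rw [val_cor fr q (neg_ne_zero.2 (one_ne_zero (α := F))), inv_neg, inv_one]
  simp only [idem, neg_smul, one_smul, two_smul]
  abel

theorem idem_short (q : Root S m) {s : S} (h : q.1.2 = Sum.inl s) : idem fr q = 1 := by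
  obtain ⟨u, hu⟩ : ∃ u, u = ι Q (fr.e (Sum.inr q.1.1)) := ⟨_, rfl⟩
  obtain ⟨u', hu'⟩ : ∃ u, u = ι Q (fr.e (Sum.inr q.1.1.swap)) := ⟨_, rfl⟩
  obtain ⟨x, hx⟩ : ∃ u, u = ι Q (fr.e (Sum.inl s)) := ⟨_, rfl⟩
  have xu : ∀ a, x * ι Q (fr.e (Sum.inr a)) = -(ι Q (fr.e (Sum.inr a)) * x) := fun a => by
    rw [hx, ι_mul_ι_comm, fr.cross, map_zero, zero_sub]
  have xx : x * x = 1 := by rw [hx, ι_sq_scalar, fr.qs, map_one]
  rw [idem, h, show swapJ (Sum.inl s : S ⊕ Idx m) = Sum.inl s from rfl, ← hu, ← hu', ← hx]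
  have e : ∀ v w, x * w = -(w * x) → v * x * (w * x) = -(v * w) := fun v w hw => by
    rw [mul_assoc, ← mul_assoc x, hw, neg_mul, mul_assoc w, xx, mul_one, mul_neg]
  rw [mul_neg, neg_mul, e u u' (hu' ▸ xu _), e u' u (hu ▸ xu _), neg_neg, neg_neg, hu, hu', ι_mul_ι_add_swap,
    polar_e, if_pos (by simp [swapJ])]
  simp [nu]

theorem idem_long (q : Root S m) {b : Idx m} (h : q.1.2 = Sum.inr b) : idem fr q =
    ι Q (fr.e (Sum.inr q.1.1)) * ι Q (fr.e (Sum.inr q.1.1.swap)) * (ι Q (fr.e (Sum.inr b)) * ι Q (fr.e (Sum.inr b.swap))) +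
    ι Q (fr.e (Sum.inr q.1.1.swap)) * ι Q (fr.e (Sum.inr q.1.1)) * (ι Q (fr.e (Sum.inr b.swap)) * ι Q (fr.e (Sum.inr b))) := by
  have hab : b ≠ q.1.1 := fun e => q.2.1 (by rw [h, e])
  have hab' : b ≠ q.1.1.swap := fun e => q.2.2 (by rw [h, e])
  have e1 : ι Q (fr.e (Sum.inr b)) * ι Q (fr.e (Sum.inr q.1.1.swap)) =
      -(ι Q (fr.e (Sum.inr q.1.1.swap)) * ι Q (fr.e (Sum.inr b))) := by
    rw [ι_mul_ι_comm, fr.pair, if_neg, map_zero, zero_sub]
    exact fun e => hab (Sum.swap_leftInverse.injective e).symm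
  have e2 : ι Q (fr.e (Sum.inr b.swap)) * ι Q (fr.e (Sum.inr q.1.1)) =
      -(ι Q (fr.e (Sum.inr q.1.1)) * ι Q (fr.e (Sum.inr b.swap))) := by
    rw [ι_mul_ι_comm, fr.pair, if_neg, map_zero, zero_sub]
    rw [Sum.swap_swap]; exact fun e => hab e.symm
  rw [idem, h, show swapJ (Sum.inr b : S ⊕ Idx m) = Sum.inr b.swap from rfl]
  congr 1
  · rw [mul_neg, mul_assoc, ← mul_assoc (ι Q (fr.e (Sum.inr b))), e1]
    simp only [neg_mul, mul_neg, neg_neg, mul_assoc]
  · rw [neg_mul, mul_assoc, ← mul_assoc (ι Q (fr.e (Sum.inr b.swap))), e2]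
    simp only [neg_mul, mul_neg, neg_neg, mul_assoc]

/-- the idempotents of two long roots with the same support add up to one -/
theorem idem_add (q r : Root S m) {a b : Idx m} (hq : q.1 = (a, Sum.inr b)) (hr : r.1 = (a, Sum.inr b.swap)) :
    idem fr q + idem fr r = 1 := by
  rw [idem_long fr q (b := b) (by rw [hq]), idem_long fr r (b := b.swap) (by rw [hr]), hq, hr, Sum.swap_swap]
  obtain ⟨A, hA⟩ : ∃ A, A = ι Q (fr.e (Sum.inr a)) * ι Q (fr.e (Sum.inr a.swap)) := ⟨_, rfl⟩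
  obtain ⟨A', hA'⟩ : ∃ A, A = ι Q (fr.e (Sum.inr a.swap)) * ι Q (fr.e (Sum.inr a)) := ⟨_, rfl⟩
  obtain ⟨B, hB⟩ : ∃ A, A = ι Q (fr.e (Sum.inr b)) * ι Q (fr.e (Sum.inr b.swap)) := ⟨_, rfl⟩
  obtain ⟨B', hB'⟩ : ∃ A, A = ι Q (fr.e (Sum.inr b.swap)) * ι Q (fr.e (Sum.inr b)) := ⟨_, rfl⟩
  have ha : A + A' = 1 := by rw [hA, hA', ι_mul_ι_add_swap, fr.pair, if_pos rfl, map_one]
  have hb : B + B' = 1 := by rw [hB, hB', ι_mul_ι_add_swap, fr.pair, if_pos rfl, map_one]
  rw [← hA, ← hA', ← hB, ← hB']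
  calc A * B + A' * B' + (A * B' + A' * B) = A * (B + B') + A' * (B + B') := by noncomm_ring
    _ = 1 := by rw [hb, mul_one, mul_one, ha]

theorem neg_one_short (q : Root S m) {s : S} (h : q.1.2 = Sum.inl s) : val fr (cor fr q (-1)) = -1 := by
  rw [val_cor_neg_one, idem_short fr q h, two_smul]
  abel

theorem neg_one_long (q r : Root S m) {a b : Idx m} (hq : q.1 = (a, Sum.inr b)) (hr : r.1 = (a, Sum.inr b.swap)) :
    val fr (cor fr q (-1) * cor fr r (-1)) = -1 := by
  rw [val_mul, val_cor_neg_one, val_cor_neg_one, eq_sub_of_add_eq' (idem_add fr q r hq hr)]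
  simp only [sub_mul, mul_sub, one_mul, mul_one, smul_sub, smul_mul_assoc, mul_smul_comm, idem_sq, smul_smul]
  match_scalars <;> ring

variable (hm : 2 ≤ m)

theorem exists_lower (p : Root S m) (hp : 1 ≤ deg p) (hle : ∀ b, p.1.2 = Sum.inr b → hgt S b ≤ hgt S p.1.1) :
    ∃ k, deg (sperm fr hm k p) < deg p := by
  have hc := card_S_le fr
  obtain ⟨⟨x, y⟩, h1, h2⟩ := p
  have hxpos : 0 < hgt S x := by
    rcases y with s | y
    · simp [deg, hgtJ] at hp; omega
    · have := hle y rfl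
      simp [deg, hgtJ] at hp
      simp only at this
      omega
  rcases x with i | i
  swap
  · exfalso
    simp only [hgt, Sum.elim_inr] at hxpos
    have := i.2
    omega
  have hi := i.2
  by_cases hlast : i.1 + 1 < m
  · by_cases hy : y = Sum.inr (Sum.inl ⟨i.1 + 1, hlast⟩)
    · subst hy
      by_cases h3 : i.1 + 1 + 1 < m
      · refine ⟨⟨i.1 + 1, hlast⟩, ?_⟩
        simp [sperm, sim, h3, Root.move, rSwap, deg, hgtJ, hgt, Equiv.swap_apply_def, Fin.ext_iff]
        split_ifs <;> simp [Fin.ext_iff] at * <;> omega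
      · by_cases hS : 0 < Fintype.card S
        · refine ⟨⟨i.1 + 1, hlast⟩, ?_⟩
          simp [sperm, sim, h3, hS, Root.move, rSwap, deg, hgtJ, hgt, Equiv.swap_apply_def, Fin.ext_iff]
          omega
        · refine ⟨⟨i.1 + 1, hlast⟩, ?_⟩
          simp [sperm, sim, h3, hS, Root.move, rSwap, deg, hgtJ, hgt, Equiv.swap_apply_def, Fin.ext_iff] at *
          split_ifs <;> simp [Fin.ext_iff] at * <;> omega
    · refine ⟨i, ?_⟩
      rcases y with s | (j | j)
      · simp [sperm, sim, hlast, Root.move, rSwap, deg, hgtJ, hgt, Equiv.swap_apply_def, Fin.ext_iff]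
      all_goals
        simp [Fin.ext_iff] at h1 h2 hy
        simp [sperm, sim, hlast, Root.move, rSwap, deg, hgtJ, hgt, Equiv.swap_apply_def, Fin.ext_iff]
        split_ifs <;> simp [Fin.ext_iff] at * <;> omega
  · have hS : 0 < Fintype.card S := by
      simp only [hgt, Sum.elim_inl] at hxpos
      omega
    refine ⟨i, ?_⟩
    rcases y with s | (j | j)
    · simp [sperm, sim, hlast, hS, Root.move, rSwap, deg, hgtJ, hgt] at *
      omega
    all_goals
      simp [Fin.ext_iff] at h1 h2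
      simp [sperm, sim, hlast, hS, Root.move, rSwap, deg, hgtJ, hgt, Equiv.swap_apply_def, Fin.ext_iff]
      split_ifs <;> simp [Fin.ext_iff] at * <;> omega

theorem gen (p : ℕ) [CharP F p] : (spinSys fr hm p).U ⊔ (spinSys fr hm p).WeylGp = ⊤ := by
  obtain ⟨K, hK⟩ : ∃ K, K = (spinSys fr hm p).U ⊔ (spinSys fr hm p).WeylGp := ⟨_, rfl⟩
  rw [← hK]
  have hU : ∀ q : Root S m, Pos q → ∀ t, rt fr q t ∈ K := fun q hq t =>
    hK ▸ Subgroup.mem_sup_left ((spinSys fr hm p).R_mem q t hq)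
  have hn : ∀ k, rt fr (sim fr hm k) 1 * nt fr (sim fr hm k) (-1⁻¹) * rt fr (sim fr hm k) 1 ∈ K := fun k =>
    hK ▸ Subgroup.mem_sup_right (Subgroup.subset_closure ⟨k, 1, one_ne_zero, rfl⟩)
  have hneg : ∀ n : ℕ, ∀ q : Root S m, Pos q → (deg q).toNat = n → ∀ t, nt fr q t ∈ K := by
    intro n
    induction n using Nat.strong_induction_on with
    | _ n ih =>
    intro q hq hn'
    by_cases hs : ∃ k, ¬ Pos (sperm fr hm k q)
    · obtain ⟨k, hk⟩ := hs
      intro t
      obtain ⟨ν, hν, -, e⟩ := (spinSys fr hm p).flip k q hq hk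
      change ∀ t, nt fr q t = nt fr (sim fr hm k) (t / ν) at e
      rw [e]
      have h := weyl_conj_self fr (sim fr hm k) (one_ne_zero (α := F)) (-(t / ν))
      rw [neg_neg, one_pow, div_one] at h
      rw [← h]
      exact mul_mem (mul_mem (hn k) (hU _ (pos_sim fr hm k) _)) (inv_mem (hn k))
    simp only [not_exists, not_not] at hs
    unfold Pos at hq
    obtain ⟨q', hq', hsw, hle⟩ : ∃ q' : Root S m, deg q' = deg q ∧
        (q' = q ∨ ∃ b h, q' = q.flipPair b h) ∧ ∀ b, q'.1.2 = Sum.inr b → hgt S b ≤ hgt S q'.1.1 := by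
      by_cases hle : ∀ b, q.1.2 = Sum.inr b → hgt S b ≤ hgt S q.1.1
      · exact ⟨q, rfl, Or.inl rfl, hle⟩
      · simp only [not_forall, not_le] at hle
        obtain ⟨b, hb, hlt⟩ := hle
        refine ⟨q.flipPair b hb, deg_flipPair _ _ _, Or.inr ⟨b, hb, rfl⟩, fun b' hb' => ?_⟩
        simp only [Root.flipPair, Sum.inr.injEq] at hb'
        subst hb'
        exact hlt.le
    obtain ⟨k, hk⟩ := exists_lower fr hm q' (by omega) hle
    have hq'pos : Pos q' := by unfold Pos; omega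
    have hpos : Pos (sperm fr hm k q') := by
      rcases hsw with rfl | ⟨b, hb, rfl⟩
      · exact hs k
      · have e : deg (sperm fr hm k (q.flipPair b hb)) = deg (sperm fr hm k q) := by
          simp [deg, sperm, Root.move, Root.flipPair, hb, hgtJ]; ring
        have := hs k
        unfold Pos at *; omega
    have key : ∀ t, nt fr q' t ∈ K := fun t => by
      have hi := ih (deg (sperm fr hm k q')).toNat (by unfold Pos at hpos; omega) _ hpos rfl
      obtain ⟨N, hN⟩ : ∃ N, N = rt fr (sim fr hm k) 1 * nt fr (sim fr hm k) (-1⁻¹) * rt fr (sim fr hm k) 1 :=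
        ⟨_, rfl⟩
      obtain ⟨μ, hμ, -, hc⟩ := (spinSys fr hm p).conj_n k 1 one_ne_zero q'
      have : nt fr q' t = N⁻¹ * nt fr (sperm fr hm k q') (t / μ) * N := by
        have := hc t
        change rt fr (sim fr hm k) 1 * nt fr (sim fr hm k) (-1⁻¹) * rt fr (sim fr hm k) 1 * nt fr q' t *
          (rt fr (sim fr hm k) 1 * nt fr (sim fr hm k) (-1⁻¹) * rt fr (sim fr hm k) 1)⁻¹ =
          nt fr (sperm fr hm k q') (t / μ) at this
        rw [← hN] at this
        rw [← this]; group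
      rw [this]
      exact mul_mem (mul_mem (inv_mem (hN ▸ hn k)) (hi _)) (hN ▸ hn k)
    intro t
    rcases hsw with rfl | ⟨b, hb, rfl⟩
    · exact key t
    · have := key (-t)
      rw [nt, rt_swap fr (q := q.neg) (by simp [Root.neg, Root.flipPair, swapJ])
        (by simp [Root.neg, Root.flipPair, hb, swapJ])] at this
      simpa [nt] using this
  rw [eq_top_iff]
  intro g _
  obtain ⟨g, hg⟩ := g
  have : Subgroup.closure {g : Spin fr | ∃ q t, g = rt fr q t} = ⊤ := by
    refine Subgroup.map_injective (Spin fr).subtype_injective ?_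
    rw [MonoidHom.map_closure, ← MonoidHom.range_eq_map, Subgroup.range_subtype]
    refine congrArg Subgroup.closure (Set.ext fun x => ⟨?_, ?_⟩)
    · rintro ⟨_, ⟨q, t, rfl⟩, rfl⟩; exact ⟨q, t, rfl⟩
    · rintro ⟨q, t, rfl⟩; exact ⟨rt fr q t, ⟨q, t, rfl⟩, rfl⟩
  refine (Subgroup.closure_le K).2 ?_ (this.symm ▸ Subgroup.mem_top (⟨g, hg⟩ : Spin fr))
  rintro _ ⟨q, t, rfl⟩
  by_cases hq : Pos q
  · exact hU q hq t
  · have h0 := deg_ne q
    have hq' : Pos q.neg := by unfold Pos at *; rw [deg_neg]; omega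
    have := hneg _ q.neg hq' rfl (-t)
    rwa [nt, Root.neg_neg, neg_neg] at this

end

end CfsgLib.Known.SpinMult
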