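import Cfsg.Agent.Lib.Known.SpinMult.Rels
import Cfsg.Agent.Lib.Known.RootLift.Main

/-!
# The root system data of a spin group
-/

set_option autoImplicit false
set_option linter.unusedSectionVars false

namespace CfsgLib.Known.SpinMult

noncomputable section

open CliffordAlgebra QuadraticMap CfsgLib.Classical.Quad
open scoped commutatorElement

variable {F : Type*} [Field F] {V : Type*} [AddCommGroup V] [Module F V] {Q : QuadraticForm F V} {m : ℕ}
  {S : Type} [Fintype S] [DecidableEq S] (fr : Frame Q m S)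

/-- generated by positive root elements of degree at least `n` -/
def Up (n : ℤ) : Subgroup (Spin fr) := Subgroup.closure {g | ∃ q t, Pos q ∧ n ≤ deg q ∧ g = rt fr q t}

theorem Up_anti {n n' : ℤ} (h : n ≤ n') : Up fr n' ≤ Up fr n :=
  Subgroup.closure_mono (by rintro _ ⟨q, t, h1, h2, rfl⟩; exact ⟨q, t, h1, h.trans h2, rfl⟩)

theorem rt_mem_Up {q : Root S m} (hq : Pos q) {n : ℤ} (hn : n ≤ deg q) (t : F) : rt fr q t ∈ Up fr n :=
  Subgroup.subset_closure ⟨q, t, hq, hn, rfl⟩

theorem not_opp {q r : Root S m} (hq : Pos q) (hr : Pos r) : ¬ Opp q r := by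
  unfold Pos at *
  intro h
  rcases h with h | ⟨c, d, h1, h2⟩
  · have : deg r = deg q.neg := by simp [deg, h]
    rw [deg_neg] at this; omega
  · have : deg r = deg q.neg := by simp only [deg, h1, h2, hgtJ, Sum.elim_inr]; ring
    rw [deg_neg] at this; omega

/-- commutator relations -/
theorem comm_mem_Up (q r : Root S m) (hq : Pos q) (hr : Pos r) (t u : F) :
    ⁅rt fr q t, rt fr r u⁆ ∈ Up fr (max (deg q) (deg r) + 1) := by
  revert hq hr t u
  by_cases ho : Opp q r
  · intro hq hr; exact absurd ho (not_opp hq hr)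
  revert ho
  refine pair_cases fr.sub (P := fun q r => Pos q → Pos r → ∀ t u : F,
    ⁅rt fr q t, rt fr r u⁆ ∈ Up fr (max (deg q) (deg r) + 1)) ?_ ?_ ?_ ?_ ?_ ?_ ?_ ?_ q r
  · intro q r h hr hq t u
    rw [← commutatorElement_inv, max_comm]
    exact inv_mem (h hq hr u t)
  · intro q r b hb h hq hr t u
    have := h (by unfold Pos at *; rwa [deg_flipPair]) hr (-t) u
    rwa [rt_flipPair, neg_neg, deg_flipPair] at this
  · intro q r a1 a2 b1 b2 _ _ t u
    rw [commutatorElement_eq_one_iff_commute.2 (commute_rt fr q r a1 a2 b1 b2 t u)]; exact one_mem _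
  · intro q r a b h1 h2 _ _ t u
    rw [commutatorElement_eq_one_iff_commute.2 (commute_same fr q r h1 h2 t u)]; exact one_mem _
  · intro q a x h _ _ t u
    rw [commutatorElement_eq_one_iff_commute.2 (commute_self fr q t u)]; exact one_mem _
  · intro q r k a w b h1 h2 h3 hq hr t u
    rw [bracket_long fr q r k h1 h2 h3]
    unfold Pos at *
    have : deg k = deg q + deg r := by simp only [deg, h1, h2, h3, hgtJ, Sum.elim_inr, hgt_swap]; ring
    exact rt_mem_Up fr (by unfold Pos; omega) (by omega) _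
  · intro q r k l a w x h1 h2 h3 h4 hq hr t u
    rw [bracket_mixed fr q r k l h1 h2 h3 h4]
    unfold Pos at *
    have e1 : deg k = deg q + deg r := by
      simp only [deg, h1, h2, h3, hgtJ, Sum.elim_inr, Sum.elim_inl, hgt_swap]; ring
    have e2 : deg l = deg q + 2 * deg r := by
      simp only [deg, h1, h2, h4, hgtJ, Sum.elim_inr, Sum.elim_inl, hgt_swap]; ring
    exact mul_mem (rt_mem_Up fr (by unfold Pos; omega) (by omega) _) (rt_mem_Up fr (by unfold Pos; omega) (by omega) _)
  · intro q r l a w x h1 h2 h3 hq hr t u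
    rw [bracket_short fr q r l h1 h2 h3]
    unfold Pos at *
    have e2 : deg l = deg q + deg r := by
      simp only [deg, h1, h2, h3, hgtJ, Sum.elim_inr, Sum.elim_inl]; ring
    exact rt_mem_Up fr (by unfold Pos; omega) (by omega) _


/-- simple roots -/
def sim (_fr : Frame Q m S) (hm : 2 ≤ m) (k : Fin m) : Root S m :=
  if h : k.1 + 1 < m then
    ⟨(Sum.inl k, Sum.inr (Sum.inr ⟨k.1 + 1, h⟩)), by simp, by simp [Fin.ext_iff]⟩
  else if hS : 0 < Fintype.card S then ⟨(Sum.inl k, Sum.inl (Fintype.card_pos_iff.1 hS).some), by simp, by simp⟩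
  else ⟨(Sum.inl ⟨m - 2, by omega⟩, Sum.inr (Sum.inl k)), by simp [Fin.ext_iff]; omega, by simp⟩

include fr in
theorem card_S_le : Fintype.card S ≤ 1 := Fintype.card_le_one_iff.2 fr.sub

variable (hm : 2 ≤ m)

theorem deg_sim (k : Fin m) : deg (sim fr hm k) = 1 := by
  have hc := card_S_le fr
  have := k.2
  unfold sim
  split_ifs with h hS
  · simp only [deg, hgtJ, hgt, Sum.elim_inl, Sum.elim_inr]; push_cast; ring
  · simp only [deg, hgtJ, hgt, Sum.elim_inl]; omega
  · simp only [deg, hgtJ, hgt, Sum.elim_inl, Sum.elim_inr]; omega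

theorem pos_sim (k : Fin m) : Pos (sim fr hm k) := by unfold Pos; rw [deg_sim]; omega

/-- only the simple root changes sign -/
theorem flip_pos (hsub : ∀ x y : S, x = y) {σq : Root S m} (q α : Root S m) (hα : deg α = 1) (hq : Pos q)
    (hσ : σq.1 = (rSwap α q.1.1, Sum.map id (rSwap α) q.1.2)) (hn : ¬ Pos σq) :
    q = α ∨ ∃ b, ∃ h : α.1.2 = Sum.inr b, q = α.flipPair b h := by
  unfold Pos at hq hn
  obtain ⟨⟨a, j⟩, a1, a2⟩ := α
  obtain ⟨⟨x, y⟩, x1, x2⟩ := q
  rcases j with s | b
  · have ha : hgt S a = 1 := by simpa [deg, hgtJ] using hα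
    have hd : ∀ z : Idx m, hgt S (rSwap ⟨(a, Sum.inl s), a1, a2⟩ z) =
        if z = a then -1 else if z = a.swap then 1 else hgt S z := by
      intro z
      simp only [rSwap, Equiv.swap_apply_def]
      split_ifs <;> simp_all [hgt_swap]
    left
    rcases y with s' | y
    · have h0 := hgt_ne_of_short s x
      simp only [deg, hgtJ, Sum.elim_inl, hσ, Sum.map_inl, id_eq, hd] at hq hn
      refine Subtype.ext (Prod.ext ?_ ?_)
      · show x = a
        by_contra hxa
        rw [if_neg hxa] at hn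
        split_ifs at hn with h <;> omega
      · show Sum.inl s' = Sum.inl s
        rw [hsub s' s]
    · exfalso
      simp only [deg, hgtJ, Sum.elim_inr, hσ, Sum.map_inr, hd] at hq hn
      have hy := hgt_ne_of_short s y
      have hx := hgt_ne_of_short s x
      have hyx : y ≠ x := fun e => x1 (by rw [e])
      have hyx' : y ≠ x.swap := fun e => x2 (by rw [e])
      have sw := hgt_swap (S := S) a
      by_cases ex : x = a
      · subst ex
        rw [if_pos rfl, if_neg hyx, if_neg hyx'] at hn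
        rcases hgt_eq (S := S) (a := y) (b := x) (by omega) with e | ⟨e, -⟩
        · exact hyx e
        · exact hy e
      by_cases ey : y = a
      · subst ey
        rw [if_neg ex, if_pos rfl, if_neg (fun e => hyx' (by rw [e, Sum.swap_swap]))] at hn
        rcases hgt_eq (S := S) (a := x) (b := y) (by omega) with e | ⟨e, -⟩
        · exact ex e
        · exact hx e
      rw [if_neg ex, if_neg ey] at hn
      split_ifs at hn with e1 e2 e2
      · omega
      · rw [e1] at hq; omega
      · rw [e2] at hq; omega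
      · omega
  · have ha : hgt S a + hgt S b = 1 := by simpa [deg, hgtJ] using hα
    have hab : b ≠ a := fun e => a1 (by rw [e])
    have hab' : b ≠ a.swap := fun e => a2 (by rw [e])
    have hd : ∀ z : Idx m, hgt S (rSwap ⟨(a, Sum.inr b), a1, a2⟩ z) =
        if z = a ∨ z = b then hgt S z - 1 else if z = a.swap ∨ z = b.swap then hgt S z + 1 else hgt S z := by
      intro z
      have hna := idx_swap_ne a
      have hnb := idx_swap_ne b
      have hb'a : b.swap ≠ a := fun e => hab' (by rw [← e, Sum.swap_swap])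
      have hb'a' : b.swap ≠ a.swap := fun e => hab (Sum.swap_leftInverse.injective e)
      have ea := hgt_swap (S := S) a
      have eb := hgt_swap (S := S) b
      show hgt S ((Equiv.swap a b.swap * Equiv.swap b a.swap) z) = _
      rw [Equiv.Perm.mul_apply]
      by_cases z1 : z = a
      · subst z1
        rw [if_pos (Or.inl rfl), Equiv.swap_apply_of_ne_of_ne hab.symm hna.symm, Equiv.swap_apply_left]
        omega
      by_cases z2 : z = b
      · subst z2
        rw [if_pos (Or.inr rfl), Equiv.swap_apply_left, Equiv.swap_apply_of_ne_of_ne hna hb'a'.symm]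
        omega
      rw [if_neg (by tauto)]
      by_cases z3 : z = a.swap
      · subst z3
        rw [if_pos (Or.inl rfl), Equiv.swap_apply_right, Equiv.swap_apply_of_ne_of_ne hab hnb.symm]
        omega
      by_cases z4 : z = b.swap
      · subst z4
        rw [if_pos (Or.inr rfl), Equiv.swap_apply_of_ne_of_ne hnb hb'a', Equiv.swap_apply_right]
        omega
      rw [if_neg (by tauto), Equiv.swap_apply_of_ne_of_ne z2 z3, Equiv.swap_apply_of_ne_of_ne z1 z4]
    rcases y with s' | y
    · exfalso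
      simp only [deg, hgtJ, Sum.elim_inl, hσ, Sum.map_inl, id_eq, hd] at hq hn
      have h1 := hgt_ne_of_short s' a
      have h2 := hgt_ne_of_short s' b
      split_ifs at hn with e1 e2
      · rcases e1 with rfl | rfl
        · omega
        · omega
      · omega
      · omega
    · simp only [deg, hgtJ, Sum.elim_inr, hσ, Sum.map_inr, hd] at hq hn
      have hxy : y ≠ x := fun e => x1 (by rw [e])
      by_cases ex : x = a ∨ x = b <;> by_cases ey : y = a ∨ y = b
      · rcases ex with rfl | rfl <;> rcases ey with rfl | rfl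
        · exact absurd rfl hxy
        · exact Or.inl rfl
        · exact Or.inr ⟨_, rfl, rfl⟩
        · exact absurd rfl hxy
      · exfalso
        rw [if_pos ex, if_neg ey] at hn
        split_ifs at hn with e2
        · omega
        · rcases ex with rfl | rfl
          · rcases hgt_eq (S := S) (a := y) (b := b) (by omega) with e | ⟨-, e⟩
            · exact ey (Or.inr e)
            · exact e2 (Or.inr (by rw [e, Sum.swap_swap]))
          · rcases hgt_eq (S := S) (a := y) (b := a) (by omega) with e | ⟨-, e⟩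
            · exact ey (Or.inl e)
            · exact e2 (Or.inl (by rw [e, Sum.swap_swap]))
      · exfalso
        rw [if_neg ex, if_pos ey] at hn
        split_ifs at hn with e2
        · omega
        · rcases ey with rfl | rfl
          · rcases hgt_eq (S := S) (a := x) (b := b) (by omega) with e | ⟨-, e⟩
            · exact ex (Or.inr e)
            · exact e2 (Or.inr (by rw [e, Sum.swap_swap]))
          · rcases hgt_eq (S := S) (a := x) (b := a) (by omega) with e | ⟨-, e⟩
            · exact ex (Or.inl e)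
            · exact e2 (Or.inl (by rw [e, Sum.swap_swap]))
      · exfalso
        rw [if_neg ex, if_neg ey] at hn
        split_ifs at hn <;> omega

/-- action of a simple reflection on roots -/
def sperm (k : Fin m) : Equiv.Perm (Root S m) :=
  Function.Involutive.toPerm (fun q => q.move (rSwap (sim fr hm k)) (rSwap_swap _)) fun q =>
    Subtype.ext (Prod.ext (rSwap_invol _ _) (by
      show Sum.map id (rSwap (sim fr hm k)) (Sum.map id (rSwap (sim fr hm k)) q.1.2) = q.1.2
      rcases q.1.2 with s | b <;> simp [rSwap_invol]))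

theorem sperm_flip (k : Fin m) (q : Root S m) (hq : Pos q) (hn : ¬ Pos (sperm fr hm k q)) :
    q = sim fr hm k ∨ ∃ b, ∃ h : (sim fr hm k).1.2 = Sum.inr b, q = (sim fr hm k).flipPair b h :=
  flip_pos fr.sub q _ (deg_sim fr hm k) hq rfl hn

theorem triple (q : Root S m) :
    (ι Q (fr.e (Sum.inr q.1.1)) * ι Q (fr.e q.1.2)) * -(ι Q (fr.e (Sum.inr q.1.1.swap)) * ι Q (fr.e (swapJ q.1.2))) *
      (ι Q (fr.e (Sum.inr q.1.1)) * ι Q (fr.e q.1.2)) = ι Q (fr.e (Sum.inr q.1.1)) * ι Q (fr.e q.1.2) := by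
  obtain ⟨u, hu⟩ : ∃ u, u = ι Q (fr.e (Sum.inr q.1.1)) := ⟨_, rfl⟩
  obtain ⟨u', hu'⟩ : ∃ u, u = ι Q (fr.e (Sum.inr q.1.1.swap)) := ⟨_, rfl⟩
  obtain ⟨v, hv⟩ : ∃ u, u = ι Q (fr.e q.1.2) := ⟨_, rfl⟩
  obtain ⟨v', hv'⟩ : ∃ u, u = ι Q (fr.e (swapJ q.1.2)) := ⟨_, rfl⟩
  rw [← hu, ← hu', ← hv, ← hv']
  have n1 : q.1.2 ≠ swapJ (Sum.inr q.1.1.swap) := by simpa [swapJ] using q.2.1
  have n2 : swapJ q.1.2 ≠ swapJ (Sum.inr q.1.1) := fun e =>
    q.2.1 (by rw [← swapJ_swapJ q.1.2, e, swapJ_swapJ])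
  have a1 : v * u' = -(u' * v) := by
    rw [hv, hu', ι_mul_ι_comm, polar_comm, polar_e, if_neg n1, map_zero, zero_sub]
  have a2 : v' * u = -(u * v') := by
    rw [hv', hu, ι_mul_ι_comm, polar_comm, polar_e, if_neg n2, map_zero, zero_sub]
  have uu : u * u' * u = u := by
    rw [mul_assoc, hu, hu', ι_mul_ι_comm, polar_e, if_pos (by simp [swapJ]), mul_sub, ← mul_assoc, ι_sq_scalar,
      fr.sing, map_zero, zero_mul, sub_zero]
    simp [nu]
  have vv : v * v' * v = v := by
    rcases hj : q.1.2 with s | b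
    · rw [hv, hv', hj]; simp [swapJ, ι_sq_scalar, fr.qs]
    · rw [mul_assoc, hv, hv', hj, ι_mul_ι_comm, polar_e, if_pos (by simp [swapJ]), mul_sub, ← mul_assoc,
        ι_sq_scalar, fr.sing, map_zero, zero_mul, sub_zero]
      simp [nu, swapJ]
  calc u * v * -(u' * v') * (u * v) = -(u * (v * u') * (v' * u) * v) := by simp only [mul_neg, neg_mul, mul_assoc]
    _ = -(u * u' * (v * u) * (v' * v)) := by rw [a1, a2]; simp only [mul_neg, neg_mul, neg_neg, mul_assoc]
    _ = u * u' * u * (v * v' * v) := by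
      rw [show v * u = -(u * v) by
        rw [hv, hu, ι_mul_ι_comm, polar_comm, perp_root, map_zero, zero_sub]]
      simp only [mul_neg, neg_mul, neg_neg, mul_assoc]
    _ = u * v := by rw [uu, vv]

theorem triple' (q : Root S m) :
    -(ι Q (fr.e (Sum.inr q.1.1.swap)) * ι Q (fr.e (swapJ q.1.2))) * (ι Q (fr.e (Sum.inr q.1.1)) * ι Q (fr.e q.1.2)) *
      -(ι Q (fr.e (Sum.inr q.1.1.swap)) * ι Q (fr.e (swapJ q.1.2))) =
    -(ι Q (fr.e (Sum.inr q.1.1.swap)) * ι Q (fr.e (swapJ q.1.2))) := by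
  have := triple fr q.neg
  simp only [Root.neg, Sum.swap_swap, swapJ_swapJ] at this
  obtain ⟨X, hX⟩ : ∃ X, X = ι Q (fr.e (Sum.inr q.1.1)) * ι Q (fr.e q.1.2) := ⟨_, rfl⟩
  obtain ⟨Y, hY⟩ : ∃ Y, Y = ι Q (fr.e (Sum.inr q.1.1.swap)) * ι Q (fr.e (swapJ q.1.2)) := ⟨_, rfl⟩
  rw [← hX, ← hY] at this ⊢
  conv_rhs => rw [← this]
  simp only [mul_neg, neg_mul, neg_neg]

theorem sq_zero (q : Root S m) :
    ι Q (fr.e (Sum.inr q.1.1)) * ι Q (fr.e q.1.2) * (ι Q (fr.e (Sum.inr q.1.1)) * ι Q (fr.e q.1.2)) = 0 :=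
  pair_sq (fr.sing _) (perp_root fr q)

/-- value of a coroot element -/
theorem val_cor (q : Root S m) {c : F} (hc : c ≠ 0) :
    let P := ι Q (fr.e (Sum.inr q.1.1)) * ι Q (fr.e q.1.2)
    let P' := -(ι Q (fr.e (Sum.inr q.1.1.swap)) * ι Q (fr.e (swapJ q.1.2)))
    val fr (cor fr q c) = 1 - P * P' - P' * P + c • (P * P') + c⁻¹ • (P' * P) := by
  intro P P'
  have hP : P * P = 0 := sq_zero fr q
  have hP' : P' * P' = 0 := by rw [neg_mul_neg]; exact sq_zero fr q.neg
  have h1 : P * P' * P = P := triple fr q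
  have h2 : P' * P * P' = P' := triple' fr q
  refine Eq.trans ?_ (torus_val hP hP' h1 h2 hc)
  simp only [cor, nt, val_mul, val_rt, Units.val_mul, oneAdd_val, Root.neg, P, P', smul_neg, neg_neg, neg_smul]

theorem cor_mul (q : Root S m) {a b : F} (ha : a ≠ 0) (hb : b ≠ 0) : cor fr q a * cor fr q b = cor fr q (a * b) := by
  refine ext_val fr ?_
  rw [val_mul, val_cor fr q ha, val_cor fr q hb, val_cor fr q (mul_ne_zero ha hb)]
  exact torus_mul_val (sq_zero fr q) (by rw [neg_mul_neg]; exact sq_zero fr q.neg) (triple fr q) (triple' fr q) a b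

/-- positive roots staying positive -/
def Uk (k : Fin m) : Subgroup (Spin fr) :=
  Subgroup.closure {g | ∃ q t, Pos q ∧ Pos (sperm fr hm k q) ∧ g = rt fr q t}

theorem Up_two_le (k : Fin m) : Up fr 2 ≤ Uk fr hm k := by
  refine Subgroup.closure_mono ?_
  rintro _ ⟨q, t, h1, h2, rfl⟩
  refine ⟨q, t, h1, by_contra fun hn => ?_, rfl⟩
  rcases sperm_flip fr hm k q h1 hn with rfl | ⟨b, h, rfl⟩
  · rw [deg_sim] at h2; omega
  · rw [deg_flipPair, deg_sim] at h2; omega

theorem Uk_conj (k : Fin m) (c : F) {w : Spin fr} (hw : w ∈ Uk fr hm k) :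
    rt fr (sim fr hm k) c * w * (rt fr (sim fr hm k) c)⁻¹ ∈ Uk fr hm k := by
  have : Uk fr hm k ≤ (Uk fr hm k).comap (MulAut.conj (rt fr (sim fr hm k) c)).toMonoidHom := by
    refine (Subgroup.closure_le _).2 ?_
    rintro _ ⟨q, t, h1, h2, rfl⟩
    show rt fr (sim fr hm k) c * rt fr q t * (rt fr (sim fr hm k) c)⁻¹ ∈ Uk fr hm k
    rw [show rt fr (sim fr hm k) c * rt fr q t * (rt fr (sim fr hm k) c)⁻¹ =
      ⁅rt fr (sim fr hm k) c, rt fr q t⁆ * rt fr q t by rw [commutatorElement_def]; group]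
    refine mul_mem (Up_two_le fr hm k (Up_anti fr ?_ (comm_mem_Up fr _ q (pos_sim fr hm k) h1 c t)))
      (Subgroup.subset_closure ⟨q, t, h1, h2, rfl⟩)
    rw [deg_sim]; omega
  exact this hw

theorem Up_decomp (k : Fin m) {u : Spin fr} (hu : u ∈ Up fr 1) :
    ∃ w ∈ Uk fr hm k, ∃ c, u = w * rt fr (sim fr hm k) c := by
  induction hu using Subgroup.closure_induction with
  | one => exact ⟨1, one_mem _, 0, by rw [rt_zero, mul_one]⟩
  | mem a ha =>
    obtain ⟨q, t, h1, -, rfl⟩ := ha
    by_cases hp : Pos (sperm fr hm k q)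
    · exact ⟨rt fr q t, Subgroup.subset_closure ⟨q, t, h1, hp, rfl⟩, 0, by rw [rt_zero, mul_one]⟩
    rcases sperm_flip fr hm k q h1 hp with rfl | ⟨b, h, rfl⟩
    · exact ⟨1, one_mem _, t, by rw [one_mul]⟩
    · exact ⟨1, one_mem _, -t, by rw [one_mul, rt_flipPair]⟩
  | mul a b _ _ ha hb =>
    obtain ⟨w, hw, c, rfl⟩ := ha
    obtain ⟨w', hw', c', rfl⟩ := hb
    refine ⟨w * (rt fr (sim fr hm k) c * w' * (rt fr (sim fr hm k) c)⁻¹), mul_mem hw (Uk_conj fr hm k c hw'), c + c', ?_⟩
    rw [← rt_add]; group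
  | inv a _ ha =>
    obtain ⟨w, hw, c, rfl⟩ := ha
    refine ⟨rt fr (sim fr hm k) (-c) * w⁻¹ * (rt fr (sim fr hm k) (-c))⁻¹, Uk_conj fr hm k _ (inv_mem hw), -c, ?_⟩
    rw [rt_neg]; group

theorem Up_le_Lvl : Up fr 1 ≤ Lvl fr 1 :=
  (Subgroup.closure_le _).2 (by rintro _ ⟨q, t, h1, h2, rfl⟩; exact rt_mem_Lvl fr q h1 t (by simpa using h2))

theorem nt_not_mem {q : Root S m} (hq : Pos q) {t : F} (ht : t ≠ 0) : nt fr q t ∉ Up fr 1 := fun hmem => by
  have h := (Up_le_Lvl fr hmem).1 (Sum.inr q.1.1) (swapJ q.1.2) (by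
    show hgtJ (swapJ q.1.2) < hgt S q.1.1 + 1
    rw [hgtJ_swap]; unfold Pos deg at hq; omega)
  have n0 : (Sum.inr q.1.1 : S ⊕ Idx m) ≠ q.1.2 := Ne.symm q.2.1
  have n1 : (Sum.inr q.1.1.swap : S ⊕ Idx m) ≠ swapJ q.1.2 := fun e =>
    q.2.1 (by rw [← swapJ_swapJ q.1.2, ← e]; simp [swapJ])
  simp [nt, ap_rt, Root.neg, polar_e, swapJ_swapJ, nu, Finsupp.single_apply, n0, n1] at h
  rcases hj : q.1.2 with s | b <;> simp_all [swapJ, nu, fr.sing]

theorem weyl_conj_self (α : Root S m) {c : F} (hc : c ≠ 0) (t : F) :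
    rt fr α c * nt fr α (-c⁻¹) * rt fr α c * rt fr α t * (rt fr α c * nt fr α (-c⁻¹) * rt fr α c)⁻¹ =
      nt fr α (-t / c ^ 2) := by
  rw [(isMon_weyl fr α hc).conj_rt]
  show _ = rt fr α.neg (-(-t / c ^ 2))
  obtain ⟨⟨a, j⟩, a1, a2⟩ := α
  have hna := idx_swap_ne a
  rcases j with s | b
  · convert rfl using 2
    · exact Subtype.ext (Prod.ext (by simp [Root.neg, Root.move, rSwap]) (by simp [Root.neg, Root.move, swapJ]))
    · simp [rD]; field_simp
  · have hab : b ≠ a := fun e => a1 (by rw [e])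
    have hab' : b ≠ a.swap := fun e => a2 (by rw [e])
    rw [rt_swap fr (q := Root.neg ⟨(a, Sum.inr b), a1, a2⟩)]
    · congr 1
      simp [rD, hab, hab.symm]
      field_simp
    · simp only [Root.neg, Root.move, Sum.map_inr, rSwap, Equiv.Perm.mul_apply, Equiv.swap_apply_def, Sum.inr.injEq]
      split_ifs <;> grind [Sum.swap_swap, idx_swap_ne]
    · simp only [Root.neg, Root.move, swapJ, Sum.map_inr, rSwap, Equiv.Perm.mul_apply, Equiv.swap_apply_def,
        Sum.inr.injEq]
      split_ifs <;> grind [Sum.swap_swap, idx_swap_ne]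

/-- root system data -/
def spinSys (p : ℕ) [CharP F p] : RootLift.Sys (Spin fr) F p (Root S m) (Fin m) where
  U := Up fr 1
  s := sperm fr hm
  s_sq k a := (Function.Involutive.toPerm_involutive _) a
  pos := Pos
  sim := sim fr hm
  pos_sim := pos_sim fr hm
  R := rt fr
  N := nt fr
  R_add := rt_add fr
  N_add q t u := by simp only [nt, rt_add]; congr 1; ring
  R_mem q t h := rt_mem_Up fr h h t
  N_mem q t h := by
    have h0 := deg_ne q
    unfold Pos at h
    exact rt_mem_Up fr (by unfold Pos; rw [deg_neg]; omega) (by rw [deg_neg]; omega) _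
  N_not q t h ht := nt_not_mem fr h ht
  conj_n k c hc q := by
    have h := isMon_weyl fr (sim fr hm k) hc
    exact ⟨_, mul_ne_zero (h.d_ne _) (h.d_ne _), fun t => h.conj_rt q t, fun t => h.conj_nt q t⟩
  n_R k c hc t := weyl_conj_self fr (sim fr hm k) hc t
  flip k q h1 h2 := by
    rcases sperm_flip fr hm k q h1 h2 with rfl | ⟨b, h, rfl⟩
    · exact ⟨1, one_ne_zero, fun t => by rw [one_mul], fun t => by rw [div_one]⟩
    · refine ⟨-1, neg_ne_zero.2 one_ne_zero, fun t => by rw [rt_flipPair]; ring_nf, fun t => ?_⟩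
      simp only [nt]
      rw [rt_swap fr (q := (sim fr hm k).neg)]
      · congr 1; ring
      · simp [Root.neg, Root.flipPair, swapJ]
      · simp [Root.neg, Root.flipPair, h, swapJ]
  h_mul k a b ha hb := cor_mul fr (sim fr hm k) ha hb
  split k u hu := by
    obtain ⟨w, hw, c0, rfl⟩ := Up_decomp fr hm k hu
    refine ⟨-c0, fun c hc => ?_⟩
    rw [mul_assoc w, rt_add, add_neg_cancel, rt_zero, mul_one]
    obtain ⟨n, hn⟩ : ∃ n, n = rt fr (sim fr hm k) c * nt fr (sim fr hm k) (-c⁻¹) * rt fr (sim fr hm k) c :=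
      ⟨_, rfl⟩
    rw [← hn]
    have h := hn ▸ isMon_weyl fr (sim fr hm k) hc
    have : Uk fr hm k ≤ (Up fr 1).comap (MulAut.conj n).toMonoidHom := by
      refine (Subgroup.closure_le _).2 ?_
      rintro _ ⟨q, t, h1, h2, rfl⟩
      show n * rt fr q t * n⁻¹ ∈ Up fr 1
      rw [h.conj_rt]
      exact rt_mem_Up fr h2 h2 _
    exact this hw

end

end CfsgLib.Known.SpinMult
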