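import Cfsg.Agent.Lib.Known.SpinMult.Big

/-!
# Separating torus elements over the field with three elements
-/

set_option autoImplicit false
set_option linter.unusedSectionVars false

namespace CfsgLib.Known.SpinMult

noncomputable section

open QuadraticMap CfsgLib.Classical.Quad CfsgLib.Known.SympMult
open scoped commutatorElement

variable {F : Type*} [Field F] {V : Type*} [AddCommGroup V] [Module F V] {Q : QuadraticForm F V} {m : ℕ}
  {S : Type} [Fintype S] [DecidableEq S] {fr : Frame Q m S}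

/-- weights changing two coordinates by a sign -/
def dFlip (S : Type) {m : ℕ} (i j : Fin m) : S ⊕ Idx m → F :=
  Sum.elim (fun _ => 1) fun x => if und x = i ∨ und x = j then -1 else 1

variable (fr) in
theorem exists_flip {i j : Fin m} (hij : i ≠ j) : ∃ T, IsTor fr T (dFlip S i j) := by
  obtain ⟨q, hq⟩ : ∃ q : Root S m, q.1 = (Sum.inl i, Sum.inr (Sum.inl j)) :=
    ⟨⟨(Sum.inl i, Sum.inr (Sum.inl j)), by simp [hij.symm], by simp⟩, rfl⟩
  refine ⟨cor fr q (-1), ?_⟩
  convert isTor_cor (fr := fr) q (neg_ne_zero.2 (one_ne_zero (α := F))) using 1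
  funext x
  rcases x with s | (x | x)
  · simp [dFlip, hD, hq]
  · rcases eq_or_ne x i with rfl | hxi
    · simp [dFlip, hD, hq, und]
    rcases eq_or_ne x j with rfl | hxj
    · simp [dFlip, hD, hq, und]
    · simp [dFlip, hD, hq, und, hxi, hxj]
  · rcases eq_or_ne x i with rfl | hxi
    · simp [dFlip, hD, hq, und]
    rcases eq_or_ne x j with rfl | hxj
    · simp [dFlip, hD, hq, und]
    · simp [dFlip, hD, hq, und, hxi, hxj]

theorem lam_flip_out {i j : Fin m} {q : Root S m} (hi : ¬ In i q) (hj : ¬ In j q) :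
    lam (dFlip S i j) q = (1 : F) := by
  simp only [In, not_or, not_exists, not_and] at hi hj
  rcases hb : q.1.2 with s | b
  · simp [lam, dFlip, hb, hi.1, hj.1]
  · simp [lam, dFlip, hb, hi.1, hj.1, hi.2 b hb, hj.2 b hb]

theorem lam_flip_in {i j : Fin m} (h2 : (2 : F) ≠ 0) {q : Root S m} (hi : In i q) (hj : ¬ In j q) :
    lam (dFlip S i j) q ≠ (1 : F) := by
  have hne : (-1 : F) ≠ 1 := fun e => h2 (by linear_combination -e)
  simp only [In, not_or, not_exists, not_and] at hj
  rcases hb : q.1.2 with s | b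
  · rcases hi with h | ⟨b', hb', -⟩
    · simpa [lam, dFlip, hb, h] using hne
    · rw [hb] at hb'; simp at hb'
  · rcases hi with h | ⟨b', hb', h⟩
    · have := root_und q hb
      rw [h] at this
      simpa [lam, dFlip, hb, h, this.symm, hj.2 b hb] using hne
    · rw [hb] at hb'; simp at hb'; subst hb'
      have := root_und q hb
      rw [h] at this
      simpa [lam, dFlip, hb, h, this, hj.1] using hne

theorem exists_outside (s : Finset (Fin m)) (hs : s.card < m) : ∃ j, j ∉ s := by
  obtain ⟨j, -, hj⟩ := Finset.exists_mem_notMem_of_card_lt_card (t := Finset.univ) (s := s) (by simpa using hs)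
  exact ⟨j, hj⟩

/-- coordinates of a root -/
def supp (q : Root S m) : Finset (Fin m) :=
  match q.1.2 with
  | .inl _ => {und q.1.1}
  | .inr b => {und q.1.1, und b}

theorem mem_supp {i : Fin m} {q : Root S m} : i ∈ supp q ↔ In i q := by
  rcases hb : q.1.2 with s | b
  · simp [supp, In, hb, eq_comm]
  · simp [supp, In, hb, eq_comm]

theorem card_supp (q : Root S m) : (supp q).card ≤ 2 := by
  rcases hb : q.1.2 with s | b <;> simp only [supp, hb]
  · simp
  · exact Finset.card_le_two

variable {Γ : Type*} [Group Γ] {π : Γ →* Spin fr} (C : CExt π)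

theorem sep_three (h2 : (2 : F) ≠ 0) (hm : 4 ≤ m) {q r : Root S m} {i : Fin m} (hq : In i q) (hr : ¬ In i r)
    (hsmall : (supp q ∪ supp r).card < m) : ∃ T d, IsTor fr T d ∧ lam d r = 1 ∧ lam d q ≠ 1 := by
  obtain ⟨j, hj⟩ := exists_outside _ hsmall
  simp only [Finset.mem_union, mem_supp, not_or] at hj
  obtain ⟨T, hT⟩ := exists_flip fr (i := i) (j := j) fun e => hj.1 (e ▸ hq)
  exact ⟨T, _, hT, lam_flip_out hr hj.2, lam_flip_in h2 hq hj.1⟩

variable (hF : ∀ r : F, r = 0 ∨ r = 1 ∨ r = -1)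
include hF

theorem cm_inv_left {g h : Spin fr} (hc : Commute g h) : C.cm g⁻¹ h = (C.cm g h)⁻¹ := by
  have := C.cm_add_left (g := g⁻¹) (g' := g) (h := h) hc
  rw [inv_mul_cancel, C.cm_one_left] at this
  exact (inv_eq_of_mul_eq_one_right this.symm).symm

theorem cmt_of_one {q r : Root S m} (hc : ∀ t u, Commute (rt fr q t) (rt fr r u))
    (h : C.cm (rt fr q 1) (rt fr r 1) = 1) : Cmt C q r := by
  have hl : ∀ t, C.cm (rt fr q t) (rt fr r 1) = 1 := fun t => by
    rcases hF t with rfl | rfl | rfl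
    · rw [rt_zero, C.cm_one_left]
    · exact h
    · rw [rt_neg, cm_inv_left C hF (hc 1 1), h, inv_one]
  intro t u
  rcases hF u with rfl | rfl | rfl
  · rw [rt_zero, C.cm_one_right]
  · exact hl t
  · rw [rt_neg, ← C.cm_inv, inv_eq_one, cm_inv_left C hF (hc t 1).symm, ← C.cm_inv, inv_inv]
    exact hl t

theorem cmt_cyclic (q : Root S m) : Cmt C q q :=
  cmt_of_one C hF (commute_self fr q) (by
    rw [← C.comm_eq (C.σ_lf (rt fr q 1)) (C.σ_lf (rt fr q 1)), commutatorElement_self])

theorem cmt_swap (hsqrt : Function.Bijective fun z : π.ker => z ^ 2) {q r : Root S m}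
    (hc : ∀ t u, Commute (rt fr q t) (rt fr r u)) {n : Spin fr} {s : F} (hs : s = 1 ∨ s = -1)
    (h1 : ∀ t, n * rt fr q t * n⁻¹ = rt fr r (s * t)) (h2 : ∀ t, n * rt fr r t * n⁻¹ = rt fr q (s * t)) :
    Cmt C q r := by
  refine cmt_of_one C hF hc ?_
  have h := C.cm_conj_eq (hc 1 1) n
  rw [h1, h2, mul_one, ← C.cm_inv] at h
  have hq : C.cm (rt fr q s) (rt fr r s) = C.cm (rt fr q 1) (rt fr r 1) := by
    rcases hs with rfl | rfl
    · rfl
    · rw [rt_neg, rt_neg, cm_inv_left C hF ((hc 1 1).inv_right), ← C.cm_inv, inv_inv,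
        cm_inv_left C hF (hc 1 1).symm, C.cm_inv]
  rw [hq] at h
  have hk : (⟨C.cm (rt fr q 1) (rt fr r 1), C.cm_central (hc 1 1)⟩ : π.ker) ^ 2 = 1 ^ 2 := by
    refine Subtype.ext ?_
    simp only [SubgroupClass.coe_pow, OneMemClass.coe_one, one_pow]
    conv_lhs => rw [pow_two]; arg 1; rw [← h]
    rw [inv_mul_cancel]
  exact congrArg Subtype.val (hsqrt.1 hk)

theorem three_same (hm : 3 ≤ m) (hsqrt : Function.Bijective fun z : π.ker => z ^ 2) (q r : Root S m)
    (a b : Idx m) (hq : q.1 = (a, Sum.inr b)) (hr : r.1 = (a, Sum.inr b.swap)) : Cmt C q r := by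
  have hab : b ≠ a := fun e => q.2.1 (by rw [hq, e])
  have hab' : b ≠ a.swap := fun e => q.2.2 (by rw [hq, e])
  obtain ⟨e, e1, e2, e3, e4⟩ := exists_third hm a b
  obtain ⟨P, hP⟩ : ∃ P : Root S m, P.1 = (b, Sum.inr e) :=
    ⟨⟨(b, Sum.inr e), by simpa using e3, by simpa using e4⟩, rfl⟩
  obtain ⟨R, hR⟩ : ∃ P : Root S m, P.1 = (b, Sum.inr e.swap) :=
    ⟨⟨(b, Sum.inr e.swap), by simp; exact fun h => e4 (by rw [← h, Sum.swap_swap]),
      by simp; exact fun h => e3 (Sum.swap_leftInverse.injective h)⟩, rfl⟩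
  have hmon := (isMon_weyl fr P (one_ne_zero (α := F))).mul (isMon_weyl fr R (one_ne_zero (α := F)))
  have hna := idx_swap_ne a
  have hnb := idx_swap_ne b
  have hne := idx_swap_ne e
  have f1 : a ≠ b.swap := fun h => hab' (by rw [h, Sum.swap_swap])
  have f2 : b.swap ≠ a.swap := fun h => hab (Sum.swap_leftInverse.injective h)
  have f3 : e.swap ≠ a := fun h => e2 (by rw [← h, Sum.swap_swap])
  have f4 : e.swap ≠ b := fun h => e4 (by rw [← h, Sum.swap_swap])
  have f5 : e.swap ≠ b.swap := fun h => e3 (Sum.swap_leftInverse.injective h)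
  refine cmt_swap C hF hsqrt (commute_same fr q r hq hr) (n := rt fr P 1 * nt fr P (-1⁻¹) * rt fr P 1 *
    (rt fr R 1 * nt fr R (-1⁻¹) * rt fr R 1)) (s := -1) (Or.inr rfl) (fun t => ?_) (fun t => ?_)
  all_goals rw [hmon.conj_rt]
  · have h1 : q.move (rSwap P * rSwap R) hmon.1 = r := by
      refine Subtype.ext (Prod.ext ?_ ?_) <;>
        simp [Root.move, hq, hr, rSwap, hP, hR, Equiv.swap_apply_def, hab, hab.symm, hab', hab'.symm, e1, e1.symm,
          e2, e2.symm, e3, e3.symm, e4, e4.symm, hna, hna.symm, hnb, hnb.symm, hne, hne.symm, f1, f1.symm, f2,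
          f2.symm, f3, f3.symm, f4, f4.symm, f5, f5.symm]
    rw [h1]
    congr 1
    simp [hq, rD, rSwap, hP, hR, Equiv.swap_apply_def, hab, hab.symm, hab', hab'.symm, e1, e1.symm,
      e2, e2.symm, e3, e3.symm, e4, e4.symm, hna, hna.symm, hnb, hnb.symm, hne, hne.symm, f1, f1.symm, f2,
      f2.symm, f3, f3.symm, f4, f4.symm, f5, f5.symm]
  · have h1 : r.move (rSwap P * rSwap R) hmon.1 = q := by
      refine Subtype.ext (Prod.ext ?_ ?_) <;>
        simp [Root.move, hq, hr, rSwap, hP, hR, Equiv.swap_apply_def, hab, hab.symm, hab', hab'.symm, e1, e1.symm,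
          e2, e2.symm, e3, e3.symm, e4, e4.symm, hna, hna.symm, hnb, hnb.symm, hne, hne.symm, f1, f1.symm, f2,
          f2.symm, f3, f3.symm, f4, f4.symm, f5, f5.symm]
    rw [h1]
    congr 1
    simp [hr, rD, rSwap, hP, hR, Equiv.swap_apply_def, hab, hab.symm, hab', hab'.symm, e1, e1.symm,
      e2, e2.symm, e3, e3.symm, e4, e4.symm, hna, hna.symm, hnb, hnb.symm, hne, hne.symm, f1, f1.symm, f2,
      f2.symm, f3, f3.symm, f4, f4.symm, f5, f5.symm]

theorem three_disjoint (hsqrt : Function.Bijective fun z : π.ker => z ^ 2) (q r : Root S m)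
    {a b c d : Idx m} (hq : q.1 = (a, Sum.inr b)) (hr : r.1 = (c, Sum.inr d)) (hac : und a ≠ und c)
    (had : und a ≠ und d) (hbc : und b ≠ und c) (hbd : und b ≠ und d)
    (hc : ∀ t u, Commute (rt fr q t) (rt fr r u)) : Cmt C q r := by
  have hab : und a ≠ und b := by have := root_und q (b := b) (by rw [hq]); rwa [hq] at this
  have hcd : und c ≠ und d := by have := root_und r (b := d) (by rw [hr]); rwa [hr] at this
  have sep : ∀ {x y : Idx m}, und x ≠ und y → x ≠ y ∧ x ≠ y.swap ∧ x.swap ≠ y ∧ x.swap ≠ y.swap :=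
    fun {x y} h => ⟨fun e => h (by rw [e]), fun e => h (by rw [e, und_swap]),
      fun e => h (by rw [← e, und_swap]), fun e => h (by rw [← und_swap x, e, und_swap])⟩
  obtain ⟨u1, u2, u3, u4⟩ := sep hac
  obtain ⟨v1, v2, v3, v4⟩ := sep had
  obtain ⟨w1, w2, w3, w4⟩ := sep hbc
  obtain ⟨x1, x2, x3, x4⟩ := sep hbd
  obtain ⟨y1, y2, y3, y4⟩ := sep hab
  obtain ⟨z1, z2, z3, z4⟩ := sep hcd
  obtain ⟨P, hP⟩ : ∃ P : Root S m, P.1 = (a, Sum.inr c.swap) :=
    ⟨⟨(a, Sum.inr c.swap), by simpa using u2.symm, by simpa using u4.symm⟩, rfl⟩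
  obtain ⟨R, hR⟩ : ∃ P : Root S m, P.1 = (b, Sum.inr d.swap) :=
    ⟨⟨(b, Sum.inr d.swap), by simpa using x2.symm, by simpa using x4.symm⟩, rfl⟩
  have hmon := (isMon_weyl fr P (one_ne_zero (α := F))).mul (isMon_weyl fr R (one_ne_zero (α := F)))
  have na := idx_swap_ne a
  have nb := idx_swap_ne b
  have nc := idx_swap_ne c
  have nd := idx_swap_ne d
  refine cmt_swap C hF hsqrt hc (n := rt fr P 1 * nt fr P (-1⁻¹) * rt fr P 1 *
    (rt fr R 1 * nt fr R (-1⁻¹) * rt fr R 1)) (s := 1) (Or.inl rfl) (fun t => ?_) (fun t => ?_)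
  all_goals rw [hmon.conj_rt]
  · have h1 : q.move (rSwap P * rSwap R) hmon.1 = r := by
      refine Subtype.ext (Prod.ext ?_ ?_) <;>
        simp [Root.move, hq, hr, rSwap, hP, hR, Equiv.swap_apply_def, u1, u2, u3, u4, v1, v2, v3, v4, w1, w2, w3, w4,
          x1, x2, x3, x4, y1, y2, y3, y4, z1, z2, z3, z4, u1.symm, u2.symm, u3.symm, u4.symm, v1.symm, v2.symm,
          v3.symm, v4.symm, w1.symm, w2.symm, w3.symm, w4.symm, x1.symm, x2.symm, x3.symm, x4.symm, y1.symm, y2.symm,
          y3.symm, y4.symm, z1.symm, z2.symm, z3.symm, z4.symm, na, nb, nc, nd, na.symm, nb.symm, nc.symm, nd.symm]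
    rw [h1]
    congr 1
    simp [hq, rD, rSwap, hP, hR, Equiv.swap_apply_def, u1, u2, u3, u4, v1, v2, v3, v4, w1, w2, w3, w4,
          x1, x2, x3, x4, y1, y2, y3, y4, z1, z2, z3, z4, u1.symm, u2.symm, u3.symm, u4.symm, v1.symm, v2.symm,
          v3.symm, v4.symm, w1.symm, w2.symm, w3.symm, w4.symm, x1.symm, x2.symm, x3.symm, x4.symm, y1.symm, y2.symm,
          y3.symm, y4.symm, z1.symm, z2.symm, z3.symm, z4.symm, na, nb, nc, nd, na.symm, nb.symm, nc.symm, nd.symm]
  · have h1 : r.move (rSwap P * rSwap R) hmon.1 = q := by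
      refine Subtype.ext (Prod.ext ?_ ?_) <;>
        simp [Root.move, hq, hr, rSwap, hP, hR, Equiv.swap_apply_def, u1, u2, u3, u4, v1, v2, v3, v4, w1, w2, w3, w4,
          x1, x2, x3, x4, y1, y2, y3, y4, z1, z2, z3, z4, u1.symm, u2.symm, u3.symm, u4.symm, v1.symm, v2.symm,
          v3.symm, v4.symm, w1.symm, w2.symm, w3.symm, w4.symm, x1.symm, x2.symm, x3.symm, x4.symm, y1.symm, y2.symm,
          y3.symm, y4.symm, z1.symm, z2.symm, z3.symm, z4.symm, na, nb, nc, nd, na.symm, nb.symm, nc.symm, nd.symm]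
    rw [h1]
    congr 1
    simp [hr, rD, rSwap, hP, hR, Equiv.swap_apply_def, u1, u2, u3, u4, v1, v2, v3, v4, w1, w2, w3, w4,
          x1, x2, x3, x4, y1, y2, y3, y4, z1, z2, z3, z4, u1.symm, u2.symm, u3.symm, u4.symm, v1.symm, v2.symm,
          v3.symm, v4.symm, w1.symm, w2.symm, w3.symm, w4.symm, x1.symm, x2.symm, x3.symm, x4.symm, y1.symm, y2.symm,
          y3.symm, y4.symm, z1.symm, z2.symm, z3.symm, z4.symm, na, nb, nc, nd, na.symm, nb.symm, nc.symm, nd.symm]

theorem three_flat (h2 : (2 : F) ≠ 0) (hm : 4 ≤ m) (hsqrt : Function.Bijective fun z : π.ker => z ^ 2)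
    (q r : Root S m) (a1 : r.1.1 ≠ q.1.1.swap) (a2 : Sum.inr r.1.1 ≠ swapJ q.1.2)
    (b1 : r.1.2 ≠ Sum.inr q.1.1.swap) (b2 : r.1.2 ≠ swapJ q.1.2) : Cmt C q r := by
  have hcomm := commute_rt fr q r a1 a2 b1 b2
  by_cases hbig : (supp q ∪ supp r).card < m
  · by_cases h : ∃ i, In i q ∧ ¬ In i r
    · obtain ⟨i, h1, h3⟩ := h
      obtain ⟨T, d, hT, hr', hq'⟩ := sep_three (fr := fr) h2 hm h1 h3 hbig
      exact cmt_of_scale C hcomm hT hr' hq'
    by_cases h' : ∃ i, In i r ∧ ¬ In i q
    · obtain ⟨i, h1, h3⟩ := h'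
      obtain ⟨T, d, hT, hr', hq'⟩ := sep_three (fr := fr) h2 hm h1 h3 (by rwa [Finset.union_comm])
      exact (cmt_of_scale C (fun t u => (hcomm u t).symm) hT hr' hq').symm
    simp only [not_exists, not_and, not_not] at h h'
    obtain ⟨⟨a, j⟩, q1, q2⟩ := q
    obtain ⟨⟨c, k⟩, r1, r2⟩ := r
    rcases j with s | b
    · rcases k with s' | d
      · exact absurd (by simp [swapJ, fr.sub s' s]) b2
      · have e1 := h' (und c) (Or.inl rfl)
        have e2 := h' (und d) (Or.inr ⟨d, rfl, rfl⟩)
        simp [In] at e1 e2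
        exact absurd (e1.symm.trans e2) (root_und ⟨(c, Sum.inr d), r1, r2⟩ rfl)
    · rcases k with s' | d
      · have e1 := h (und a) (Or.inl rfl)
        have e2 := h (und b) (Or.inr ⟨b, rfl, rfl⟩)
        simp [In] at e1 e2
        exact absurd (e1.symm.trans e2) (root_und ⟨(a, Sum.inr b), q1, q2⟩ rfl)
      · have hcd := root_und ⟨(c, Sum.inr d), r1, r2⟩ rfl
        have ec := h' (und c) (Or.inl rfl)
        have ed := h' (und d) (Or.inr ⟨d, rfl, rfl⟩)
        simp [In] at ec ed a1 a2 b1 b2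
        simp [swapJ] at a2 b2
        have hca : und a = und c → c = a := fun e => (und_eq e).resolve_right a1
        have hcb : und b = und c → c = b := fun e => (und_eq e).resolve_right a2
        have hda : und a = und d → d = a := fun e => (und_eq e).resolve_right b1
        have hdb : und b = und d → d = b := fun e => (und_eq e).resolve_right b2
        have self := cmt_cyclic C hF ⟨(a, Sum.inr b), q1, q2⟩
        rcases ec with e | e
        · obtain rfl := hca e
          rcases ed with e' | e'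
          · exact absurd (e.symm.trans e') hcd
          · obtain rfl := hdb e'
            exact self
        · obtain rfl := hcb e
          rcases ed with e' | e'
          · obtain rfl := hda e'
            exact self.flip_right C c rfl
          · exact absurd (e.symm.trans e') hcd
  · obtain ⟨b, hb⟩ : ∃ b, q.1.2 = Sum.inr b := by
      rcases hb : q.1.2 with s | b
      · exfalso
        have := card_supp r
        have := Finset.card_union_le (supp q) (supp r)
        have : (supp q).card = 1 := by simp [supp, hb]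
        omega
      · exact ⟨b, rfl⟩
    obtain ⟨d, hd⟩ : ∃ d, r.1.2 = Sum.inr d := by
      rcases hd : r.1.2 with s | d
      · exfalso
        have := card_supp q
        have := Finset.card_union_le (supp q) (supp r)
        have : (supp r).card = 1 := by simp [supp, hd]
        omega
      · exact ⟨d, rfl⟩
    have hdis : ∀ i, In i q → ¬ In i r := fun i h1 h3 => by
      have := Finset.card_union_add_card_inter (supp q) (supp r)
      have := card_supp q
      have := card_supp r
      have : 0 < (supp q ∩ supp r).card :=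
        Finset.card_pos.2 ⟨i, Finset.mem_inter.2 ⟨mem_supp.2 h1, mem_supp.2 h3⟩⟩
      omega
    have ha := hdis (und q.1.1) (Or.inl rfl)
    have hb' := hdis (und b) (Or.inr ⟨b, hb, rfl⟩)
    simp only [In, not_or, not_exists, not_and] at ha hb'
    exact three_disjoint C hF hsqrt q r (Prod.ext rfl hb) (Prod.ext rfl hd) (Ne.symm ha.1) (Ne.symm (ha.2 d hd))
      (Ne.symm hb'.1) (Ne.symm (hb'.2 d hd)) hcomm

/-- separating data over the field with three elements -/
theorem seps_three (h2 : (2 : F) ≠ 0) (hm : 4 ≤ m) (hsqrt : Function.Bijective fun z : π.ker => z ^ 2) : Seps C := by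
  refine ⟨three_flat C hF h2 hm hsqrt, three_same C hF (by omega) hsqrt, fun q a x _ => cmt_cyclic C hF q,
    fun q => ?_, ?_, ?_, ?_⟩
  · obtain ⟨j, hj⟩ := exists_outside (supp q) (lt_of_le_of_lt (card_supp q) (by omega))
    rw [mem_supp] at hj
    obtain ⟨T, hT⟩ := exists_flip fr (i := und q.1.1) (j := j) fun e => hj (Or.inl e)
    exact ⟨T, _, hT, lam_flip_in h2 (Or.inl rfl) hj⟩
  · intro q r k a w b h1 h3 h4
    have e1 := root_und q (b := w.swap) (by rw [h1])
    have e2 := root_und k (b := b) (by rw [h4])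
    rw [h1, und_swap] at e1; rw [h4] at e2
    refine sep_three (fr := fr) h2 hm (i := und a) (Or.inl (by rw [h1])) ?_ ?_
    · rintro (e | ⟨b', hb', e⟩)
      · rw [h3] at e; exact e1 e.symm
      · rw [h3] at hb'; simp at hb'; subst hb'; exact e2 e.symm
    · have := Finset.card_union_add_card_inter (supp q) (supp r)
      have := card_supp q
      have := card_supp r
      have : 0 < (supp q ∩ supp r).card := Finset.card_pos.2 ⟨und w, Finset.mem_inter.2
        ⟨mem_supp.2 (Or.inr ⟨w.swap, by rw [h1], und_swap w⟩), mem_supp.2 (Or.inl (by rw [h3]))⟩⟩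
      omega
  · intro q r k l a w x h1 h3 h4 h5
    have e1 := root_und q (b := w.swap) (by rw [h1])
    rw [h1, und_swap] at e1
    refine sep_three (fr := fr) h2 hm (i := und a) (Or.inl (by rw [h1])) ?_ ?_
    · rintro (e | ⟨b', hb', e⟩)
      · rw [h3] at e; exact e1 e.symm
      · rw [h3] at hb'; simp at hb'
    · have := card_supp q
      have := card_supp r
      have := Finset.card_union_le (supp q) (supp r)
      have : (supp r).card = 1 := by simp [supp, h3]
      omega
  · intro q r l a w x h1 h3 h4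
    have e1 := root_und l (b := a) (by rw [h4])
    rw [h4] at e1
    refine sep_three (fr := fr) h2 hm (i := und a) (Or.inl (by rw [h1])) ?_ ?_
    · rintro (e | ⟨b', hb', e⟩)
      · rw [h3] at e; exact e1 e
      · rw [h3] at hb'; simp at hb'
    · have := Finset.card_union_le (supp q) (supp r)
      have : (supp r).card = 1 := by simp [supp, h3]
      have : (supp q).card = 1 := by simp [supp, h1]
      omega

end

end CfsgLib.Known.SpinMult
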