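import Cfsg.Agent.Lib.Known.SpinMult.Graded
import Cfsg.Agent.Lib.Classical.Quad.Eichler

/-!
# The torus, perfectness and the orthogonal image of a spin group
-/

set_option autoImplicit false
set_option linter.unusedSectionVars false

namespace CfsgLib.Known.SpinMult

noncomputable section

open CliffordAlgebra QuadraticMap CfsgLib.Classical.Quad
open scoped commutatorElement

variable {F : Type*} [Field F] {V : Type*} [AddCommGroup V] [Module F V] {Q : QuadraticForm F V} {m : ℕ}
  {S : Type} [Fintype S] [DecidableEq S] (fr : Frame Q m S)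

theorem idLift : LiftFam fr (MonoidHom.id (Spin fr)) (rt fr) where
  lift _ _ _ := rfl
  add q t u _ := rt_add fr q t u
  flip q b h t _ := rt_flipPair fr q b h t
  comm q r hq hr t u := comm_mem_Up fr q r hq hr t u

theorem Up_isPGroup {p : ℕ} [Fact p.Prime] [CharP F p] : IsPGroup p (Up fr 1) :=
  isPGroup_MM (idLift fr)

theorem isMon_prod {α : Type*} [DecidableEq α] {G : Type*} [CommGroup G] (θ : G →* Spin fr) (g : α → G)
    (d : α → S ⊕ Idx m → F) (h : ∀ k, IsMon fr (θ (g k)) 1 (d k)) (s : Finset α) :
    IsMon fr (θ (∏ k ∈ s, g k)) 1 (fun j => ∏ k ∈ s, d k j) := by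
  induction s using Finset.induction with
  | empty => simpa using isMon_one (fr := fr)
  | @insert k s hk ih =>
    rw [Finset.prod_insert hk, map_mul]
    have := (h k).mul ih
    rw [one_mul] at this
    convert this using 1
    funext j
    rw [Finset.prod_insert hk]
    cases j <;> rfl

include fr in
theorem neg_one_ne (h2 : (2 : F) ≠ 0) : (-1 : CliffordAlgebra Q) ≠ 1 := by
  intro h
  rw [← map_one (algebraMap F (CliffordAlgebra Q)), ← map_neg] at h
  exact h2 (by linear_combination -(algebraMap_inj fr.bm h))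

theorem hD_one (q : Root S m) (j : S ⊕ Idx m) : hD q (1 : F) j = 1 := by
  unfold hD
  rcases q.1.2 with s | b <;> rcases j with s' | x <;> simp

variable (hm : 2 ≤ m)

theorem torusFree [Finite F] (p : ℕ) [Fact p.Prime] [CharP F p] : (spinSys fr hm p).TorusFree := by
  classical
  intro θ hθ x hx
  obtain ⟨w, hw⟩ : ∃ w : S ⊕ Idx m → F, w = fun j => ∏ k, hD (sim fr hm k) (x k : F) j := ⟨_, rfl⟩
  have hmon : IsMon fr (θ x) 1 w := by
    have h := isMon_prod fr θ (fun k => Pi.mulSingle k (x k)) (fun k => hD (sim fr hm k) (x k : F))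
      (fun k => by rw [hθ]; exact isMon_cor fr (sim fr hm k) (x k).ne_zero) Finset.univ
    rwa [Finset.univ_prod_mulSingle, ← hw] at h
  have hd : ∀ j, w j = 1 := fun j => by
    have h := (Up_le_Lvl fr hx).1 j j (by omega)
    rw [hmon.2 j, show Sum.map id (⇑(1 : Equiv.Perm (Idx m))) j = j by cases j <;> rfl, map_sub, map_smul] at h
    simpa [sub_eq_zero] using h
  replace hd : ∀ j, (∏ k, hD (sim fr hm k) (x k : F) j) = 1 := fun j => by simpa only [hw] using hd j
  have hlo : ∀ n : ℕ, ∀ k : Fin m, k.1 = n → k.1 + 1 < m →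
      (0 < Fintype.card S ∨ k.1 + 2 < m) → x k = 1 := by
    intro n
    induction n using Nat.strong_induction_on with
    | _ n ih =>
    intro k hk hk1 hk2
    have := hd (Sum.inr (Sum.inl k))
    rw [Finset.prod_eq_single k] at this
    · simp [hD, sim, hk1] at this
      exact this
    · intro l _ hl
      have hl' : l.1 ≠ k.1 := fun e => hl (Fin.ext e)
      by_cases h1 : l.1 + 1 = k.1
      · rw [ih l.1 (by omega) l rfl (by omega) (hk2.imp id fun h => by omega)]
        simp [hD_one]
      · unfold sim
        split_ifs with e1 e2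
        · simp [hD, Fin.ext_iff]
          all_goals first | (intros; exfalso; omega) | (split_ifs <;> first | rfl | (exfalso; omega))
        · simp [hD, Fin.ext_iff]
          all_goals first | (intros; exfalso; omega) | (split_ifs <;> first | rfl | (exfalso; omega))
        · rcases hk2 with h | h
          · exact absurd h e2
          · simp [hD, Fin.ext_iff]
            all_goals first | (intros; exfalso; omega) | (split_ifs <;> first | rfl | (exfalso; omega))
    · simp
  obtain ⟨last, hlast⟩ : ∃ last : Fin m, last.1 + 1 = m := ⟨⟨m - 1, by omega⟩, by simp; omega⟩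
  have hne : ∀ k : Fin m, k ≠ last → k.1 + 1 < m := fun k hk => by
    have := k.2
    have : k.1 ≠ last.1 := fun e => hk (Fin.ext e)
    omega
  have hfin : ∀ c : Fˣ, (c : F) = -1 → (2 : F) ≠ 0 → val fr (θ x) ≠ -1 := by
    intro c _ h2 hv
    have h1 : θ x * θ x = 1 := ext_val fr (by rw [val_mul, hv, val_one]; simp)
    obtain ⟨e, he⟩ := Up_isPGroup fr (p := p) ⟨θ x, hx⟩
    have hp2 : p ≠ 2 := fun e' => h2 (by subst e'; exact_mod_cast CharP.cast_eq_zero F 2)
    have hodd : Odd (p ^ e) := ((Fact.out (p := p.Prime)).odd_of_ne_two hp2).pow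
    obtain ⟨l, hl⟩ := hodd
    have he' : θ x ^ (2 * l + 1) = 1 := by rw [← hl]; exact congrArg Subtype.val he
    rw [pow_succ, pow_mul, pow_two, h1, one_pow, one_mul] at he'
    rw [he', val_one] at hv
    exact neg_one_ne fr h2 hv.symm
  by_cases hS : 0 < Fintype.card S
  · have hx1 : ∀ k, k ≠ last → x k = 1 := fun k hk => hlo k.1 k rfl (hne k hk) (Or.inl hS)
    have hxs : x = Pi.mulSingle last (x last) := funext fun k => by
      by_cases hk : k = last
      · subst hk; rw [Pi.mulSingle_eq_same]
      · rw [hx1 k hk, Pi.mulSingle_eq_of_ne hk]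
    have hsim : sim fr hm last = ⟨(Sum.inl last, Sum.inl (Fintype.card_pos_iff.1 hS).some), by simp, by simp⟩ := by
      rw [sim, dif_neg (by omega), dif_pos hS]
    have hsq := hd (Sum.inr (Sum.inl last))
    rw [Finset.prod_eq_single last] at hsq
    · obtain ⟨a, ha⟩ : ∃ a : F, a = x last := ⟨_, rfl⟩
      rw [← ha] at hsq
      simp [hsim, hD] at hsq
      rw [ha] at hsq
      rcases hsq with h | h
      · rw [hxs, show x last = 1 from Units.ext h]; simp
      · by_cases h2 : (2 : F) = 0
        · have h' : (x last : F) = 1 := by rw [h]; linear_combination -h2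
          rw [hxs, show x last = 1 from Units.ext h']; simp
        refine absurd ?_ (hfin _ h h2)
        rw [hxs, hθ, h]
        exact neg_one_short fr (sim fr hm last) (by rw [hsim])
    · intro k _ hk
      rw [hx1 k hk]
      simp [hD_one]
    · simp
  · obtain ⟨pre, hpre⟩ : ∃ pre : Fin m, pre.1 + 2 = m := ⟨⟨m - 2, by omega⟩, by simp; omega⟩
    have hx1 : ∀ k, k ≠ last → k ≠ pre → x k = 1 := fun k hk hk' => by
      have : k.1 ≠ pre.1 := fun e => hk' (Fin.ext e)
      have := hne k hk
      exact hlo k.1 k rfl (hne k hk) (Or.inr (by omega))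
    have hpl : pre ≠ last := fun e => by rw [e] at hpre; omega
    have hxs : x = Pi.mulSingle pre (x pre) * Pi.mulSingle last (x last) := funext fun k => by
      rw [Pi.mul_apply]
      by_cases hk : k = last
      · subst hk; rw [Pi.mulSingle_eq_same, Pi.mulSingle_eq_of_ne hpl.symm, one_mul]
      by_cases hk' : k = pre
      · subst hk'; rw [Pi.mulSingle_eq_same, Pi.mulSingle_eq_of_ne hpl, mul_one]
      rw [hx1 k hk hk', Pi.mulSingle_eq_of_ne hk, Pi.mulSingle_eq_of_ne hk', one_mul]
    have hs1 : (sim fr hm pre).1 = (Sum.inl pre, Sum.inr (Sum.inr last)) := by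
      rw [sim, dif_pos (show pre.1 + 1 < m by omega)]
      simp [Fin.ext_iff]; omega
    have hs2 : (sim fr hm last).1 = (Sum.inl pre, Sum.inr (Sum.inl last)) := by
      rw [sim, dif_neg (by omega), dif_neg hS]
      simp [Fin.ext_iff]; omega
    have hprod : ∀ j, hD (sim fr hm pre) (x pre : F) j * hD (sim fr hm last) (x last : F) j = 1 := fun j => by
      rw [← hd j, ← Finset.prod_subset (Finset.subset_univ {pre, last}), Finset.prod_pair hpl]
      intro k _ hk
      simp only [Finset.mem_insert, Finset.mem_singleton, not_or] at hk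
      rw [hx1 k hk.2 hk.1]
      simp [hD_one]
    have e1 := hprod (Sum.inr (Sum.inl pre))
    have e2 := hprod (Sum.inr (Sum.inl last))
    simp [hD, hs1, hs2, hpl, hpl.symm] at e1 e2
    have hval : (x last : F) = x pre := by
      have := (x pre).ne_zero
      field_simp at e2
      exact e2
    rw [hval] at e1
    rcases mul_self_eq_one_iff.1 e1 with h | h
    · rw [hxs, show x pre = 1 from Units.ext h, show x last = 1 from Units.ext (hval.trans h)]; simp
    · by_cases h2 : (2 : F) = 0
      · have h' : (x pre : F) = 1 := by rw [h]; linear_combination -h2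
        rw [hxs, show x pre = 1 from Units.ext h', show x last = 1 from Units.ext (hval.trans h')]; simp
      refine absurd ?_ (hfin _ h h2)
      rw [hxs, map_mul, hθ, hθ, h, hval.trans h]
      exact neg_one_long fr (sim fr hm pre) (sim fr hm last) (a := Sum.inl pre) (b := Sum.inr last) hs1
        (by rw [hs2]; rfl)

theorem card_index : Fintype.card (Idx m) = 2 * m := by simp [two_mul]

theorem exists_third (hm3 : 3 ≤ m) (a b : Idx m) : ∃ c : Idx m, c ≠ a ∧ c ≠ a.swap ∧ c ≠ b ∧ c ≠ b.swap := by
  classical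
  obtain ⟨c, -, hc⟩ := Finset.exists_mem_notMem_of_card_lt_card (t := Finset.univ) (s := ({a, a.swap, b, b.swap} : Finset (Idx m)))
    (lt_of_le_of_lt Finset.card_le_four (by rw [Finset.card_univ, card_index]; omega))
  simp only [Finset.mem_insert, Finset.mem_singleton, not_or] at hc
  exact ⟨c, hc⟩

/-- the spin group is perfect -/
theorem perfect (hm3 : 3 ≤ m) : commutator (Spin fr) = ⊤ := by
  have hlong : ∀ (q : Root S m) (b : Idx m), q.1.2 = Sum.inr b → ∀ t, rt fr q t ∈ commutator (Spin fr) := by
    intro q b hb t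
    obtain ⟨c, c1, c2, c3, c4⟩ := exists_third hm3 q.1.1 b
    have h := bracket_long fr ⟨(q.1.1, Sum.inr c.swap), by simp; exact fun e => c2 (by rw [← e, Sum.swap_swap]),
        by simp; exact fun e => c1 (Sum.swap_leftInverse.injective e)⟩
      ⟨(c, Sum.inr b), by simp; exact c3.symm, by simp; exact fun e => c4 (by rw [e, Sum.swap_swap])⟩ q rfl rfl
      (Prod.ext rfl hb) t 1
    rw [mul_one] at h
    rw [← h, commutator_def]
    exact Subgroup.commutator_mem_commutator (Subgroup.mem_top _) (Subgroup.mem_top _)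
  rw [eq_top_iff]
  rintro ⟨g, hg⟩ -
  induction hg using Subgroup.closure_induction with
  | one => exact one_mem _
  | mul a b ha hb iha ihb => exact mul_mem iha ihb
  | inv a ha iha => exact inv_mem iha
  | mem a ha =>
    obtain ⟨q, t, rfl⟩ := ha
    show rt fr q t ∈ _
    rcases hb : q.1.2 with s | b
    · obtain ⟨c, c1, c2, -, -⟩ := exists_third hm3 q.1.1 q.1.1
      obtain ⟨l, hl⟩ : ∃ l : Root S m, l.1 = (q.1.1, Sum.inr c) :=
        ⟨⟨(q.1.1, Sum.inr c), by simpa using c1, by simpa using c2⟩, rfl⟩
      have h := bracket_mixed fr ⟨(q.1.1, Sum.inr c.swap), by simp; exact fun e => c2 (by rw [← e, Sum.swap_swap]),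
          by simp; exact fun e => c1 (Sum.swap_leftInverse.injective e)⟩ ⟨(c, Sum.inl s), by simp, by simp⟩ q l rfl rfl (Prod.ext rfl hb) hl t 1
      rw [one_pow, mul_one, ← inv_mul_eq_iff_eq_mul] at h
      rw [← h]
      refine mul_mem (inv_mem (hlong l c (by rw [hl]) t)) ?_
      rw [commutator_def]
      exact Subgroup.commutator_mem_commutator (Subgroup.mem_top _) (Subgroup.mem_top _)
    · exact hlong q b hb t

theorem toO_rt [FiniteDimensional F V] (q : Root S m) (t : F) : toO fr (rt fr q t) = eich (nondeg fr) (fr.sing q.1.1)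
    (a := t • fr.e q.1.2) (by rw [polar_smul_right', perp_root, mul_zero]) := by
  refine Subtype.ext (LinearEquiv.ext fun z => ?_)
  show ap fr (rt fr q t) z = _
  rw [eich_apply, ap_rt, polar_smul_right', apply_smul, polar_comm (⇑Q) (fr.e q.1.2) z,
    polar_comm (⇑Q) (fr.e (Sum.inr q.1.1)) z]
  match_scalars <;> ring

/-- the image of the spin group is the commutator subgroup of the orthogonal group -/
theorem range_toO [Finite F] [FiniteDimensional F V] (hn : 5 ≤ Module.finrank F V) : (toO fr).range = commutator (OQ Q) := by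
  rw [← eichGroup_eq_commutator (nondeg fr) hn]
  refine le_antisymm ?_ ((Subgroup.closure_le _).2 ?_)
  · rintro _ ⟨⟨g, hg⟩, rfl⟩
    induction hg using Subgroup.closure_induction with
    | one =>
      show toO fr (1 : Spin fr) ∈ _
      rw [map_one]
      exact one_mem _
    | mul a b ha hb iha ihb =>
      show toO fr ((⟨a, ha⟩ : Spin fr) * ⟨b, hb⟩) ∈ _
      rw [map_mul]
      exact mul_mem iha ihb
    | inv a ha iha =>
      show toO fr (⟨a, ha⟩ : Spin fr)⁻¹ ∈ _
      rw [map_inv]
      exact inv_mem iha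
    | mem a ha =>
      obtain ⟨q, t, rfl⟩ := ha
      show toO fr (rt fr q t) ∈ _
      rw [toO_rt]
      exact eich_mem (nondeg fr) hn _ _
  have hbase : ∀ (a : Idx m) (x : V) (hx : polar Q (fr.e (Sum.inr a)) x = 0),
      eich (nondeg fr) (fr.sing a) hx ∈ (toO fr).range := by
    intro a x hx
    have key : ∀ s : Finset (S ⊕ Idx m), ∀ c : S ⊕ Idx m → F, c (swapJ (Sum.inr a)) = 0 →
        ∀ h : polar Q (fr.e (Sum.inr a)) (∑ j ∈ s, c j • fr.e j) = 0,
          eich (nondeg fr) (fr.sing a) h ∈ (toO fr).range := by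
      intro s c hc
      induction s using Finset.induction with
      | empty =>
        intro h
        rw [eich_congr (nondeg fr) rfl Finset.sum_empty, eich_zero_right]
        exact one_mem _
      | @insert j s hj ih =>
        intro h
        have hj0 : polar Q (fr.e (Sum.inr a)) (c j • fr.e j) = 0 := by
          rw [polar_smul_right', polar_e]
          split_ifs with e
          · rw [e, hc, zero_mul]
          · rw [mul_zero]
        have hs : polar Q (fr.e (Sum.inr a)) (∑ i ∈ s, c i • fr.e i) = 0 := by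
          rw [Finset.sum_insert hj, polar_add_right', hj0, zero_add] at h; exact h
        rw [eich_congr (nondeg fr) rfl (Finset.sum_insert hj), ← eich_mul (nondeg fr) (fr.sing a) hj0 hs]
        refine mul_mem ?_ (ih hs)
        by_cases h1 : j = swapJ (Sum.inr a)
        · rw [eich_congr (nondeg fr) rfl (show c j • fr.e j = 0 by rw [h1, hc, zero_smul]), eich_zero_right]
          exact one_mem _
        by_cases h2 : j = Sum.inr a
        · have := eich_add_smul (nondeg fr) (fr.sing a) (a := 0) (QuadraticMap.polar_zero_right _ _) (c j)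
          rw [eich_zero_right] at this
          rw [eich_congr (nondeg fr) rfl (show c j • fr.e j = 0 + c j • fr.e (Sum.inr a) by rw [h2, zero_add]), this]
          exact one_mem _
        exact ⟨rt fr ⟨(a, j), h2, h1⟩ (c j), toO_rt fr _ _⟩
    have hrep : fr.e.repr x (swapJ (Sum.inr a)) = 0 := by
      rw [← fr.e.sum_repr x, ← QuadraticMap.polarBilin_apply_apply, map_sum, Finset.sum_eq_single (swapJ (Sum.inr a))] at hx
      · rw [map_smul, QuadraticMap.polarBilin_apply_apply, polar_e, if_pos rfl, smul_eq_mul] at hx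
        exact (mul_eq_zero.1 hx).resolve_right (nu_ne fr _)
      · intro j _ hj
        rw [map_smul, QuadraticMap.polarBilin_apply_apply, polar_e, if_neg hj, smul_zero]
      · simp
    rw [eich_congr (nondeg fr) rfl (fr.e.sum_repr x).symm]
    exact key Finset.univ (fun j => fr.e.repr x j) hrep _
  rintro _ ⟨w, y, hw, hy, -, rfl⟩
  by_cases hw0 : w = 0
  · subst hw0
    rw [eich_zero_left]
    exact one_mem _
  obtain ⟨a, ha⟩ : ∃ a : Idx m, polar Q w (fr.e (Sum.inr a)) ≠ 0 := by
    by_contra h
    simp only [not_exists, not_not] at h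
    refine hw0 (fr.e.ext_elem fun j => ?_)
    rw [map_zero, Finsupp.zero_apply]
    have hrep : ∀ j, polar Q w (fr.e (swapJ j)) = fr.e.repr w j * nu S m j := fun j => by
      conv_lhs => rw [← fr.e.sum_repr w, ← QuadraticMap.polarBilin_apply_apply, map_sum, LinearMap.sum_apply,
        Finset.sum_eq_single j (fun k _ hk => by
          rw [map_smul, LinearMap.smul_apply, QuadraticMap.polarBilin_apply_apply, polar_e, if_neg, smul_zero]
          exact fun e => hk (by rw [← swapJ_swapJ k, ← e, swapJ_swapJ])) (by simp)]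
      rw [map_smul, LinearMap.smul_apply, QuadraticMap.polarBilin_apply_apply, polar_e, if_pos rfl, smul_eq_mul]
    rcases j with s | b
    · have hzero : ∀ b : Idx m, fr.e.repr w (Sum.inr b) = 0 := fun b => by
        have := hrep (Sum.inr b)
        rw [swapJ, Sum.map_inr, h] at this
        exact (mul_eq_zero.1 this.symm).resolve_right (nu_ne fr _)
      have hw' : w = fr.e.repr w (Sum.inl s) • fr.e (Sum.inl s) := by
        conv_lhs => rw [← fr.e.sum_repr w, Finset.sum_eq_single (Sum.inl s) (fun k _ hk => by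
          rcases k with s' | b
          · exact absurd (by rw [fr.sub s' s]) hk
          · rw [hzero, zero_smul]) (by simp)]
      have := hw
      rw [hw', apply_smul, fr.qs, mul_one] at this
      exact mul_self_eq_zero.1 this
    · have := hrep (Sum.inr b)
      rw [swapJ, Sum.map_inr, h] at this
      exact (mul_eq_zero.1 this.symm).resolve_right (nu_ne fr _)
  obtain ⟨lam, hlam⟩ : ∃ lam, lam = polar Q w (fr.e (Sum.inr a)) := ⟨_, rfl⟩
  rw [← hlam] at ha
  obtain ⟨w', hw'⟩ : ∃ w', w' = lam⁻¹ • w := ⟨_, rfl⟩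
  have hq : Q w' = 0 := by rw [hw', apply_smul, hw, mul_zero]
  have hf : polar Q w' (fr.e (Sum.inr a)) = 1 := by rw [hw', polar_smul_left', ← hlam, inv_mul_cancel₀ ha]
  have hex : polar Q (fr.e (Sum.inr a)) (fr.e (Sum.inr a.swap) - w') = 0 := by
    rw [QuadraticMap.polar_sub_right, fr.pair, if_pos rfl, polar_comm, hf, sub_self]
  obtain ⟨g, hg⟩ := hbase a _ hex
  have hge : (toO fr g : V ≃ₗ[F] V) (fr.e (Sum.inr a.swap)) = w' := by
    rw [hg, eich_apply, fr.pair, if_pos (Sum.swap_swap a).symm, QuadraticMap.polar_sub_right, polar_self', fr.sing,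
      sub_eq_add_neg (fr.e (Sum.inr a.swap)), apply_add, QuadraticMap.map_neg, fr.sing, hq,
      QuadraticMap.polar_neg_right]
    simp only [mul_zero, zero_add, mul_one]
    module
  have e : eich (nondeg fr) hw hy = eich (nondeg fr) (w := w') (a := lam • y) hq
      (by rw [hw', polar_smul_left', polar_smul_right', hy, mul_zero, mul_zero]) := by
    rw [← eich_smul_left (nondeg fr) hq (a := y) (by rw [hw', polar_smul_left', hy, mul_zero]) lam]
    exact eich_congr (nondeg fr) (by rw [hw', smul_smul, mul_inv_cancel₀ ha, one_smul]) rfl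
  rw [e]
  obtain ⟨z, hz⟩ : ∃ z, z = ((toO fr g)⁻¹ : OQ Q).1 (lam • y) := ⟨_, rfl⟩
  have hperp : polar Q (fr.e (Sum.inr a.swap)) z = 0 := by
    rw [hz, ← OQ.map_polar (toO fr g), hge, show (toO fr g : V ≃ₗ[F] V) ((((toO fr g)⁻¹ : OQ Q) : V ≃ₗ[F] V) (lam • y)) = lam • y from
      (toO fr g : V ≃ₗ[F] V).apply_symm_apply _, hw', polar_smul_left', polar_smul_right', hy, mul_zero, mul_zero]
  have hconj := eich_conj (nondeg fr) (toO fr g) (fr.sing a.swap) hperp
  rw [eich_congr (nondeg fr) hge.symm (show lam • y = (toO fr g : V ≃ₗ[F] V) z by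
    rw [hz]; exact ((toO fr g : V ≃ₗ[F] V).apply_symm_apply _).symm), ← hconj]
  exact mul_mem (mul_mem ⟨g, rfl⟩ (hbase _ _ hperp)) (inv_mem ⟨g, rfl⟩)

end

end CfsgLib.Known.SpinMult
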